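import Cfsg.Agent.Schur.PrimeCert
import Cfsg.Agent.ThRep.Data.Syl2
import Cfsg.Agent.ThRep.Data.Syl2Mat
import Cfsg.Agent.ThMult.P2Mat0
import Cfsg.Agent.ThMult.P2Mat1
import Cfsg.Agent.ThMult.P2Mat2

/-!
A certificate at the prime 2 for the presented Thompson group.
-/

set_option autoImplicit false
set_option maxRecDepth 100000
set_option maxHeartbeats 4000000
set_option exponentiation.threshold 3000


namespace Cfsg.Lib.ThMult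

/-- The matrices. -/
def th2Mats : List (List ℕ) :=
  Cfsg.Lib.ThRep.p2Mats ++ [th2M15 , th2M16 , th2M17 , th2M18 , th2M19 , th2M20 , th2M21 , th2M22 , th2M23 , th2M24 , th2M25 , th2M26 , th2M27 , th2M28 , th2M29 , th2M30 , th2M31 , th2M32 , th2M33 , th2M34 , th2M35 , th2M36 , th2M37 , th2M38 , th2M39 , th2M40 , th2M41 , th2M42 , th2M43 , th2M44]

/-- The definitions of the members. -/
def th2Defs : List (Bool × List ℕ) :=
  (Cfsg.Lib.ThRep.p2Words.map fun w => (true, w)) ++ [(true, [2, 15, 6, 4, 12, 11, 7, 9, 10, 11, 12, 12, 4, 11, 9, 13, 11, 1, 6, 5, 12, 2, 3, 1, 1, 5, 6, 6, 1, 15, 15, 11, 0, 13, 15, 9, 13, 10, 14, 14, 3, 6, 4, 5, 2, 11, 12, 15, 4, 8, 3, 8, 5, 9, 7, 1, 15, 1, 11, 11, 10, 1, 0, 14, 15, 4, 3, 10, 9, 14]),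
   (true, [8, 11, 0, 14, 7, 1, 5, 3, 11, 15, 7, 12, 3, 7, 0, 6, 13, 8, 5, 12, 5, 2, 4, 14, 4, 4, 0, 0, 6, 6, 5, 5, 9, 10, 6, 6, 5, 6, 12, 9, 0, 11, 13, 5, 4, 8, 2, 10, 9, 0, 10, 2, 9, 11, 9, 15, 10, 5, 15, 15, 5, 1, 8, 0, 11, 12, 0, 13, 11, 12]),
   (true, [1, 3, 3, 7, 3, 4, 9, 14, 4, 5, 5, 13, 5, 2, 6, 1, 3, 12, 2, 8, 1, 3, 12, 4, 0, 13, 2, 10, 15, 15, 11, 11, 1, 4, 9, 4, 9, 7, 8, 2, 7, 8, 9, 4, 7, 11, 14, 12, 5, 4, 0, 10, 2, 1, 2, 3, 14, 7, 12, 14, 15, 10, 3, 0, 12, 1, 4, 13, 7, 3]),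
   (true, [0, 9, 14, 7, 3, 4, 9, 15, 2, 8, 12, 10, 4, 4, 2, 15, 7, 2, 13, 7, 8, 1, 15, 7, 1, 6, 9, 11, 3, 2, 13, 10, 12, 0, 9, 4, 0, 14, 4, 0, 1, 13, 8, 3, 12, 4, 10, 2, 9, 5, 4, 8, 15, 10, 9, 1, 2, 0, 0, 3, 1, 4, 11, 13, 8, 0, 7, 13, 4, 11]),
   (true, [6, 10, 11, 0, 5, 5, 3, 8, 5, 4, 14, 13, 13, 3, 10, 10, 14, 7, 14, 13, 5, 14, 1, 5, 15, 15, 0, 3, 4, 13, 1, 6, 0, 1, 7, 15, 11, 12, 14, 6, 6, 8, 6, 9, 11, 7, 11, 11, 7, 1, 15, 12, 11, 4, 4, 7, 15, 12, 1, 3, 5, 12, 3, 9, 6, 10, 15, 15, 2, 6]),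
   (true, [4, 12, 0, 15, 8, 7, 15, 1, 7, 15, 8, 4, 9, 9, 15, 15, 3, 0, 4, 9, 9, 10, 9, 0, 14, 11, 11, 4, 1, 0, 8, 14, 3, 6, 0, 13, 13, 15, 12, 15, 12, 6, 9, 14, 2, 9, 0, 13, 9, 15, 9, 4, 5, 15, 15, 10, 4, 13, 1, 2, 7, 8, 2, 2, 0, 10, 13, 2, 12, 15]),
   (false, [18, 19, 20]),
   (true, [12, 4, 3, 12, 5, 15, 10, 5, 2, 15, 8, 11, 2, 11, 1, 9, 11, 8, 15, 8, 9, 10, 5, 0, 15, 8, 10, 8, 14, 9, 11, 11, 8, 11, 13, 11, 5, 14, 11, 10, 4, 5, 6, 11, 15, 9, 2, 13, 5, 13, 9, 8, 0, 6, 5, 14, 5, 7, 5, 1, 15, 7, 5, 1, 4, 3, 10, 5, 15, 6]),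
   (false, [15, 16, 17, 21, 22, 17, 21]),
   (true, [14, 13, 3, 12, 11, 1, 3, 3, 9, 6, 3, 0, 12, 5, 11, 14, 14, 4, 5, 8, 14, 8, 12, 1, 8, 3, 15, 8, 7, 13, 14, 13, 14, 12, 12, 1, 7, 2, 15, 9, 1, 0, 5, 10, 10, 15, 1, 8, 11, 8, 8, 5, 1, 2, 14, 14, 8, 8, 5, 9, 14, 6, 0, 14, 6, 9, 14, 1, 13, 5]),
   (true, [7, 3, 14, 14, 11, 7, 8, 2, 13, 4, 2, 0, 13, 14, 6, 5, 5, 10, 13, 14, 0, 6, 10, 10, 6, 10, 8, 7, 9, 7, 7, 15, 13, 10, 14, 6, 0, 1, 7, 0, 12, 5, 2, 1, 14, 14, 4, 0, 15, 4, 12, 15, 6, 15, 11, 11, 2, 12, 12, 15, 5, 4, 9, 2, 4, 4, 1, 10, 11, 7]),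
   (true, [10, 5, 12, 6, 1, 9, 12, 10, 5, 0, 2, 1, 1, 3, 0, 8, 11, 14, 9, 5, 4, 8, 3, 11, 5, 13, 2, 9, 12, 0, 1, 5, 15, 1, 5, 8, 1, 13, 11, 12, 3, 2, 10, 8, 7, 0, 6, 14, 0, 9, 6, 12, 3, 6, 14, 3, 5, 5, 11, 13, 9, 3, 14, 8, 5, 2, 6, 15, 8, 1]),
   (false, [24, 25, 26]),
   (true, [2, 6, 12, 5, 0, 13, 1, 2, 11, 14, 15, 13, 6, 15, 2, 3, 0, 3, 11, 1, 5, 4, 13, 15, 10, 6, 5, 8, 9, 6, 3, 9, 6, 8, 5, 8, 5, 0, 10, 10, 14, 14, 11, 3, 12, 1, 5, 13, 2, 0, 9, 3, 13, 2, 0, 7, 3, 4, 12, 4, 4, 5, 15, 8, 5, 2, 6, 2, 2, 0]),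
   (true, [7, 14, 4, 11, 2, 5, 0, 4, 6, 14, 0, 4, 6, 4, 15, 4, 7, 1, 9, 8, 12, 4, 12, 3, 8, 14, 10, 7, 4, 5, 11, 10, 15, 4, 10, 12, 10, 9, 10, 10, 8, 15, 9, 11, 9, 14, 1, 4, 11, 8, 9, 14, 9, 10, 8, 0, 10, 3, 10, 9, 14, 3, 4, 11, 14, 4, 13, 2, 5, 13]),
   (true, [13, 10, 12, 1, 13, 10, 1, 9, 0, 4, 14, 14, 4, 11, 14, 8, 10, 8, 3, 11, 1, 8, 11, 3, 9, 5, 4, 12, 10, 1, 8, 13, 7, 4, 7, 7, 11, 8, 4, 4, 7, 7, 1, 1, 5, 5, 15, 5, 3, 4, 13, 4, 9, 12, 7, 1, 6, 2, 13, 6, 14, 10, 2, 4, 0, 6, 15, 1, 10, 9]),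
   (true, [15, 8, 11, 2, 5, 14, 15, 1, 0, 11, 10, 10, 0, 14, 0, 6, 8, 4, 9, 2, 9, 5, 14, 13, 10, 3, 4, 5, 7, 2, 15, 15, 11, 12, 8, 14, 12, 1, 10, 14, 14, 0, 7, 7, 4, 0, 0, 2, 3, 13, 4, 7, 0, 10, 12, 8, 10, 5, 13, 13, 10, 11, 8, 6, 10, 13, 5, 7, 14, 3]),
   (false, [0, 27, 28, 29, 27, 28, 30, 31, 0, 23]),
   (false, [32, 32]),
   (false, [33, 33]),
   (false, [23, 33, 34, 34]),
   (true, [8, 10, 8, 11, 10, 12, 3, 8, 6, 13, 11, 3, 8, 8, 1, 7, 13, 11, 6, 7, 3, 12, 10, 1, 1, 7, 2, 2, 15, 0, 7, 0, 6, 15, 10, 13, 14, 3, 15, 5, 15, 2, 2, 13, 5, 14, 14, 6, 7, 3, 2, 15, 12, 11, 4, 4, 0, 0, 7, 14]),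
   (true, [13, 0, 10, 10, 4, 8, 4, 15, 2, 13, 8, 11, 4, 2, 4, 14, 15, 13, 0, 6, 15, 14, 0, 9, 14, 4, 14, 11, 13, 10, 11, 0, 3, 6, 7, 1, 3, 9, 15, 0, 2, 4, 2, 14, 10, 11, 1, 1, 7, 11, 14, 1, 12, 15, 13, 2, 2, 8, 10, 13]),
   (true, [12, 11, 9, 3, 3, 12, 14, 13, 0, 15, 10, 6, 0, 0, 10, 11, 15, 3, 5, 3, 1, 14, 8, 2, 0, 6, 7, 2, 1, 10, 11, 12, 10, 15, 5, 15, 8, 1, 15, 14, 7, 1, 12, 14, 15, 5, 3, 5, 10, 9, 12, 3, 14, 5, 9, 5, 11, 11, 1, 12]),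
   (true, [15, 6, 1, 1, 5, 5, 10, 13, 14, 3, 2, 6, 7, 15, 15, 4, 12, 3, 3, 14, 4, 14, 2, 15, 12, 11, 14, 7, 1, 6, 1, 14, 3, 3, 6, 0, 0, 11, 13, 2, 6, 7, 10, 12, 6, 0, 9, 9, 2, 10, 12, 7, 9, 2, 13, 11, 10, 9, 11, 9]),
   (false, [1, 36, 37, 1, 38, 39]),
   (false, [40, 40]),
   (false, [41, 41]),
   (false, [41, 42, 42]),
   (false, [43, 13, 13, 43])]

/-- The members of the generators. -/
def th2Pc : List ℕ := [14, 13, 12, 11, 10, 9, 8, 7, 6, 5, 4, 3, 2, 1, 0]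

/-- The conjugating members. -/
def th2Fw : List ℕ := [35, 44]

/-- The certificate. -/
def th2Cert : Cfsg.Lib.Schur.Prime.Cert where
  p := 2
  n := 15
  tails := [[[4, 5, 6, 9, 10, 12]], [[0, 1, 4, 7, 8, 9, 12], [5, 6, 8, 9, 10, 12]], [[0, 2, 4, 10, 11, 13, 14], [1, 2, 6, 7, 9, 10, 12], [5, 7, 9, 10, 12, 13]], [[0, 3, 4, 5, 6, 8, 10, 11, 13, 14], [1, 3, 5, 6, 9, 12], [2, 3, 5, 6, 8, 11, 12], [8, 10, 12]], [[0, 4, 7, 13, 14], [1, 4, 7, 9, 10, 14], [2, 4, 7, 8, 10, 11, 13], [3, 4, 9, 10, 12, 13, 14], [10, 12]], [[0, 5, 7, 8, 10, 11, 12, 13], [1, 5, 8, 10, 12, 13, 14], [2, 5, 9, 13, 14], [3, 5, 8, 10, 12, 14], [4, 5, 9, 12, 13], [14]], [[0, 6, 8, 10, 12, 13], [1, 6, 8, 10, 11, 12], [2, 6, 8, 9], [3, 6, 8, 10, 11, 12, 13, 14], [4, 6, 9, 10, 11, 12, 13, 14], [5, 6, 13], [12]], [[0, 7, 10, 11, 13, 14], [1, 7, 10, 11, 12, 13], [2, 7, 9, 11, 12], [3, 7, 10, 11,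 12, 13, 14], [4, 7, 12, 13], [5, 7, 12, 14], [6, 7, 12, 14], [14]], [[0, 8, 9, 10, 11, 12, 14], [1, 8, 14], [2, 8, 12, 13], [3, 8, 12, 14], [4, 8, 11, 12, 14], [5, 8, 12, 14], [6, 8, 12, 14], [7, 8, 12, 13, 14], [13]], [[0, 9, 11, 13], [1, 9, 11, 13], [2, 9], [3, 9, 11, 14], [4, 9, 12], [5, 9], [6, 9, 12, 13, 14], [7, 9, 14], [8, 9, 13], []], [[0, 10, 12], [1, 10, 14], [2, 10, 11, 12], [3, 10, 12, 13, 14], [4, 10, 14], [5, 10, 12, 14], [6, 10, 12, 13], [7, 10, 14], [8, 10, 13], [9, 10, 14], []], [[0, 11, 13, 14], [1, 11, 12], [2, 11, 12, 13, 14], [3, 11, 13, 14], [4, 11, 13, 14], [5, 11, 13, 14], [6, 11, 14], [7, 11, 14], [8, 11], [9, 11], [10, 11], []], [[0, 12, 13, 14], [1, 12, 13], [2, 12, 13], [3, 12, 13], [4, 12, 14], [5, 12], [6, 12], [7, 12], [8, 12], [9, 12], [10, 12], [11, 12], []], [[0, 13, 14], [1, 13], [2, 13], [3, 13], [4, 13], [5, 13], [6, 13],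 [7, 13], [8, 13], [9, 13], [10, 13], [11, 13], [12, 13], []], [[0, 14], [1, 14], [2, 14], [3, 14], [4, 14], [5, 14], [6, 14], [7, 14], [8, 14], [9, 14], [10, 14], [11, 14], [12, 14], [13, 14], []]]
  overlaps := [([0, 0, 0], 1), ([1, 0, 0], 1), ([1, 1, 0], 1), ([2, 1, 0], 1), ([3, 1, 0], 1), ([4, 1, 0], 1), ([5, 1, 0], 1), ([6, 1, 0], 1), ([7, 1, 0], 1), ([8, 1, 0], 1), ([9, 1, 0], 1), ([10, 1, 0], 1), ([11, 1, 0], 1), ([12, 1, 0], 1), ([13, 1, 0], 1), ([14, 1, 0], 1), ([2, 0, 0], 1), ([2, 2, 0], 1), ([3, 2, 0], 1), ([4, 2, 0], 1), ([5, 2, 0], 1), ([6, 2, 0], 1), ([7, 2, 0], 1), ([8, 2, 0], 1), ([9, 2, 0], 1), ([10, 2, 0], 1), ([11, 2, 0], 1), ([12, 2, 0], 1), ([13, 2, 0], 1), ([14, 2, 0], 1), ([3, 0, 0], 1), ([3, 3, 0], 1), ([4, 3, 0], 1), ([5, 3, 0], 1), ([6, 3, 0], 1), ([7, 3, 0], 1), ([8, 3, 0], 1), ([9, 3, 0], 1), ([10, 3, 0], 1), ([11, 3, 0], 1), ([12,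 3, 0], 1), ([13, 3, 0], 1), ([14, 3, 0], 1), ([4, 0, 0], 1), ([4, 4, 0], 1), ([5, 4, 0], 1), ([6, 4, 0], 1), ([7, 4, 0], 1), ([8, 4, 0], 1), ([9, 4, 0], 1), ([10, 4, 0], 1), ([11, 4, 0], 1), ([12, 4, 0], 1), ([13, 4, 0], 1), ([14, 4, 0], 1), ([5, 0, 0], 1), ([5, 5, 0], 1), ([6, 5, 0], 1), ([7, 5, 0], 1), ([8, 5, 0], 1), ([9, 5, 0], 1), ([10, 5, 0], 1), ([11, 5, 0], 1), ([12, 5, 0], 1), ([13, 5, 0], 1), ([14, 5, 0], 1), ([6, 0, 0], 1), ([6, 6, 0], 1), ([7, 6, 0], 1), ([8, 6, 0], 1), ([9, 6, 0], 1), ([10, 6, 0], 1), ([11, 6, 0], 1), ([12, 6, 0], 1), ([13, 6, 0], 1), ([14, 6, 0], 1), ([7, 0, 0], 1), ([7, 7, 0], 1), ([8, 7, 0], 1), ([9, 7, 0], 1), ([10, 7, 0], 1), ([11, 7, 0], 1), ([12, 7, 0], 1), ([13, 7, 0], 1), ([14, 7, 0], 1), ([8, 0, 0], 1), ([8, 8, 0], 1), ([9, 8, 0], 1), ([10, 8, 0], 1), ([11, 8, 0], 1), ([12, 8, 0], 1), ([13, 8, 0], 1), ([14, 8, 0], 1),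 ([9, 0, 0], 1), ([9, 9, 0], 1), ([10, 9, 0], 1), ([11, 9, 0], 1), ([12, 9, 0], 1), ([13, 9, 0], 1), ([14, 9, 0], 1), ([10, 0, 0], 1), ([10, 10, 0], 1), ([11, 10, 0], 1), ([12, 10, 0], 1), ([13, 10, 0], 1), ([14, 10, 0], 1), ([11, 0, 0], 1), ([11, 11, 0], 1), ([12, 11, 0], 1), ([13, 11, 0], 1), ([14, 11, 0], 1), ([12, 0, 0], 1), ([12, 12, 0], 1), ([13, 12, 0], 1), ([14, 12, 0], 1), ([13, 0, 0], 1), ([13, 13, 0], 1), ([14, 0, 0], 1), ([1, 1, 1], 1), ([2, 1, 1], 1), ([2, 2, 1], 1), ([3, 2, 1], 1), ([4, 2, 1], 1), ([5, 2, 1], 1), ([6, 2, 1], 1), ([7, 2, 1], 1), ([8, 2, 1], 1), ([9, 2, 1], 1), ([10, 2, 1], 1), ([11, 2, 1], 1), ([12, 2, 1], 1), ([13, 2, 1], 1), ([14, 2, 1], 1), ([3, 1, 1], 1), ([3, 3, 1], 1), ([4, 3, 1], 1), ([5, 3, 1], 1), ([6, 3, 1], 1), ([7, 3, 1], 1), ([8, 3, 1], 1), ([9, 3, 1], 1), ([10, 3, 1], 1), ([11, 3, 1], 1), ([12, 3, 1], 1), ([13, 3,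 1], 1), ([14, 3, 1], 1), ([4, 1, 1], 1), ([4, 4, 1], 1), ([5, 4, 1], 1), ([6, 4, 1], 1), ([7, 4, 1], 1), ([8, 4, 1], 1), ([9, 4, 1], 1), ([10, 4, 1], 1), ([11, 4, 1], 1), ([12, 4, 1], 1), ([13, 4, 1], 1), ([14, 4, 1], 1), ([5, 1, 1], 1), ([5, 5, 1], 1), ([6, 5, 1], 1), ([7, 5, 1], 1), ([8, 5, 1], 1), ([9, 5, 1], 1), ([10, 5, 1], 1), ([11, 5, 1], 1), ([12, 5, 1], 1), ([13, 5, 1], 1), ([14, 5, 1], 1), ([6, 1, 1], 1), ([6, 6, 1], 1), ([7, 6, 1], 1), ([8, 6, 1], 1), ([9, 6, 1], 1), ([10, 6, 1], 1), ([11, 6, 1], 1), ([12, 6, 1], 1), ([13, 6, 1], 1), ([14, 6, 1], 1), ([7, 1, 1], 1), ([7, 7, 1], 1), ([8, 7, 1], 1), ([9, 7, 1], 1), ([10, 7, 1], 1), ([11, 7, 1], 1), ([12, 7, 1], 1), ([13, 7, 1], 1), ([14, 7, 1], 1), ([8, 1, 1], 1), ([8, 8, 1], 1), ([9, 8, 1], 1), ([10, 8, 1], 1), ([11, 8, 1], 1), ([12, 8, 1], 1), ([13, 8, 1], 1), ([9, 1, 1], 1), ([9, 9, 1], 1), ([10,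 9, 1], 1), ([11, 9, 1], 1), ([12, 9, 1], 1), ([13, 9, 1], 1), ([14, 9, 1], 1), ([10, 1, 1], 1), ([10, 10, 1], 1), ([11, 10, 1], 1), ([12, 10, 1], 1), ([13, 10, 1], 1), ([11, 1, 1], 1), ([11, 11, 1], 1), ([12, 11, 1], 1), ([13, 11, 1], 1), ([14, 11, 1], 1), ([12, 1, 1], 1), ([12, 12, 1], 1), ([14, 12, 1], 1), ([13, 1, 1], 1), ([14, 1, 1], 1), ([2, 2, 2], 1), ([3, 2, 2], 1), ([3, 3, 2], 1), ([4, 3, 2], 1), ([5, 3, 2], 1), ([6, 3, 2], 1), ([7, 3, 2], 1), ([8, 3, 2], 1), ([9, 3, 2], 1), ([10, 3, 2], 1), ([11, 3, 2], 1), ([12, 3, 2], 1), ([13, 3, 2], 1), ([14, 3, 2], 1), ([4, 2, 2], 1), ([4, 4, 2], 1), ([5, 4, 2], 1), ([6, 4, 2], 1), ([7, 4, 2], 1), ([8, 4, 2], 1), ([9, 4, 2], 1), ([10, 4, 2], 1), ([11, 4, 2], 1), ([12, 4, 2], 1), ([13, 4, 2], 1), ([14, 4, 2], 1), ([5, 2, 2], 1), ([5, 5, 2], 1), ([6, 5, 2], 1), ([7, 5, 2], 1), ([8, 5, 2], 1), ([9, 5, 2], 1), ([10,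 5, 2], 1), ([11, 5, 2], 1), ([12, 5, 2], 1), ([13, 5, 2], 1), ([14, 5, 2], 1), ([6, 2, 2], 1), ([6, 6, 2], 1), ([7, 6, 2], 1), ([8, 6, 2], 1), ([9, 6, 2], 1), ([10, 6, 2], 1), ([11, 6, 2], 1), ([12, 6, 2], 1), ([13, 6, 2], 1), ([14, 6, 2], 1), ([7, 2, 2], 1), ([7, 7, 2], 1), ([8, 7, 2], 1), ([9, 7, 2], 1), ([10, 7, 2], 1), ([11, 7, 2], 1), ([12, 7, 2], 1), ([13, 7, 2], 1), ([14, 7, 2], 1), ([8, 2, 2], 1), ([8, 8, 2], 1), ([9, 8, 2], 1), ([10, 8, 2], 1), ([11, 8, 2], 1), ([12, 8, 2], 1), ([13, 8, 2], 1), ([14, 8, 2], 1), ([9, 2, 2], 1), ([10, 9, 2], 1), ([11, 9, 2], 1), ([12, 9, 2], 1), ([10, 2, 2], 1), ([10, 10, 2], 1), ([11, 10, 2], 1), ([12, 10, 2], 1), ([13, 10, 2], 1), ([14, 10, 2], 1), ([11, 2, 2], 1), ([11, 11, 2], 1), ([12, 11, 2], 1), ([13, 11, 2], 1), ([14, 11, 2], 1), ([12, 2, 2], 1), ([12, 12, 2], 1), ([14, 12, 2], 1), ([13, 2, 2], 1), ([14, 2,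 2], 1), ([3, 3, 3], 1), ([4, 3, 3], 1), ([4, 4, 3], 1), ([5, 4, 3], 1), ([6, 4, 3], 1), ([7, 4, 3], 1), ([8, 4, 3], 1), ([9, 4, 3], 1), ([10, 4, 3], 1), ([11, 4, 3], 1), ([12, 4, 3], 1), ([13, 4, 3], 1), ([14, 4, 3], 1), ([5, 3, 3], 1), ([5, 5, 3], 1), ([6, 5, 3], 1), ([7, 5, 3], 1), ([8, 5, 3], 1), ([9, 5, 3], 1), ([10, 5, 3], 1), ([11, 5, 3], 1), ([12, 5, 3], 1), ([13, 5, 3], 1), ([14, 5, 3], 1), ([6, 3, 3], 1), ([6, 6, 3], 1), ([7, 6, 3], 1), ([8, 6, 3], 1), ([9, 6, 3], 1), ([10, 6, 3], 1), ([11, 6, 3], 1), ([12, 6, 3], 1), ([13, 6, 3], 1), ([14, 6, 3], 1), ([7, 3, 3], 1), ([7, 7, 3], 1), ([8, 7, 3], 1), ([9, 7, 3], 1), ([10, 7, 3], 1), ([11, 7, 3], 1), ([12, 7, 3], 1), ([13, 7, 3], 1), ([14, 7, 3], 1), ([8, 3, 3], 1), ([8, 8, 3], 1), ([9, 8, 3], 1), ([10, 8, 3], 1), ([11, 8, 3], 1), ([12, 8, 3], 1), ([13, 8, 3], 1), ([14, 8, 3], 1), ([9, 3, 3], 1), ([9,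 9, 3], 1), ([10, 9, 3], 1), ([11, 9, 3], 1), ([12, 9, 3], 1), ([13, 9, 3], 1), ([14, 9, 3], 1), ([10, 3, 3], 1), ([10, 10, 3], 1), ([11, 10, 3], 1), ([12, 10, 3], 1), ([13, 10, 3], 1), ([14, 10, 3], 1), ([11, 3, 3], 1), ([11, 11, 3], 1), ([12, 11, 3], 1), ([13, 11, 3], 1), ([14, 11, 3], 1), ([12, 3, 3], 1), ([12, 12, 3], 1), ([14, 12, 3], 1), ([13, 3, 3], 1), ([14, 3, 3], 1), ([4, 4, 4], 1), ([5, 4, 4], 1), ([5, 5, 4], 1), ([6, 5, 4], 1), ([7, 5, 4], 1), ([8, 5, 4], 1), ([9, 5, 4], 1), ([10, 5, 4], 1), ([11, 5, 4], 1), ([12, 5, 4], 1), ([13, 5, 4], 1), ([14, 5, 4], 1), ([6, 4, 4], 1), ([6, 6, 4], 1), ([7, 6, 4], 1), ([8, 6, 4], 1), ([9, 6, 4], 1), ([10, 6, 4], 1), ([11, 6, 4], 1), ([12, 6, 4], 1), ([13, 6, 4], 1), ([14, 6, 4], 1), ([7, 4, 4], 1), ([7, 7, 4], 1), ([8, 7, 4], 1), ([9, 7, 4], 1), ([10, 7, 4], 1), ([11, 7, 4], 1), ([12, 7, 4], 1), ([13, 7, 4],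 1), ([14, 7, 4], 1), ([8, 4, 4], 1), ([8, 8, 4], 1), ([9, 8, 4], 1), ([10, 8, 4], 1), ([11, 8, 4], 1), ([12, 8, 4], 1), ([13, 8, 4], 1), ([14, 8, 4], 1), ([9, 4, 4], 1), ([9, 9, 4], 1), ([10, 9, 4], 1), ([11, 9, 4], 1), ([12, 9, 4], 1), ([13, 9, 4], 1), ([14, 9, 4], 1), ([10, 4, 4], 1), ([10, 10, 4], 1), ([11, 10, 4], 1), ([12, 10, 4], 1), ([13, 10, 4], 1), ([11, 4, 4], 1), ([11, 11, 4], 1), ([12, 11, 4], 1), ([13, 11, 4], 1), ([14, 11, 4], 1), ([12, 4, 4], 1), ([12, 12, 4], 1), ([13, 12, 4], 1), ([13, 4, 4], 1), ([14, 4, 4], 1), ([5, 5, 5], 1), ([6, 5, 5], 1), ([6, 6, 5], 1), ([7, 6, 5], 1), ([8, 6, 5], 1), ([9, 6, 5], 1), ([10, 6, 5], 1), ([11, 6, 5], 1), ([12, 6, 5], 1), ([14, 6, 5], 1), ([7, 5, 5], 1), ([7, 7, 5], 1), ([8, 7, 5], 1), ([9, 7, 5], 1), ([10, 7, 5], 1), ([11, 7, 5], 1), ([12, 7, 5], 1), ([13, 7, 5], 1), ([14, 7, 5], 1), ([8, 5, 5], 1), ([8,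 8, 5], 1), ([9, 8, 5], 1), ([10, 8, 5], 1), ([11, 8, 5], 1), ([12, 8, 5], 1), ([13, 8, 5], 1), ([14, 8, 5], 1), ([9, 5, 5], 1), ([10, 9, 5], 1), ([11, 9, 5], 1), ([10, 5, 5], 1), ([10, 10, 5], 1), ([11, 10, 5], 1), ([12, 10, 5], 1), ([13, 10, 5], 1), ([14, 10, 5], 1), ([11, 5, 5], 1), ([11, 11, 5], 1), ([12, 11, 5], 1), ([13, 11, 5], 1), ([14, 11, 5], 1), ([12, 5, 5], 1), ([13, 5, 5], 1), ([6, 6, 6], 1), ([7, 6, 6], 1), ([7, 7, 6], 1), ([8, 7, 6], 1), ([9, 7, 6], 1), ([10, 7, 6], 1), ([11, 7, 6], 1), ([12, 7, 6], 1), ([13, 7, 6], 1), ([14, 7, 6], 1), ([8, 6, 6], 1), ([8, 8, 6], 1), ([9, 8, 6], 1), ([10, 8, 6], 1), ([11, 8, 6], 1), ([12, 8, 6], 1), ([13, 8, 6], 1), ([14, 8, 6], 1), ([9, 6, 6], 1), ([9, 9, 6], 1), ([10, 9, 6], 1), ([11, 9, 6], 1), ([12, 9, 6], 1), ([13, 9, 6], 1), ([14, 9, 6], 1), ([10, 6, 6], 1), ([10, 10, 6], 1), ([11, 10, 6], 1), ([12, 10,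 6], 1), ([13, 10, 6], 1), ([14, 10, 6], 1), ([11, 6, 6], 1), ([11, 11, 6], 1), ([12, 11, 6], 1), ([13, 11, 6], 1), ([13, 6, 6], 1), ([14, 6, 6], 1), ([7, 7, 7], 1), ([8, 7, 7], 1), ([8, 8, 7], 1), ([9, 8, 7], 1), ([10, 8, 7], 1), ([11, 8, 7], 1), ([12, 8, 7], 1), ([13, 8, 7], 1), ([14, 8, 7], 1), ([9, 7, 7], 1), ([9, 9, 7], 1), ([10, 9, 7], 1), ([11, 9, 7], 1), ([12, 9, 7], 1), ([13, 9, 7], 1), ([10, 7, 7], 1), ([10, 10, 7], 1), ([11, 10, 7], 1), ([12, 10, 7], 1), ([13, 10, 7], 1), ([11, 7, 7], 1), ([11, 11, 7], 1), ([12, 11, 7], 1), ([13, 11, 7], 1), ([12, 7, 7], 1), ([13, 7, 7], 1), ([8, 8, 8], 1), ([9, 8, 8], 1), ([9, 9, 8], 1), ([10, 9, 8], 1), ([11, 9, 8], 1), ([12, 9, 8], 1), ([14, 9, 8], 1), ([10, 8, 8], 1), ([10, 10, 8], 1), ([11, 10, 8], 1), ([12, 10, 8], 1), ([14, 10, 8], 1), ([11, 8, 8], 1), ([12, 8, 8], 1), ([14, 8, 8], 1), ([10, 9, 9], 1), ([10,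 10, 9], 1), ([11, 10, 9], 1), ([12, 10, 9], 1), ([13, 10, 9], 1)]
  fuse := [
    ([[0, 3], [1, 3, 6], [4], [5, 6, 8], [7], [9], [10], [11], [12], [13], [14]],
      [[7, 9, 10], [1, 2, 7, 10, 11], [1, 2, 4, 5, 7, 8, 12, 14], [0, 1, 2, 3, 6, 7, 9, 10, 12, 13], [0, 3, 7, 11, 13], [0, 3, 7, 9, 11, 13, 14], [11, 12, 13], [10, 12], [11, 12, 14], [11, 13], [14]],
      [([0, 0], []), ([1, 1], []), ([1, 0], [0, 1, 4, 5, 6, 7, 10]), ([2, 2], [6, 8]), ([2, 0], [0, 2, 4, 5, 7, 9, 10]), ([2, 1], [1, 2, 4, 5, 7, 9, 10]), ([3, 3], [8, 10]), ([3, 0], [0, 3, 4, 5, 7, 9]), ([3, 1], [1, 3, 10]), ([3, 2], [2, 3, 6, 10]), ([4, 4], [10]), ([4, 0], [0, 4]), ([4, 1], [1, 4, 9]), ([4, 2], [2, 4, 8, 9]), ([4, 3], [3, 4, 8, 9, 10]), ([5, 5], []), ([5, 0], [0, 5]), ([5, 1], [1, 5, 8, 9, 10]), ([5, 2], [2, 5, 8]), ([5, 3], [3, 5, 8, 10]), ([5, 4], [4, 5, 10]), ([6, 6], []), ([6, 0],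 [0, 6, 10]), ([6, 1], [1, 6]), ([6, 2], [2, 6, 10]), ([6, 3], [3, 6, 10]), ([6, 4], [4, 6, 10]), ([6, 5], [5, 6, 10]), ([7, 7], []), ([7, 0], [0, 7]), ([7, 1], [1, 7, 8]), ([7, 2], [2, 7, 9, 10]), ([7, 3], [3, 7, 9]), ([7, 4], [4, 7, 10]), ([7, 5], [5, 7]), ([7, 6], [6, 7]), ([8, 8], []), ([8, 0], [0, 8, 10]), ([8, 1], [1, 8]), ([8, 2], [2, 8, 10]), ([8, 3], [3, 8]), ([8, 4], [4, 8]), ([8, 5], [5, 8]), ([8, 6], [6, 8]), ([8, 7], [7, 8]), ([9, 9], []), ([9, 0], [0, 9, 10]), ([9, 1], [1, 9]), ([9, 2], [2, 9]), ([9, 3], [3, 9]), ([9, 4], [4, 9]), ([9, 5], [5, 9]), ([9, 6], [6, 9]), ([9, 7], [7, 9]), ([9, 8], [8, 9]), ([10, 10], []), ([10, 0], [0, 10]), ([10, 1], [1, 10]), ([10, 2], [2, 10]), ([10, 3], [3, 10]), ([10, 4], [4, 10]), ([10, 5], [5, 10]), ([10, 6], [6, 10]), ([10, 7], [7, 10]), ([10, 8], [8, 10]), ([10, 9], [9, 10])]),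
    ([[1], [2], [3], [4], [5], [6], [7], [8], [9], [10], [11], [12], [13], [14]],
      [[1, 5, 6, 9, 14], [2, 8, 10, 13, 14], [3, 5, 6, 8, 9, 10, 12, 14], [3, 4, 6, 8, 11, 12, 13, 14], [6, 8, 9, 10, 12, 13], [5, 9, 10, 11, 12, 13], [5, 6, 7, 9, 10, 14], [8], [8, 9, 11, 13, 14], [10, 13], [11], [12, 13], [13], [13, 14]],
      [([0, 0], [4, 5, 7, 8, 9, 11]), ([1, 1], [4, 6, 8, 9, 11, 12]), ([1, 0], [0, 1, 5, 6, 8, 9, 11]), ([2, 2], [7, 9, 11]), ([2, 0], [0, 2, 4, 5, 8, 11]), ([2, 1], [1, 2, 4, 5, 7, 10, 11]), ([3, 3], [9, 11]), ([3, 0], [0, 3, 6, 8, 9, 13]), ([3, 1], [1, 3, 6, 7, 9, 10, 12]), ([3, 2], [2, 3, 8, 9, 11, 12, 13]), ([4, 4], [13]), ([4, 0], [0, 4, 7, 9, 11, 12, 13]), ([4, 1], [1, 4, 8, 12, 13]), ([4, 2], [2, 4, 7, 9, 11, 13]), ([4, 3], [3, 4, 8, 11, 12]), ([5, 5], [11]), ([5, 0], [0, 5, 7, 9, 10, 11]), ([5, 1], [1, 5, 7, 8]), ([5, 2], [2, 5, 7,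 9, 10, 11, 12, 13]), ([5, 3], [3, 5, 8, 9, 10, 11, 12, 13]), ([5, 4], [4, 5, 12]), ([6, 6], [13]), ([6, 0], [0, 6, 9, 10, 11, 12]), ([6, 1], [1, 6, 8, 10, 11]), ([6, 2], [2, 6, 9, 10, 11, 12, 13]), ([6, 3], [3, 6, 11, 12]), ([6, 4], [4, 6, 11, 13]), ([6, 5], [5, 6, 11, 13]), ([7, 7], [12]), ([7, 0], [0, 7, 13]), ([7, 1], [1, 7, 11, 12]), ([7, 2], [2, 7, 11, 13]), ([7, 3], [3, 7, 10, 11, 13]), ([7, 4], [4, 7, 11, 13]), ([7, 5], [5, 7, 11, 13]), ([7, 6], [6, 7, 11, 12, 13]), ([8, 8], []), ([8, 0], [0, 8, 10, 12]), ([8, 1], [1, 8]), ([8, 2], [2, 8, 10, 13]), ([8, 3], [3, 8, 11]), ([8, 4], [4, 8]), ([8, 5], [5, 8, 11, 12, 13]), ([8, 6], [6, 8, 13]), ([8, 7], [7, 8, 12]), ([9, 9], []), ([9, 0], [0, 9, 13]), ([9, 1], [1, 9, 10, 11]), ([9, 2], [2, 9, 11, 12, 13]), ([9, 3], [3, 9, 13]), ([9, 4], [4, 9, 11, 13]), ([9, 5], [5, 9, 11, 12]), ([9, 6], [6, 9, 13]), ([9,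 7], [7, 9, 12]), ([9, 8], [8, 9, 13]), ([10, 10], []), ([10, 0], [0, 10, 11]), ([10, 1], [1, 10, 11, 12, 13]), ([10, 2], [2, 10, 12, 13]), ([10, 3], [3, 10, 12, 13]), ([10, 4], [4, 10, 12, 13]), ([10, 5], [5, 10, 13]), ([10, 6], [6, 10, 13]), ([10, 7], [7, 10]), ([10, 8], [8, 10]), ([10, 9], [9, 10]), ([11, 11], []), ([11, 0], [0, 11, 12]), ([11, 1], [1, 11, 12]), ([11, 2], [2, 11, 12]), ([11, 3], [3, 11, 13]), ([11, 4], [4, 11]), ([11, 5], [5, 11]), ([11, 6], [6, 11]), ([11, 7], [7, 11]), ([11, 8], [8, 11]), ([11, 9], [9, 11]), ([11, 10], [10, 11]), ([12, 12], []), ([12, 0], [0, 12]), ([12, 1], [1, 12]), ([12, 2], [2, 12]), ([12, 3], [3, 12]), ([12, 4], [4, 12]), ([12, 5], [5, 12]), ([12, 6], [6, 12]), ([12, 7], [7, 12]), ([12, 8], [8, 12]), ([12, 9], [9, 12]), ([12, 10], [10, 12]), ([12, 11], [11, 12]), ([13, 13], []), ([13, 0], [0, 13]), ([13, 1], [1,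 13]), ([13, 2], [2, 13]), ([13, 3], [3, 13]), ([13, 4], [4, 13]), ([13, 5], [5, 13]), ([13, 6], [6, 13]), ([13, 7], [7, 13]), ([13, 8], [8, 13]), ([13, 9], [9, 13]), ([13, 10], [10, 13]), ([13, 11], [11, 13]), ([13, 12], [12, 13])])]
  delta := [[], [], [], [], [(0, 1), (15, 1), (16, 1), (30, 1), (46, 1), (47, 1), (48, 1), (60, 1)], [(0, 1), (15, 1), (30, 1), (31, 1), (45, 1), (46, 1)], [(0, 1), (30, 1), (31, 1), (47, 1), (48, 1), (60, 1)], [(0, 1), (16, 1), (45, 1), (47, 1), (48, 1), (60, 1)], [(15, 1), (30, 1), (46, 1), (47, 1), (48, 1), (60, 1)], [(15, 1), (16, 1), (45, 1), (46, 1), (47, 1), (60, 1)], [(15, 1), (16, 1), (30, 1), (47, 1), (48, 1), (60, 1)], [(16, 1), (30, 1), (45, 1), (46, 1), (47, 1), (48, 1)], [(16, 1), (46, 1), (48, 1)], [(15, 1), (31, 1), (32, 1), (45, 1), (46, 1), (47, 1), (48, 1), (60, 1)], [(0, 1), (15, 1), (16, 1), (31, 1), (32,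 1), (46, 1), (60, 1)]]
  sels := [
    [[]],
    [[], []],
    [[], [], []],
    [[], [], [], []],
    [[], [(2, 1), (3, 1), (5, 1), (6, 1), (8, 1), (13, 1), (17, 1), (19, 1), (24, 1), (25, 1), (26, 1), (27, 1), (29, 1), (31, 1), (37, 1), (38, 1), (40, 1), (44, 1), (45, 1), (46, 1), (49, 1), (51, 1), (52, 1), (53, 1), (54, 1), (56, 1), (57, 1), (59, 1), (61, 1), (62, 1), (67, 1), (68, 1), (71, 1), (72, 1), (75, 1), (76, 1), (77, 1), (78, 1), (80, 1), (83, 1), (84, 1), (90, 1), (93, 1), (133, 1), (562, 1), (563, 1), (565, 1), (566, 1), (568, 1), (569, 1), (570, 1), (571, 1), (629, 1), (630, 1), (632, 1), (634, 1), (637, 1), (640, 1), (642, 1)], [(0, 1), (1, 1), (3, 1), (5, 1), (6, 1), (7, 1), (8, 1), (10, 1), (11, 1), (12, 1), (14, 1), (16, 1), (17, 1), (18, 1), (19, 1), (21, 1), (22, 1), (23, 1), (26, 1), (27, 1), (31, 1), (35, 1), (36, 1), (38, 1), (39,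 1), (40, 1), (42, 1), (44, 1), (46, 1), (49, 1), (52, 1), (54, 1), (55, 1), (56, 1), (58, 1), (59, 1), (60, 1), (61, 1), (65, 1), (66, 1), (74, 1), (80, 1), (82, 1), (83, 1), (85, 1), (87, 1), (94, 1), (118, 1), (119, 1), (121, 1), (122, 1), (562, 1), (565, 1), (566, 1), (569, 1), (571, 1), (574, 1), (575, 1), (629, 1), (630, 1), (632, 1), (642, 1)], [(1, 1), (4, 1), (5, 1), (6, 1), (8, 1), (10, 1), (15, 1), (16, 1), (18, 1), (19, 1), (21, 1), (22, 1), (25, 1), (28, 1), (29, 1), (30, 1), (34, 1), (35, 1), (40, 1), (41, 1), (43, 1), (44, 1), (45, 1), (47, 1), (48, 1), (50, 1), (55, 1), (57, 1), (59, 1), (60, 1), (62, 1), (63, 1), (64, 1), (65, 1), (66, 1), (67, 1), (68, 1), (69, 1), (72, 1), (74, 1), (75, 1), (77, 1), (78, 1), (82, 1), (87, 1), (91, 1), (94, 1), (122, 1), (133, 1), (562, 1), (564, 1), (567, 1), (570, 1), (571, 1), (574, 1), (628, 1), (629,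 1), (630, 1), (631, 1), (638, 1), (640, 1)], [(0, 1), (5, 1), (6, 1), (7, 1), (8, 1), (10, 1), (13, 1), (15, 1), (16, 1), (18, 1), (23, 1), (24, 1), (29, 1), (31, 1), (33, 1), (34, 1), (35, 1), (37, 1), (38, 1), (46, 1), (47, 1), (49, 1), (50, 1), (51, 1), (52, 1), (53, 1), (55, 1), (56, 1), (57, 1), (58, 1), (60, 1), (62, 1), (63, 1), (65, 1), (66, 1), (67, 1), (71, 1), (73, 1), (75, 1), (79, 1), (80, 1), (81, 1), (82, 1), (83, 1), (84, 1), (85, 1), (90, 1), (93, 1), (118, 1), (121, 1), (122, 1), (133, 1), (562, 1), (565, 1), (567, 1), (568, 1), (569, 1), (570, 1), (571, 1), (629, 1), (630, 1), (632, 1), (642, 1)]],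
    [[(0, 1), (4, 1), (6, 1), (7, 1), (8, 1), (9, 1), (10, 1), (11, 1), (12, 1), (13, 1), (16, 1), (17, 1), (18, 1), (19, 1), (22, 1), (25, 1), (26, 1), (29, 1), (33, 1), (35, 1), (36, 1), (37, 1), (38, 1), (39, 1), (40, 1), (45, 1), (48, 1), (49, 1), (50, 1), (51, 1), (54, 1), (58, 1), (59, 1), (61, 1), (63, 1), (64, 1), (65, 1), (69, 1), (71, 1), (72, 1), (78, 1), (79, 1), (81, 1), (82, 1), (84, 1), (90, 1), (93, 1), (118, 1), (120, 1), (133, 1), (562, 1), (563, 1), (567, 1), (569, 1), (570, 1), (629, 1), (630, 1), (632, 1), (642, 1)], [(0, 1), (1, 1), (4, 1), (5, 1), (8, 1), (9, 1), (10, 1), (11, 1), (12, 1), (13, 1), (18, 1), (20, 1), (21, 1), (22, 1), (25, 1), (26, 1), (27, 1), (28, 1), (29, 1), (34, 1), (36, 1), (38, 1), (41, 1), (43, 1), (44, 1), (45, 1), (49, 1), (50, 1), (51, 1), (53, 1), (54, 1), (55, 1), (57, 1), (58, 1), (60, 1), (64, 1), (73,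 1), (74, 1), (75, 1), (76, 1), (78, 1), (80, 1), (82, 1), (84, 1), (85, 1), (86, 1), (87, 1), (90, 1), (91, 1), (122, 1), (133, 1), (563, 1), (566, 1), (567, 1), (568, 1), (570, 1), (574, 1), (575, 1), (628, 1), (633, 1), (635, 1), (636, 1), (638, 1), (639, 1), (640, 1), (642, 1)], [(2, 1), (3, 1), (6, 1), (7, 1), (14, 1), (17, 1), (20, 1), (21, 1), (22, 1), (25, 1), (27, 1), (28, 1), (29, 1), (30, 1), (31, 1), (33, 1), (34, 1), (35, 1), (36, 1), (37, 1), (38, 1), (39, 1), (40, 1), (41, 1), (42, 1), (44, 1), (46, 1), (48, 1), (52, 1), (53, 1), (55, 1), (56, 1), (57, 1), (58, 1), (64, 1), (65, 1), (67, 1), (68, 1), (71, 1), (72, 1), (73, 1), (75, 1), (76, 1), (77, 1), (79, 1), (85, 1), (87, 1), (90, 1), (91, 1), (94, 1), (118, 1), (119, 1), (120, 1), (133, 1), (564, 1), (565, 1), (568, 1), (569, 1), (574, 1), (628, 1), (629, 1), (630, 1), (631, 1), (638, 1),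 (640, 1)], [(1, 1), (4, 1), (5, 1), (6, 1), (7, 1), (9, 1), (12, 1), (18, 1), (19, 1), (23, 1), (26, 1), (28, 1), (31, 1), (32, 1), (34, 1), (36, 1), (37, 1), (41, 1), (42, 1), (43, 1), (45, 1), (47, 1), (51, 1), (52, 1), (54, 1), (55, 1), (56, 1), (59, 1), (60, 1), (61, 1), (62, 1), (64, 1), (67, 1), (68, 1), (69, 1), (70, 1), (73, 1), (74, 1), (76, 1), (79, 1), (81, 1), (82, 1), (84, 1), (87, 1), (90, 1), (94, 1), (119, 1), (133, 1), (562, 1), (564, 1), (565, 1), (566, 1), (567, 1), (569, 1), (570, 1), (575, 1), (629, 1), (630, 1), (632, 1), (642, 1)], [(0, 1), (2, 1), (3, 1), (4, 1), (6, 1), (8, 1), (9, 1), (12, 1), (13, 1), (14, 1), (15, 1), (16, 1), (17, 1), (18, 1), (19, 1), (20, 1), (21, 1), (29, 1), (30, 1), (36, 1), (37, 1), (40, 1), (42, 1), (43, 1), (45, 1), (48, 1), (51, 1), (59, 1), (60, 1), (63, 1), (64, 1), (65, 1), (67, 1), (69, 1), (71, 1),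 (72, 1), (73, 1), (77, 1), (78, 1), (79, 1), (80, 1), (82, 1), (86, 1), (87, 1), (94, 1), (118, 1), (121, 1), (133, 1), (563, 1), (566, 1), (567, 1), (634, 1), (637, 1), (640, 1)], [(0, 1), (4, 1), (5, 1), (7, 1), (11, 1), (13, 1), (14, 1), (15, 1), (16, 1), (18, 1), (20, 1), (24, 1), (25, 1), (29, 1), (31, 1), (32, 1), (36, 1), (38, 1), (39, 1), (41, 1), (42, 1), (44, 1), (48, 1), (51, 1), (52, 1), (53, 1), (54, 1), (57, 1), (59, 1), (61, 1), (63, 1), (65, 1), (69, 1), (70, 1), (74, 1), (75, 1), (77, 1), (78, 1), (79, 1), (81, 1), (83, 1), (84, 1), (85, 1), (87, 1), (93, 1), (118, 1), (119, 1), (122, 1), (133, 1), (564, 1), (566, 1), (567, 1), (568, 1), (569, 1), (570, 1), (571, 1), (575, 1), (634, 1), (637, 1), (640, 1)]],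
    [[(2, 1), (3, 1), (4, 1), (6, 1), (7, 1), (8, 1), (10, 1), (11, 1), (12, 1), (16, 1), (18, 1), (21, 1), (23, 1), (25, 1), (28, 1), (30, 1), (32, 1), (34, 1), (38, 1), (41, 1), (43, 1), (44, 1), (45, 1), (47, 1), (49, 1), (51, 1), (53, 1), (54, 1), (55, 1), (61, 1), (63, 1), (65, 1), (68, 1), (69, 1), (74, 1), (75, 1), (77, 1), (79, 1), (81, 1), (82, 1), (84, 1), (85, 1), (86, 1), (90, 1), (118, 1), (121, 1), (122, 1), (563, 1), (564, 1), (569, 1), (571, 1), (574, 1), (631, 1), (632, 1), (633, 1), (634, 1), (635, 1), (636, 1), (637, 1), (639, 1), (640, 1)], [(0, 1), (1, 1), (4, 1), (6, 1), (7, 1), (8, 1), (9, 1), (12, 1), (13, 1), (16, 1), (22, 1), (24, 1), (26, 1), (27, 1), (28, 1), (32, 1), (38, 1), (40, 1), (42, 1), (45, 1), (46, 1), (49, 1), (52, 1), (54, 1), (59, 1), (60, 1), (61, 1), (62, 1), (63, 1), (64, 1), (65, 1), (66, 1), (67, 1), (70, 1),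 (71, 1), (75, 1), (76, 1), (78, 1), (79, 1), (81, 1), (83, 1), (84, 1), (86, 1), (90, 1), (91, 1), (93, 1), (118, 1), (120, 1), (122, 1), (562, 1), (563, 1), (564, 1), (566, 1), (568, 1), (571, 1), (575, 1), (628, 1), (631, 1), (632, 1), (634, 1), (637, 1), (638, 1), (642, 1)], [(1, 1), (3, 1), (4, 1), (5, 1), (10, 1), (11, 1), (12, 1), (17, 1), (18, 1), (20, 1), (21, 1), (22, 1), (24, 1), (25, 1), (28, 1), (30, 1), (31, 1), (32, 1), (33, 1), (37, 1), (39, 1), (41, 1), (42, 1), (43, 1), (44, 1), (53, 1), (56, 1), (57, 1), (59, 1), (60, 1), (69, 1), (72, 1), (74, 1), (75, 1), (82, 1), (87, 1), (118, 1), (121, 1), (122, 1), (562, 1), (563, 1), (564, 1), (567, 1), (568, 1), (571, 1), (575, 1), (631, 1), (632, 1), (633, 1), (635, 1), (636, 1), (639, 1)], [(1, 1), (5, 1), (6, 1), (8, 1), (12, 1), (14, 1), (16, 1), (18, 1), (19, 1), (21, 1), (25, 1), (27, 1), (31,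 1), (34, 1), (35, 1), (37, 1), (38, 1), (41, 1), (42, 1), (44, 1), (46, 1), (47, 1), (51, 1), (52, 1), (53, 1), (54, 1), (57, 1), (58, 1), (62, 1), (65, 1), (67, 1), (70, 1), (71, 1), (72, 1), (74, 1), (75, 1), (79, 1), (80, 1), (81, 1), (82, 1), (84, 1), (86, 1), (90, 1), (118, 1), (121, 1), (562, 1), (564, 1), (566, 1), (570, 1), (571, 1), (574, 1), (628, 1), (629, 1), (630, 1), (632, 1), (633, 1), (635, 1), (636, 1), (638, 1), (639, 1), (640, 1)], [(1, 1), (4, 1), (6, 1), (7, 1), (9, 1), (15, 1), (18, 1), (21, 1), (23, 1), (25, 1), (27, 1), (29, 1), (30, 1), (31, 1), (42, 1), (43, 1), (49, 1), (50, 1), (52, 1), (53, 1), (58, 1), (60, 1), (61, 1), (62, 1), (63, 1), (64, 1), (65, 1), (71, 1), (73, 1), (75, 1), (78, 1), (80, 1), (81, 1), (82, 1), (83, 1), (84, 1), (93, 1), (94, 1), (118, 1), (119, 1), (120, 1), (122, 1), (563, 1), (566, 1), (567, 1), (568,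 1), (570, 1), (574, 1), (575, 1), (628, 1), (631, 1), (632, 1), (638, 1), (640, 1), (642, 1)], [(0, 1), (2, 1), (4, 1), (5, 1), (7, 1), (8, 1), (11, 1), (12, 1), (14, 1), (15, 1), (18, 1), (19, 1), (21, 1), (22, 1), (29, 1), (32, 1), (35, 1), (36, 1), (38, 1), (40, 1), (41, 1), (42, 1), (45, 1), (49, 1), (51, 1), (52, 1), (53, 1), (55, 1), (56, 1), (57, 1), (58, 1), (62, 1), (63, 1), (64, 1), (65, 1), (67, 1), (68, 1), (70, 1), (72, 1), (73, 1), (75, 1), (76, 1), (78, 1), (80, 1), (81, 1), (82, 1), (83, 1), (84, 1), (85, 1), (86, 1), (90, 1), (91, 1), (120, 1), (121, 1), (122, 1), (133, 1), (563, 1), (564, 1), (566, 1), (567, 1), (569, 1), (571, 1), (574, 1), (628, 1), (629, 1), (630, 1), (632, 1), (633, 1), (635, 1), (636, 1), (638, 1), (639, 1), (640, 1)], [(2, 1), (3, 1), (5, 1), (8, 1), (9, 1), (13, 1), (15, 1), (17, 1), (20, 1), (22, 1), (26, 1), (27,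 1), (28, 1), (29, 1), (32, 1), (33, 1), (34, 1), (35, 1), (36, 1), (41, 1), (42, 1), (46, 1), (47, 1), (48, 1), (49, 1), (51, 1), (55, 1), (56, 1), (58, 1), (61, 1), (65, 1), (67, 1), (68, 1), (70, 1), (71, 1), (73, 1), (74, 1), (75, 1), (76, 1), (83, 1), (86, 1), (87, 1), (90, 1), (94, 1), (119, 1), (121, 1), (563, 1), (565, 1), (570, 1), (571, 1), (574, 1), (575, 1)]],
    [[(0, 1), (2, 1), (5, 1), (6, 1), (8, 1), (9, 1), (11, 1), (12, 1), (13, 1), (14, 1), (16, 1), (18, 1), (26, 1), (27, 1), (29, 1), (33, 1), (35, 1), (37, 1), (38, 1), (42, 1), (46, 1), (48, 1), (50, 1), (53, 1), (54, 1), (55, 1), (56, 1), (58, 1), (60, 1), (62, 1), (64, 1), (65, 1), (67, 1), (69, 1), (71, 1), (72, 1), (75, 1), (79, 1), (80, 1), (82, 1), (86, 1), (90, 1), (93, 1), (119, 1), (121, 1), (563, 1), (564, 1), (566, 1), (567, 1), (568, 1), (569, 1), (570, 1), (571, 1), (575,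 1), (631, 1), (632, 1), (633, 1), (634, 1), (635, 1), (636, 1), (637, 1), (639, 1), (640, 1)], [(0, 1), (2, 1), (3, 1), (5, 1), (6, 1), (8, 1), (9, 1), (11, 1), (13, 1), (17, 1), (21, 1), (22, 1), (24, 1), (26, 1), (27, 1), (28, 1), (29, 1), (30, 1), (31, 1), (34, 1), (36, 1), (38, 1), (39, 1), (41, 1), (42, 1), (45, 1), (46, 1), (48, 1), (49, 1), (50, 1), (55, 1), (56, 1), (57, 1), (58, 1), (59, 1), (62, 1), (64, 1), (65, 1), (66, 1), (67, 1), (73, 1), (75, 1), (77, 1), (79, 1), (80, 1), (81, 1), (83, 1), (84, 1), (85, 1), (86, 1), (87, 1), (94, 1), (119, 1), (121, 1), (122, 1), (565, 1), (570, 1), (571, 1), (574, 1), (575, 1), (628, 1), (633, 1), (635, 1), (636, 1), (638, 1), (639, 1), (640, 1), (642, 1)], [(1, 1), (2, 1), (3, 1), (4, 1), (6, 1), (9, 1), (12, 1), (14, 1), (15, 1), (16, 1), (17, 1), (20, 1), (21, 1), (25, 1), (26, 1), (28, 1), (31, 1), (32,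 1), (33, 1), (35, 1), (36, 1), (37, 1), (41, 1), (49, 1), (50, 1), (52, 1), (53, 1), (55, 1), (56, 1), (57, 1), (63, 1), (64, 1), (67, 1), (69, 1), (70, 1), (71, 1), (72, 1), (73, 1), (75, 1), (76, 1), (77, 1), (79, 1), (81, 1), (82, 1), (83, 1), (84, 1), (85, 1), (87, 1), (91, 1), (94, 1), (118, 1), (119, 1), (563, 1), (565, 1), (566, 1), (569, 1), (571, 1), (574, 1), (575, 1), (629, 1), (630, 1), (631, 1), (633, 1), (634, 1), (635, 1), (636, 1), (637, 1), (639, 1), (640, 1), (642, 1)], [(4, 1), (5, 1), (7, 1), (10, 1), (15, 1), (18, 1), (19, 1), (21, 1), (23, 1), (24, 1), (25, 1), (27, 1), (28, 1), (33, 1), (34, 1), (36, 1), (37, 1), (40, 1), (42, 1), (43, 1), (45, 1), (47, 1), (49, 1), (51, 1), (53, 1), (56, 1), (61, 1), (62, 1), (63, 1), (64, 1), (67, 1), (68, 1), (69, 1), (72, 1), (73, 1), (74, 1), (77, 1), (79, 1), (84, 1), (85, 1), (90, 1), (91, 1),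 (94, 1), (120, 1), (562, 1), (564, 1), (569, 1), (571, 1), (574, 1), (628, 1), (629, 1), (630, 1), (632, 1), (633, 1), (634, 1), (635, 1), (636, 1), (637, 1), (638, 1), (639, 1)], [(3, 1), (4, 1), (6, 1), (7, 1), (9, 1), (10, 1), (13, 1), (14, 1), (15, 1), (17, 1), (21, 1), (24, 1), (28, 1), (30, 1), (31, 1), (34, 1), (38, 1), (41, 1), (42, 1), (44, 1), (45, 1), (51, 1), (54, 1), (55, 1), (58, 1), (62, 1), (67, 1), (69, 1), (70, 1), (73, 1), (74, 1), (75, 1), (76, 1), (79, 1), (82, 1), (83, 1), (84, 1), (85, 1), (86, 1), (87, 1), (91, 1), (93, 1), (94, 1), (119, 1), (121, 1), (562, 1), (564, 1), (568, 1), (569, 1), (570, 1), (571, 1), (575, 1), (629, 1), (630, 1), (631, 1), (633, 1), (635, 1), (636, 1), (639, 1), (642, 1)], [(1, 1), (3, 1), (4, 1), (7, 1), (9, 1), (10, 1), (11, 1), (12, 1), (14, 1), (15, 1), (16, 1), (17, 1), (18, 1), (20, 1), (22, 1), (23,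 1), (24, 1), (25, 1), (28, 1), (29, 1), (31, 1), (32, 1), (33, 1), (34, 1), (37, 1), (39, 1), (42, 1), (43, 1), (45, 1), (47, 1), (48, 1), (49, 1), (50, 1), (53, 1), (54, 1), (55, 1), (56, 1), (58, 1), (60, 1), (61, 1), (64, 1), (65, 1), (67, 1), (69, 1), (70, 1), (74, 1), (75, 1), (76, 1), (78, 1), (81, 1), (87, 1), (118, 1), (133, 1), (563, 1), (564, 1), (565, 1), (566, 1), (567, 1), (568, 1), (569, 1), (574, 1), (628, 1), (631, 1), (632, 1), (634, 1), (637, 1), (638, 1), (642, 1)], [(1, 1), (2, 1), (3, 1), (5, 1), (6, 1), (7, 1), (8, 1), (9, 1), (10, 1), (14, 1), (16, 1), (17, 1), (18, 1), (21, 1), (22, 1), (24, 1), (28, 1), (33, 1), (35, 1), (37, 1), (38, 1), (39, 1), (41, 1), (42, 1), (45, 1), (46, 1), (48, 1), (50, 1), (53, 1), (55, 1), (56, 1), (58, 1), (65, 1), (66, 1), (68, 1), (69, 1), (70, 1), (71, 1), (72, 1), (75, 1), (81, 1), (83, 1), (85, 1),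 (87, 1), (90, 1), (91, 1), (93, 1), (118, 1), (122, 1), (563, 1), (564, 1), (565, 1), (566, 1), (567, 1), (568, 1), (569, 1), (574, 1), (628, 1), (631, 1), (632, 1), (634, 1), (637, 1), (638, 1), (642, 1)], [(3, 1), (6, 1), (7, 1), (9, 1), (10, 1), (11, 1), (12, 1), (15, 1), (17, 1), (18, 1), (19, 1), (22, 1), (23, 1), (25, 1), (26, 1), (31, 1), (33, 1), (35, 1), (36, 1), (37, 1), (38, 1), (39, 1), (42, 1), (45, 1), (46, 1), (49, 1), (51, 1), (52, 1), (59, 1), (60, 1), (61, 1), (63, 1), (64, 1), (65, 1), (68, 1), (73, 1), (74, 1), (75, 1), (76, 1), (78, 1), (79, 1), (80, 1), (83, 1), (84, 1), (86, 1), (90, 1), (91, 1), (119, 1), (120, 1), (121, 1), (122, 1), (133, 1), (562, 1), (564, 1), (565, 1), (569, 1), (570, 1), (575, 1), (629, 1), (630, 1), (632, 1), (634, 1), (637, 1), (640, 1), (642, 1)]],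
    [[(3, 1), (4, 1), (5, 1), (6, 1), (9, 1), (11, 1), (13, 1), (17, 1), (19, 1), (21, 1), (23, 1), (25, 1), (26, 1), (27, 1), (29, 1), (30, 1), (32, 1), (33, 1), (36, 1), (37, 1), (39, 1), (41, 1), (42, 1), (44, 1), (45, 1), (46, 1), (47, 1), (50, 1), (51, 1), (55, 1), (56, 1), (57, 1), (58, 1), (59, 1), (60, 1), (62, 1), (63, 1), (64, 1), (70, 1), (71, 1), (74, 1), (78, 1), (79, 1), (80, 1), (81, 1), (82, 1), (84, 1), (86, 1), (87, 1), (90, 1), (91, 1), (94, 1), (119, 1), (121, 1), (122, 1), (564, 1), (568, 1), (569, 1), (570, 1), (571, 1), (575, 1), (629, 1), (630, 1), (631, 1), (633, 1), (635, 1), (636, 1), (639, 1), (642, 1)], [(0, 1), (4, 1), (8, 1), (9, 1), (10, 1), (15, 1), (16, 1), (19, 1), (21, 1), (26, 1), (27, 1), (29, 1), (31, 1), (33, 1), (34, 1), (35, 1), (37, 1), (38, 1), (39, 1), (40, 1), (44, 1), (45, 1), (46, 1), (47, 1), (53, 1), (54,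 1), (57, 1), (58, 1), (60, 1), (61, 1), (63, 1), (66, 1), (67, 1), (68, 1), (69, 1), (71, 1), (72, 1), (74, 1), (75, 1), (76, 1), (77, 1), (81, 1), (82, 1), (90, 1), (91, 1), (93, 1), (119, 1), (120, 1), (562, 1), (564, 1), (565, 1), (569, 1), (570, 1), (575, 1), (634, 1), (637, 1), (640, 1)], [(0, 1), (2, 1), (3, 1), (8, 1), (11, 1), (13, 1), (17, 1), (19, 1), (20, 1), (22, 1), (24, 1), (25, 1), (27, 1), (31, 1), (34, 1), (36, 1), (37, 1), (41, 1), (42, 1), (46, 1), (47, 1), (48, 1), (50, 1), (51, 1), (56, 1), (57, 1), (60, 1), (61, 1), (62, 1), (63, 1), (65, 1), (66, 1), (68, 1), (72, 1), (73, 1), (74, 1), (78, 1), (79, 1), (80, 1), (81, 1), (82, 1), (83, 1), (85, 1), (86, 1), (90, 1), (91, 1), (93, 1), (94, 1), (118, 1), (119, 1), (562, 1), (564, 1), (568, 1), (569, 1), (570, 1), (571, 1), (575, 1), (631, 1), (632, 1), (633, 1), (635, 1), (636, 1), (639,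 1)], [(0, 1), (2, 1), (3, 1), (4, 1), (5, 1), (6, 1), (8, 1), (10, 1), (11, 1), (14, 1), (15, 1), (17, 1), (19, 1), (20, 1), (21, 1), (22, 1), (23, 1), (25, 1), (26, 1), (27, 1), (30, 1), (31, 1), (35, 1), (39, 1), (41, 1), (46, 1), (47, 1), (51, 1), (53, 1), (54, 1), (55, 1), (58, 1), (59, 1), (60, 1), (63, 1), (65, 1), (67, 1), (71, 1), (72, 1), (73, 1), (75, 1), (76, 1), (77, 1), (78, 1), (80, 1), (81, 1), (82, 1), (84, 1), (93, 1), (94, 1), (118, 1), (122, 1), (563, 1), (564, 1), (565, 1), (566, 1), (567, 1), (568, 1), (569, 1), (574, 1), (628, 1), (631, 1), (632, 1), (634, 1), (637, 1), (638, 1), (642, 1)], [(1, 1), (4, 1), (5, 1), (7, 1), (8, 1), (9, 1), (10, 1), (11, 1), (12, 1), (13, 1), (19, 1), (20, 1), (21, 1), (22, 1), (24, 1), (25, 1), (27, 1), (30, 1), (35, 1), (39, 1), (40, 1), (41, 1), (43, 1), (44, 1), (45, 1), (50, 1), (52, 1), (53, 1),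 (59, 1), (60, 1), (61, 1), (62, 1), (63, 1), (66, 1), (67, 1), (68, 1), (73, 1), (76, 1), (80, 1), (83, 1), (84, 1), (85, 1), (86, 1), (91, 1), (94, 1), (118, 1), (119, 1), (120, 1), (133, 1), (567, 1), (568, 1), (569, 1), (574, 1), (575, 1), (634, 1), (637, 1), (640, 1)], [(1, 1), (6, 1), (11, 1), (13, 1), (15, 1), (16, 1), (18, 1), (20, 1), (21, 1), (23, 1), (24, 1), (25, 1), (27, 1), (28, 1), (29, 1), (32, 1), (34, 1), (35, 1), (38, 1), (39, 1), (43, 1), (45, 1), (47, 1), (48, 1), (50, 1), (52, 1), (54, 1), (55, 1), (56, 1), (58, 1), (60, 1), (66, 1), (67, 1), (70, 1), (71, 1), (72, 1), (74, 1), (79, 1), (81, 1), (82, 1), (84, 1), (85, 1), (87, 1), (90, 1), (93, 1), (94, 1), (118, 1), (122, 1), (563, 1), (564, 1), (565, 1), (566, 1), (567, 1), (568, 1), (569, 1), (574, 1), (628, 1), (631, 1), (632, 1), (634, 1), (637, 1), (638, 1), (642, 1)], [(0, 1),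 (4, 1), (7, 1), (9, 1), (11, 1), (12, 1), (15, 1), (19, 1), (20, 1), (23, 1), (25, 1), (26, 1), (29, 1), (30, 1), (31, 1), (34, 1), (37, 1), (38, 1), (41, 1), (42, 1), (43, 1), (44, 1), (45, 1), (46, 1), (47, 1), (48, 1), (51, 1), (52, 1), (54, 1), (55, 1), (56, 1), (57, 1), (58, 1), (66, 1), (68, 1), (69, 1), (70, 1), (74, 1), (75, 1), (76, 1), (78, 1), (79, 1), (80, 1), (81, 1), (83, 1), (85, 1), (86, 1), (87, 1), (91, 1), (118, 1), (563, 1), (564, 1), (565, 1), (566, 1), (567, 1), (568, 1), (569, 1), (574, 1), (628, 1), (631, 1), (632, 1), (634, 1), (637, 1), (638, 1), (642, 1)], [(1, 1), (5, 1), (6, 1), (7, 1), (9, 1), (10, 1), (11, 1), (12, 1), (14, 1), (18, 1), (19, 1), (21, 1), (22, 1), (23, 1), (24, 1), (25, 1), (27, 1), (28, 1), (40, 1), (41, 1), (42, 1), (46, 1), (51, 1), (53, 1), (55, 1), (56, 1), (57, 1), (58, 1), (59, 1), (61, 1), (62, 1), (63,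 1), (64, 1), (65, 1), (68, 1), (69, 1), (73, 1), (76, 1), (77, 1), (78, 1), (81, 1), (83, 1), (84, 1), (86, 1), (93, 1), (94, 1), (118, 1), (120, 1), (122, 1), (565, 1), (568, 1), (571, 1), (631, 1), (632, 1), (633, 1), (634, 1), (635, 1), (636, 1), (637, 1), (639, 1), (640, 1)], [(1, 1), (4, 1), (7, 1), (12, 1), (13, 1), (18, 1), (19, 1), (22, 1), (26, 1), (27, 1), (29, 1), (36, 1), (37, 1), (39, 1), (42, 1), (44, 1), (46, 1), (48, 1), (52, 1), (53, 1), (55, 1), (58, 1), (61, 1), (62, 1), (64, 1), (66, 1), (68, 1), (69, 1), (75, 1), (77, 1), (78, 1), (79, 1), (81, 1), (85, 1), (86, 1), (90, 1), (120, 1), (122, 1), (563, 1), (564, 1), (566, 1), (567, 1), (569, 1), (571, 1), (574, 1), (628, 1), (633, 1), (635, 1), (636, 1), (638, 1), (639, 1), (640, 1), (642, 1)]],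
    [[(4, 1), (6, 1), (7, 1), (8, 1), (11, 1), (12, 1), (13, 1), (16, 1), (19, 1), (24, 1), (25, 1), (26, 1), (27, 1), (34, 1), (35, 1), (37, 1), (38, 1), (42, 1), (44, 1), (46, 1), (47, 1), (48, 1), (50, 1), (51, 1), (53, 1), (55, 1), (58, 1), (62, 1), (64, 1), (65, 1), (71, 1), (72, 1), (76, 1), (78, 1), (81, 1), (82, 1), (87, 1), (91, 1), (94, 1), (118, 1), (119, 1), (122, 1), (565, 1), (567, 1), (569, 1), (571, 1), (574, 1), (575, 1), (631, 1), (632, 1), (633, 1), (635, 1), (636, 1), (639, 1)], [(2, 1), (5, 1), (6, 1), (8, 1), (9, 1), (11, 1), (12, 1), (15, 1), (18, 1), (20, 1), (23, 1), (26, 1), (27, 1), (28, 1), (29, 1), (30, 1), (31, 1), (32, 1), (34, 1), (38, 1), (39, 1), (41, 1), (42, 1), (43, 1), (44, 1), (46, 1), (47, 1), (50, 1), (51, 1), (52, 1), (54, 1), (56, 1), (59, 1), (61, 1), (62, 1), (66, 1), (73, 1), (74, 1), (77, 1), (78, 1), (82, 1),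 (83, 1), (91, 1), (93, 1), (119, 1), (122, 1), (565, 1), (567, 1), (569, 1), (571, 1), (574, 1), (575, 1), (631, 1), (632, 1), (633, 1), (635, 1), (636, 1), (639, 1)], [(0, 1), (1, 1), (2, 1), (6, 1), (8, 1), (9, 1), (10, 1), (11, 1), (13, 1), (14, 1), (15, 1), (16, 1), (18, 1), (19, 1), (20, 1), (22, 1), (24, 1), (26, 1), (30, 1), (34, 1), (37, 1), (38, 1), (39, 1), (42, 1), (45, 1), (47, 1), (50, 1), (59, 1), (63, 1), (64, 1), (66, 1), (68, 1), (69, 1), (70, 1), (71, 1), (72, 1), (73, 1), (74, 1), (75, 1), (76, 1), (77, 1), (81, 1), (82, 1), (84, 1), (86, 1), (87, 1), (94, 1), (133, 1)], [(0, 1), (8, 1), (9, 1), (11, 1), (12, 1), (13, 1), (15, 1), (16, 1), (21, 1), (22, 1), (25, 1), (26, 1), (27, 1), (28, 1), (29, 1), (31, 1), (32, 1), (35, 1), (36, 1), (38, 1), (39, 1), (42, 1), (47, 1), (48, 1), (49, 1), (50, 1), (59, 1), (60, 1), (63, 1), (66, 1), (68,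 1), (69, 1), (71, 1), (75, 1), (78, 1), (81, 1), (84, 1), (85, 1), (86, 1), (87, 1), (90, 1), (121, 1), (122, 1), (133, 1), (562, 1), (563, 1), (566, 1), (569, 1), (570, 1), (628, 1), (629, 1), (630, 1), (631, 1), (634, 1), (637, 1), (638, 1)], [(0, 1), (5, 1), (6, 1), (9, 1), (10, 1), (12, 1), (13, 1), (18, 1), (19, 1), (24, 1), (26, 1), (28, 1), (29, 1), (30, 1), (31, 1), (32, 1), (33, 1), (36, 1), (38, 1), (40, 1), (49, 1), (51, 1), (52, 1), (56, 1), (58, 1), (60, 1), (66, 1), (69, 1), (72, 1), (75, 1), (76, 1), (78, 1), (79, 1), (80, 1), (81, 1), (83, 1), (84, 1), (86, 1), (87, 1), (90, 1), (91, 1), (94, 1), (118, 1), (119, 1), (120, 1), (121, 1), (562, 1), (563, 1), (566, 1), (567, 1), (568, 1), (570, 1), (574, 1), (575, 1), (628, 1), (629, 1), (630, 1), (631, 1), (638, 1), (640, 1)], [(0, 1), (5, 1), (7, 1), (10, 1), (11, 1), (12, 1), (13, 1), (14,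 1), (19, 1), (23, 1), (24, 1), (25, 1), (28, 1), (30, 1), (31, 1), (32, 1), (33, 1), (36, 1), (37, 1), (38, 1), (41, 1), (42, 1), (46, 1), (47, 1), (48, 1), (49, 1), (50, 1), (52, 1), (54, 1), (58, 1), (59, 1), (60, 1), (62, 1), (65, 1), (66, 1), (67, 1), (69, 1), (72, 1), (75, 1), (77, 1), (78, 1), (79, 1), (80, 1), (81, 1), (82, 1), (84, 1), (122, 1)], [(1, 1), (6, 1), (9, 1), (12, 1), (18, 1), (21, 1), (22, 1), (26, 1), (29, 1), (40, 1), (41, 1), (42, 1), (45, 1), (46, 1), (48, 1), (51, 1), (55, 1), (56, 1), (57, 1), (58, 1), (59, 1), (65, 1), (68, 1), (69, 1), (70, 1), (73, 1), (75, 1), (78, 1), (79, 1), (80, 1), (82, 1), (83, 1), (84, 1), (86, 1), (87, 1), (91, 1), (93, 1), (94, 1), (118, 1), (120, 1), (565, 1), (568, 1), (571, 1), (631, 1), (632, 1), (633, 1), (634, 1), (635, 1), (636, 1), (637, 1), (639, 1), (640, 1)], [(0, 1), (2, 1), (3, 1), (4,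 1), (6, 1), (8, 1), (9, 1), (14, 1), (15, 1), (17, 1), (18, 1), (19, 1), (20, 1), (21, 1), (22, 1), (26, 1), (29, 1), (30, 1), (31, 1), (32, 1), (33, 1), (37, 1), (38, 1), (40, 1), (41, 1), (45, 1), (50, 1), (54, 1), (60, 1), (62, 1), (63, 1), (65, 1), (68, 1), (69, 1), (70, 1), (71, 1), (74, 1), (75, 1), (79, 1), (80, 1), (81, 1), (82, 1), (85, 1), (86, 1), (87, 1), (93, 1), (119, 1), (120, 1), (121, 1), (562, 1), (564, 1), (565, 1), (569, 1), (570, 1), (575, 1), (629, 1), (630, 1), (632, 1), (634, 1), (637, 1), (640, 1), (642, 1)], [(0, 1), (1, 1), (2, 1), (3, 1), (4, 1), (6, 1), (7, 1), (8, 1), (9, 1), (11, 1), (13, 1), (15, 1), (17, 1), (18, 1), (21, 1), (23, 1), (24, 1), (25, 1), (26, 1), (28, 1), (30, 1), (31, 1), (34, 1), (37, 1), (38, 1), (40, 1), (43, 1), (45, 1), (46, 1), (47, 1), (48, 1), (50, 1), (53, 1), (54, 1), (55, 1), (56, 1), (59, 1), (62,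 1), (64, 1), (68, 1), (69, 1), (70, 1), (72, 1), (73, 1), (75, 1), (76, 1), (79, 1), (84, 1), (86, 1), (91, 1), (120, 1), (122, 1), (563, 1), (564, 1), (566, 1), (567, 1), (569, 1), (571, 1), (574, 1), (628, 1), (633, 1), (635, 1), (636, 1), (638, 1), (639, 1), (640, 1), (642, 1)], [(6, 1), (11, 1), (12, 1), (13, 1), (15, 1), (19, 1), (23, 1), (24, 1), (25, 1), (28, 1), (32, 1), (33, 1), (34, 1), (37, 1), (41, 1), (43, 1), (47, 1), (48, 1), (49, 1), (52, 1), (56, 1), (58, 1), (59, 1), (62, 1), (63, 1), (64, 1), (65, 1), (67, 1), (72, 1), (73, 1), (74, 1), (81, 1), (84, 1), (85, 1), (87, 1), (91, 1), (94, 1), (122, 1)]],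
    [[(1, 1), (4, 1), (7, 1), (12, 1), (18, 1), (19, 1), (24, 1), (27, 1), (28, 1), (29, 1), (30, 1), (33, 1), (34, 1), (35, 1), (36, 1), (39, 1), (41, 1), (42, 1), (44, 1), (46, 1), (47, 1), (48, 1), (49, 1), (50, 1), (51, 1), (54, 1), (56, 1), (57, 1), (65, 1), (67, 1), (69, 1), (72, 1), (74, 1), (76, 1), (77, 1), (78, 1), (79, 1), (80, 1), (82, 1), (83, 1), (86, 1), (119, 1), (120, 1), (121, 1), (133, 1), (562, 1), (563, 1), (566, 1), (567, 1), (568, 1), (570, 1), (574, 1), (575, 1), (628, 1), (629, 1), (630, 1), (631, 1), (638, 1), (640, 1)], [(0, 1), (3, 1), (6, 1), (7, 1), (8, 1), (9, 1), (11, 1), (12, 1), (14, 1), (17, 1), (18, 1), (20, 1), (21, 1), (22, 1), (23, 1), (24, 1), (25, 1), (26, 1), (28, 1), (29, 1), (30, 1), (33, 1), (34, 1), (35, 1), (37, 1), (39, 1), (44, 1), (45, 1), (47, 1), (48, 1), (49, 1), (50, 1), (52, 1), (53, 1), (54, 1), (55,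 1), (56, 1), (58, 1), (59, 1), (62, 1), (64, 1), (69, 1), (71, 1), (73, 1), (74, 1), (75, 1), (78, 1), (79, 1), (81, 1), (82, 1), (83, 1), (86, 1), (87, 1), (91, 1), (93, 1), (119, 1), (120, 1), (121, 1), (122, 1), (133, 1), (562, 1), (564, 1), (565, 1), (569, 1), (570, 1), (575, 1), (629, 1), (630, 1), (632, 1), (634, 1), (637, 1), (640, 1), (642, 1)], [(0, 1), (3, 1), (5, 1), (7, 1), (8, 1), (9, 1), (12, 1), (15, 1), (16, 1), (17, 1), (19, 1), (20, 1), (22, 1), (23, 1), (24, 1), (29, 1), (34, 1), (35, 1), (36, 1), (37, 1), (38, 1), (41, 1), (42, 1), (47, 1), (48, 1), (49, 1), (50, 1), (53, 1), (55, 1), (56, 1), (59, 1), (60, 1), (63, 1), (64, 1), (65, 1), (67, 1), (68, 1), (71, 1), (74, 1), (75, 1), (77, 1), (78, 1), (79, 1), (80, 1), (82, 1), (83, 1), (85, 1), (86, 1), (90, 1), (93, 1), (94, 1), (118, 1), (121, 1), (562, 1), (564, 1), (565, 1), (567, 1),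 (568, 1), (570, 1), (574, 1), (629, 1), (630, 1), (632, 1), (642, 1)], [(0, 1), (1, 1), (9, 1), (11, 1), (12, 1), (15, 1), (18, 1), (20, 1), (22, 1), (23, 1), (25, 1), (27, 1), (30, 1), (31, 1), (34, 1), (35, 1), (36, 1), (37, 1), (38, 1), (39, 1), (46, 1), (47, 1), (48, 1), (49, 1), (51, 1), (52, 1), (54, 1), (55, 1), (56, 1), (57, 1), (58, 1), (59, 1), (60, 1), (62, 1), (63, 1), (64, 1), (65, 1), (66, 1), (67, 1), (68, 1), (70, 1), (72, 1), (73, 1), (74, 1), (75, 1), (76, 1), (77, 1), (78, 1), (79, 1), (80, 1), (81, 1), (82, 1), (86, 1), (87, 1), (90, 1), (91, 1), (93, 1), (94, 1), (118, 1), (120, 1), (122, 1), (565, 1), (568, 1), (571, 1), (631, 1), (632, 1), (633, 1), (634, 1), (635, 1), (636, 1), (637, 1), (639, 1), (640, 1)], [(0, 1), (2, 1), (3, 1), (4, 1), (6, 1), (8, 1), (9, 1), (14, 1), (15, 1), (17, 1), (18, 1), (19, 1), (20, 1), (21, 1), (22,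 1), (27, 1), (30, 1), (31, 1), (34, 1), (38, 1), (40, 1), (44, 1), (45, 1), (48, 1), (49, 1), (53, 1), (54, 1), (56, 1), (57, 1), (59, 1), (67, 1), (69, 1), (71, 1), (73, 1), (74, 1), (76, 1), (80, 1), (82, 1), (84, 1), (86, 1), (91, 1), (94, 1), (119, 1), (120, 1), (121, 1), (562, 1), (564, 1), (565, 1), (569, 1), (570, 1), (575, 1), (629, 1), (630, 1), (632, 1), (634, 1), (637, 1), (640, 1), (642, 1)], [(2, 1), (3, 1), (4, 1), (7, 1), (8, 1), (11, 1), (12, 1), (13, 1), (17, 1), (19, 1), (20, 1), (21, 1), (22, 1), (23, 1), (25, 1), (29, 1), (36, 1), (37, 1), (41, 1), (44, 1), (48, 1), (50, 1), (51, 1), (52, 1), (57, 1), (58, 1), (59, 1), (62, 1), (64, 1), (66, 1), (67, 1), (68, 1), (70, 1), (72, 1), (76, 1), (78, 1), (81, 1), (85, 1), (87, 1), (90, 1), (94, 1), (118, 1), (122, 1), (563, 1), (564, 1), (565, 1), (566, 1), (567, 1), (568, 1), (569, 1), (574,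 1), (628, 1), (631, 1), (632, 1), (634, 1), (637, 1), (638, 1), (642, 1)], [(0, 1), (1, 1), (2, 1), (3, 1), (4, 1), (6, 1), (8, 1), (11, 1), (12, 1), (14, 1), (17, 1), (19, 1), (21, 1), (23, 1), (25, 1), (29, 1), (30, 1), (31, 1), (34, 1), (38, 1), (41, 1), (43, 1), (45, 1), (46, 1), (50, 1), (51, 1), (54, 1), (56, 1), (57, 1), (60, 1), (62, 1), (64, 1), (65, 1), (66, 1), (69, 1), (72, 1), (73, 1), (78, 1), (82, 1), (83, 1), (84, 1), (85, 1), (86, 1), (90, 1), (93, 1), (94, 1), (118, 1), (119, 1), (121, 1), (122, 1), (562, 1), (564, 1), (568, 1), (569, 1), (570, 1), (571, 1), (575, 1), (629, 1), (630, 1), (631, 1), (633, 1), (635, 1), (636, 1), (639, 1), (642, 1)], [(0, 1), (2, 1), (3, 1), (4, 1), (8, 1), (9, 1), (11, 1), (12, 1), (13, 1), (14, 1), (17, 1), (18, 1), (19, 1), (22, 1), (23, 1), (25, 1), (27, 1), (30, 1), (31, 1), (32, 1), (33, 1), (37, 1),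 (38, 1), (39, 1), (41, 1), (42, 1), (44, 1), (46, 1), (47, 1), (50, 1), (51, 1), (52, 1), (54, 1), (56, 1), (61, 1), (62, 1), (63, 1), (65, 1), (67, 1), (72, 1), (73, 1), (76, 1), (77, 1), (78, 1), (84, 1), (85, 1), (87, 1), (94, 1), (119, 1), (120, 1), (121, 1), (122, 1), (562, 1), (564, 1), (565, 1), (569, 1), (570, 1), (575, 1), (629, 1), (630, 1), (632, 1), (634, 1), (637, 1), (640, 1), (642, 1)], [(1, 1), (2, 1), (3, 1), (4, 1), (5, 1), (8, 1), (9, 1), (10, 1), (11, 1), (12, 1), (14, 1), (17, 1), (18, 1), (19, 1), (20, 1), (23, 1), (25, 1), (27, 1), (36, 1), (37, 1), (39, 1), (43, 1), (45, 1), (46, 1), (49, 1), (50, 1), (51, 1), (53, 1), (54, 1), (55, 1), (56, 1), (59, 1), (60, 1), (61, 1), (66, 1), (67, 1), (68, 1), (75, 1), (77, 1), (78, 1), (83, 1), (86, 1), (90, 1), (91, 1), (93, 1), (94, 1), (120, 1), (122, 1), (563, 1), (564, 1), (566, 1), (567,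 1), (569, 1), (571, 1), (574, 1), (628, 1), (633, 1), (635, 1), (636, 1), (638, 1), (639, 1), (640, 1), (642, 1)], [(2, 1), (3, 1), (4, 1), (6, 1), (8, 1), (9, 1), (12, 1), (13, 1), (14, 1), (17, 1), (18, 1), (19, 1), (20, 1), (21, 1), (22, 1), (26, 1), (29, 1), (36, 1), (39, 1), (43, 1), (45, 1), (49, 1), (51, 1), (52, 1), (55, 1), (63, 1), (64, 1), (65, 1), (67, 1), (68, 1), (74, 1), (78, 1), (85, 1), (90, 1), (119, 1), (120, 1), (121, 1), (562, 1), (564, 1), (565, 1), (569, 1), (570, 1), (575, 1), (629, 1), (630, 1), (632, 1), (634, 1), (637, 1), (640, 1), (642, 1)], [(6, 1), (11, 1), (20, 1), (21, 1), (23, 1), (25, 1), (32, 1), (33, 1), (34, 1), (37, 1), (39, 1), (40, 1), (41, 1), (45, 1), (46, 1), (47, 1), (49, 1), (52, 1), (53, 1), (54, 1), (57, 1), (58, 1), (61, 1), (63, 1), (65, 1), (68, 1), (71, 1), (74, 1), (78, 1), (79, 1), (82, 1), (83, 1), (85,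 1), (86, 1), (87, 1), (93, 1), (122, 1)]],
    [[(1, 1), (5, 1), (6, 1), (10, 1), (11, 1), (13, 1), (15, 1), (21, 1), (22, 1), (23, 1), (25, 1), (29, 1), (37, 1), (42, 1), (43, 1), (44, 1), (45, 1), (47, 1), (49, 1), (53, 1), (54, 1), (55, 1), (57, 1), (59, 1), (60, 1), (61, 1), (64, 1), (65, 1), (67, 1), (68, 1), (69, 1), (71, 1), (73, 1), (75, 1), (79, 1), (84, 1), (85, 1), (90, 1), (119, 1), (121, 1), (122, 1), (562, 1), (563, 1), (565, 1), (566, 1), (567, 1), (570, 1), (571, 1), (574, 1), (575, 1), (628, 1), (629, 1), (630, 1), (632, 1), (633, 1), (634, 1), (635, 1), (636, 1), (637, 1), (638, 1), (639, 1)], [(0, 1), (6, 1), (7, 1), (9, 1), (10, 1), (11, 1), (13, 1), (15, 1), (18, 1), (23, 1), (25, 1), (27, 1), (29, 1), (30, 1), (31, 1), (32, 1), (33, 1), (36, 1), (38, 1), (40, 1), (43, 1), (44, 1), (46, 1), (47, 1), (48, 1), (50, 1), (52, 1), (55, 1),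 (57, 1), (58, 1), (60, 1), (61, 1), (63, 1), (67, 1), (69, 1), (70, 1), (72, 1), (74, 1), (75, 1), (79, 1), (80, 1), (82, 1), (83, 1), (87, 1), (93, 1), (118, 1), (119, 1), (120, 1), (121, 1), (122, 1), (562, 1), (563, 1), (566, 1), (567, 1), (568, 1), (570, 1), (574, 1), (575, 1), (628, 1), (629, 1), (630, 1), (631, 1), (638, 1), (640, 1)], [(0, 1), (1, 1), (6, 1), (9, 1), (12, 1), (15, 1), (18, 1), (19, 1), (20, 1), (22, 1), (26, 1), (27, 1), (30, 1), (31, 1), (32, 1), (33, 1), (36, 1), (37, 1), (38, 1), (39, 1), (42, 1), (43, 1), (44, 1), (45, 1), (46, 1), (48, 1), (49, 1), (52, 1), (53, 1), (55, 1), (56, 1), (57, 1), (58, 1), (63, 1), (66, 1), (67, 1), (70, 1), (71, 1), (72, 1), (73, 1), (77, 1), (78, 1), (79, 1), (80, 1), (82, 1), (84, 1), (86, 1), (90, 1), (118, 1), (120, 1), (565, 1), (568, 1), (571, 1), (631, 1), (632, 1), (633, 1), (634, 1), (635,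 1), (636, 1), (637, 1), (639, 1), (640, 1)], [(0, 1), (1, 1), (5, 1), (6, 1), (10, 1), (11, 1), (13, 1), (19, 1), (20, 1), (22, 1), (23, 1), (24, 1), (25, 1), (26, 1), (27, 1), (28, 1), (29, 1), (30, 1), (31, 1), (32, 1), (33, 1), (36, 1), (37, 1), (38, 1), (39, 1), (42, 1), (43, 1), (47, 1), (49, 1), (50, 1), (53, 1), (54, 1), (59, 1), (61, 1), (64, 1), (69, 1), (73, 1), (74, 1), (76, 1), (77, 1), (84, 1), (87, 1), (91, 1), (94, 1), (119, 1), (121, 1), (122, 1), (562, 1), (563, 1), (565, 1), (566, 1), (567, 1), (570, 1), (571, 1), (574, 1), (575, 1), (628, 1), (629, 1), (630, 1), (632, 1), (633, 1), (634, 1), (635, 1), (636, 1), (637, 1), (638, 1), (639, 1)], [(0, 1), (1, 1), (5, 1), (10, 1), (12, 1), (20, 1), (22, 1), (30, 1), (31, 1), (32, 1), (33, 1), (36, 1), (38, 1), (41, 1), (43, 1), (44, 1), (46, 1), (47, 1), (52, 1), (54, 1), (55, 1), (59, 1), (60,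 1), (61, 1), (66, 1), (68, 1), (72, 1), (73, 1), (74, 1), (75, 1), (77, 1), (78, 1), (79, 1), (80, 1), (82, 1), (84, 1), (85, 1), (86, 1), (87, 1), (90, 1), (91, 1), (93, 1), (119, 1), (121, 1), (562, 1), (563, 1), (565, 1), (566, 1), (567, 1), (570, 1), (571, 1), (574, 1), (575, 1), (628, 1), (629, 1), (630, 1), (632, 1), (633, 1), (634, 1), (635, 1), (636, 1), (637, 1), (638, 1), (639, 1)], [(0, 1), (1, 1), (6, 1), (7, 1), (13, 1), (14, 1), (15, 1), (19, 1), (21, 1), (22, 1), (24, 1), (28, 1), (29, 1), (30, 1), (31, 1), (34, 1), (36, 1), (37, 1), (38, 1), (39, 1), (40, 1), (42, 1), (44, 1), (46, 1), (47, 1), (50, 1), (51, 1), (52, 1), (53, 1), (58, 1), (60, 1), (61, 1), (65, 1), (69, 1), (70, 1), (76, 1), (80, 1), (81, 1), (82, 1), (83, 1), (85, 1), (87, 1), (119, 1), (121, 1), (562, 1), (563, 1), (565, 1), (566, 1), (567, 1), (570, 1), (571, 1), (574,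 1), (575, 1), (628, 1), (629, 1), (630, 1), (632, 1), (633, 1), (634, 1), (635, 1), (636, 1), (637, 1), (638, 1), (639, 1)], [(0, 1), (2, 1), (3, 1), (4, 1), (5, 1), (7, 1), (8, 1), (9, 1), (10, 1), (15, 1), (17, 1), (18, 1), (22, 1), (24, 1), (27, 1), (28, 1), (29, 1), (30, 1), (31, 1), (32, 1), (33, 1), (37, 1), (38, 1), (40, 1), (41, 1), (42, 1), (44, 1), (45, 1), (48, 1), (50, 1), (51, 1), (56, 1), (57, 1), (58, 1), (60, 1), (61, 1), (67, 1), (69, 1), (71, 1), (72, 1), (73, 1), (74, 1), (78, 1), (82, 1), (83, 1), (86, 1), (87, 1), (90, 1), (91, 1), (94, 1), (119, 1), (120, 1), (121, 1), (562, 1), (564, 1), (565, 1), (569, 1), (570, 1), (575, 1), (629, 1), (630, 1), (632, 1), (634, 1), (637, 1), (640, 1), (642, 1)], [(0, 1), (2, 1), (3, 1), (4, 1), (5, 1), (6, 1), (7, 1), (8, 1), (9, 1), (10, 1), (11, 1), (15, 1), (17, 1), (18, 1), (19, 1), (22, 1), (23,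 1), (25, 1), (27, 1), (30, 1), (31, 1), (32, 1), (33, 1), (37, 1), (38, 1), (39, 1), (41, 1), (48, 1), (49, 1), (50, 1), (55, 1), (56, 1), (57, 1), (58, 1), (61, 1), (63, 1), (65, 1), (66, 1), (67, 1), (68, 1), (70, 1), (73, 1), (77, 1), (79, 1), (84, 1), (85, 1), (94, 1), (119, 1), (120, 1), (121, 1), (122, 1), (562, 1), (564, 1), (565, 1), (569, 1), (570, 1), (575, 1), (629, 1), (630, 1), (632, 1), (634, 1), (637, 1), (640, 1), (642, 1)], [(5, 1), (6, 1), (7, 1), (10, 1), (14, 1), (15, 1), (39, 1), (40, 1), (42, 1), (43, 1), (44, 1), (45, 1), (48, 1), (49, 1), (51, 1), (52, 1), (57, 1), (58, 1), (69, 1), (70, 1), (73, 1), (78, 1), (80, 1), (82, 1), (84, 1), (86, 1), (90, 1), (93, 1)], [(5, 1), (7, 1), (10, 1), (11, 1), (14, 1), (15, 1), (20, 1), (21, 1), (23, 1), (25, 1), (26, 1), (27, 1), (32, 1), (33, 1), (34, 1), (37, 1), (39, 1), (40, 1), (41, 1), (42,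 1), (44, 1), (45, 1), (48, 1), (51, 1), (52, 1), (53, 1), (54, 1), (55, 1), (61, 1), (62, 1), (63, 1), (66, 1), (70, 1), (71, 1), (72, 1), (74, 1), (75, 1), (76, 1), (77, 1), (79, 1), (80, 1), (81, 1), (82, 1), (85, 1), (86, 1), (87, 1), (90, 1), (91, 1), (93, 1), (94, 1), (122, 1)], [(0, 1), (5, 1), (7, 1), (10, 1), (11, 1), (14, 1), (20, 1), (21, 1), (23, 1), (25, 1), (30, 1), (31, 1), (32, 1), (33, 1), (36, 1), (37, 1), (38, 1), (39, 1), (40, 1), (41, 1), (43, 1), (45, 1), (48, 1), (49, 1), (51, 1), (52, 1), (54, 1), (56, 1), (57, 1), (58, 1), (60, 1), (66, 1), (71, 1), (72, 1), (73, 1), (77, 1), (78, 1), (79, 1), (82, 1), (84, 1), (87, 1), (94, 1), (122, 1)], [(0, 1), (6, 1), (11, 1), (15, 1), (20, 1), (21, 1), (23, 1), (25, 1), (30, 1), (31, 1), (34, 1), (36, 1), (38, 1), (42, 1), (45, 1), (46, 1), (52, 1), (53, 1), (54, 1), (57, 1), (58, 1), (61, 1),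 (62, 1), (65, 1), (66, 1), (67, 1), (71, 1), (73, 1), (74, 1), (79, 1), (80, 1), (81, 1), (82, 1), (83, 1), (84, 1), (85, 1), (86, 1), (91, 1), (93, 1), (122, 1)]],
    [[(0, 1), (1, 1), (5, 1), (10, 1), (12, 1), (20, 1), (22, 1), (26, 1), (27, 1), (30, 1), (31, 1), (32, 1), (33, 1), (36, 1), (38, 1), (41, 1), (43, 1), (44, 1), (46, 1), (47, 1), (52, 1), (53, 1), (54, 1), (55, 1), (59, 1), (60, 1), (61, 1), (66, 1), (68, 1), (72, 1), (73, 1), (74, 1), (75, 1), (77, 1), (78, 1), (79, 1), (80, 1), (81, 1), (82, 1), (84, 1), (85, 1), (86, 1), (87, 1), (90, 1), (91, 1), (93, 1), (119, 1), (121, 1), (562, 1), (563, 1), (565, 1), (566, 1), (567, 1), (570, 1), (571, 1), (574, 1), (575, 1), (628, 1), (629, 1), (630, 1), (632, 1), (633, 1), (634, 1), (635, 1), (636, 1), (637, 1), (638, 1), (639, 1)], [(0, 1), (1, 1), (2, 1), (3, 1), (4, 1), (5, 1), (6, 1), (8, 1),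 (9, 1), (10, 1), (11, 1), (12, 1), (14, 1), (17, 1), (18, 1), (19, 1), (21, 1), (26, 1), (29, 1), (30, 1), (31, 1), (34, 1), (37, 1), (38, 1), (39, 1), (42, 1), (43, 1), (48, 1), (49, 1), (50, 1), (51, 1), (55, 1), (56, 1), (57, 1), (60, 1), (64, 1), (69, 1), (71, 1), (75, 1), (77, 1), (78, 1), (79, 1), (80, 1), (82, 1), (84, 1), (85, 1), (91, 1), (93, 1), (94, 1), (120, 1), (563, 1), (564, 1), (566, 1), (567, 1), (569, 1), (571, 1), (574, 1), (628, 1), (633, 1), (635, 1), (636, 1), (638, 1), (639, 1), (640, 1), (642, 1)], [(1, 1), (2, 1), (3, 1), (4, 1), (5, 1), (6, 1), (8, 1), (9, 1), (10, 1), (13, 1), (14, 1), (17, 1), (18, 1), (19, 1), (21, 1), (25, 1), (26, 1), (29, 1), (36, 1), (37, 1), (39, 1), (42, 1), (45, 1), (46, 1), (47, 1), (50, 1), (51, 1), (52, 1), (53, 1), (56, 1), (57, 1), (59, 1), (60, 1), (61, 1), (63, 1), (65, 1), (67, 1), (68, 1), (71,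 1), (75, 1), (76, 1), (77, 1), (79, 1), (81, 1), (82, 1), (84, 1), (86, 1), (91, 1), (93, 1), (94, 1), (120, 1), (563, 1), (564, 1), (566, 1), (567, 1), (569, 1), (571, 1), (574, 1), (628, 1), (633, 1), (635, 1), (636, 1), (638, 1), (639, 1), (640, 1), (642, 1)], [(0, 1), (1, 1), (2, 1), (3, 1), (4, 1), (7, 1), (8, 1), (9, 1), (13, 1), (17, 1), (18, 1), (19, 1), (21, 1), (27, 1), (29, 1), (30, 1), (31, 1), (32, 1), (33, 1), (40, 1), (41, 1), (47, 1), (49, 1), (50, 1), (52, 1), (53, 1), (55, 1), (60, 1), (61, 1), (62, 1), (65, 1), (67, 1), (69, 1), (71, 1), (74, 1), (75, 1), (78, 1), (80, 1), (81, 1), (82, 1), (84, 1), (85, 1), (91, 1), (94, 1), (120, 1), (563, 1), (564, 1), (566, 1), (567, 1), (569, 1), (571, 1), (574, 1), (628, 1), (633, 1), (635, 1), (636, 1), (638, 1), (639, 1), (640, 1), (642, 1)], [(2, 1), (3, 1), (4, 1), (6, 1), (8, 1), (9, 1), (14,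 1), (17, 1), (18, 1), (19, 1), (20, 1), (21, 1), (22, 1), (27, 1), (29, 1), (36, 1), (39, 1), (42, 1), (43, 1), (45, 1), (47, 1), (48, 1), (49, 1), (51, 1), (52, 1), (54, 1), (55, 1), (58, 1), (59, 1), (62, 1), (63, 1), (64, 1), (65, 1), (67, 1), (69, 1), (72, 1), (74, 1), (75, 1), (78, 1), (80, 1), (81, 1), (82, 1), (83, 1), (84, 1), (85, 1), (90, 1), (91, 1), (93, 1), (94, 1), (119, 1), (120, 1), (121, 1), (562, 1), (564, 1), (565, 1), (569, 1), (570, 1), (575, 1), (629, 1), (630, 1), (632, 1), (634, 1), (637, 1), (640, 1), (642, 1)], [(0, 1), (5, 1), (6, 1), (7, 1), (10, 1), (12, 1), (13, 1), (14, 1), (15, 1), (29, 1), (30, 1), (31, 1), (32, 1), (33, 1), (36, 1), (37, 1), (38, 1), (39, 1), (40, 1), (41, 1), (42, 1), (43, 1), (44, 1), (45, 1), (57, 1), (59, 1), (60, 1), (63, 1), (64, 1), (65, 1), (66, 1), (67, 1), (71, 1), (74, 1), (75, 1), (77, 1), (78,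 1), (80, 1), (82, 1), (83, 1), (84, 1), (86, 1), (87, 1), (94, 1)], [(0, 1), (5, 1), (6, 1), (7, 1), (10, 1), (14, 1), (30, 1), (31, 1), (32, 1), (33, 1), (36, 1), (37, 1), (38, 1), (39, 1), (40, 1), (41, 1), (44, 1), (46, 1), (47, 1), (49, 1), (50, 1), (51, 1), (53, 1), (55, 1), (57, 1), (59, 1), (64, 1), (67, 1), (68, 1), (69, 1), (70, 1), (71, 1), (72, 1), (74, 1), (75, 1), (76, 1), (77, 1), (78, 1), (80, 1), (81, 1), (83, 1), (84, 1), (87, 1), (91, 1), (93, 1), (94, 1)], [(5, 1), (6, 1), (7, 1), (10, 1), (12, 1), (13, 1), (14, 1), (32, 1), (33, 1), (34, 1), (37, 1), (39, 1), (40, 1), (41, 1), (43, 1), (45, 1), (48, 1), (49, 1), (51, 1), (52, 1), (54, 1), (56, 1), (60, 1), (63, 1), (67, 1), (72, 1), (75, 1), (76, 1), (78, 1), (79, 1), (81, 1), (85, 1), (86, 1), (93, 1)], [(0, 1), (12, 1), (13, 1), (26, 1), (27, 1), (30, 1), (31, 1), (32, 1), (33, 1), (36,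 1), (37, 1), (38, 1), (39, 1), (40, 1), (41, 1), (43, 1), (50, 1), (52, 1), (53, 1), (54, 1), (55, 1), (60, 1), (62, 1), (64, 1), (67, 1), (69, 1), (70, 1), (71, 1), (72, 1), (73, 1), (78, 1), (79, 1), (81, 1), (86, 1), (93, 1)], [(5, 1), (6, 1), (7, 1), (10, 1), (12, 1), (13, 1), (14, 1), (15, 1), (26, 1), (27, 1), (29, 1), (32, 1), (33, 1), (34, 1), (37, 1), (41, 1), (46, 1), (49, 1), (50, 1), (51, 1), (52, 1), (53, 1), (55, 1), (56, 1), (58, 1), (59, 1), (60, 1), (62, 1), (64, 1), (66, 1), (67, 1), (74, 1), (75, 1), (78, 1), (80, 1), (82, 1), (83, 1), (85, 1), (90, 1), (91, 1), (93, 1), (94, 1)], [(15, 1), (26, 1), (27, 1), (29, 1), (39, 1), (40, 1), (42, 1), (43, 1), (45, 1), (46, 1), (48, 1), (50, 1), (51, 1), (52, 1), (54, 1), (55, 1), (58, 1), (59, 1), (65, 1), (66, 1), (73, 1), (75, 1), (76, 1), (79, 1), (83, 1), (84, 1), (86, 1), (94, 1)], [(5, 1),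 (6, 1), (7, 1), (10, 1), (14, 1), (29, 1), (32, 1), (33, 1), (34, 1), (37, 1), (41, 1), (42, 1), (46, 1), (49, 1), (50, 1), (52, 1), (53, 1), (54, 1), (55, 1), (56, 1), (58, 1), (59, 1), (60, 1), (63, 1), (66, 1), (67, 1), (72, 1), (73, 1), (75, 1), (78, 1), (79, 1), (83, 1), (85, 1), (87, 1), (90, 1), (93, 1), (94, 1)], [(15, 1), (43, 1), (46, 1), (47, 1), (48, 1), (50, 1), (51, 1), (52, 1), (53, 1), (55, 1), (57, 1), (59, 1), (60, 1), (64, 1), (66, 1), (68, 1), (72, 1), (75, 1), (77, 1), (80, 1), (82, 1), (83, 1), (84, 1), (85, 1), (87, 1), (90, 1), (94, 1)]],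
    [[(0, 1), (2, 1), (3, 1), (4, 1), (8, 1), (9, 1), (11, 1), (14, 1), (17, 1), (18, 1), (19, 1), (22, 1), (23, 1), (25, 1), (26, 1), (30, 1), (31, 1), (34, 1), (38, 1), (40, 1), (42, 1), (43, 1), (45, 1), (50, 1), (52, 1), (55, 1), (57, 1), (58, 1), (60, 1), (61, 1), (64, 1), (65, 1), (66, 1), (68, 1), (70, 1), (72, 1), (73, 1), (74, 1), (76, 1), (77, 1), (78, 1), (79, 1), (80, 1), (81, 1), (86, 1), (87, 1), (90, 1), (93, 1), (94, 1), (119, 1), (120, 1), (121, 1), (122, 1), (562, 1), (564, 1), (565, 1), (569, 1), (570, 1), (575, 1), (629, 1), (630, 1), (632, 1), (634, 1), (637, 1), (640, 1), (642, 1)], [(0, 1), (5, 1), (6, 1), (7, 1), (10, 1), (12, 1), (30, 1), (31, 1), (34, 1), (36, 1), (38, 1), (39, 1), (40, 1), (42, 1), (45, 1), (47, 1), (52, 1), (55, 1), (56, 1), (58, 1), (59, 1), (60, 1), (61, 1), (63, 1), (65, 1), (68, 1), (73, 1), (74, 1), (75, 1),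 (76, 1), (79, 1), (82, 1), (85, 1), (90, 1), (91, 1), (93, 1), (94, 1)], [(15, 1), (27, 1), (28, 1), (39, 1), (40, 1), (42, 1), (47, 1), (48, 1), (49, 1), (50, 1), (51, 1), (54, 1), (58, 1), (59, 1), (60, 1), (61, 1), (62, 1), (64, 1), (68, 1), (69, 1), (70, 1), (71, 1), (74, 1), (75, 1), (80, 1), (82, 1), (84, 1), (87, 1), (90, 1), (91, 1), (93, 1), (94, 1)], [(0, 1), (5, 1), (6, 1), (7, 1), (10, 1), (12, 1), (13, 1), (14, 1), (26, 1), (27, 1), (30, 1), (31, 1), (34, 1), (36, 1), (38, 1), (39, 1), (41, 1), (43, 1), (46, 1), (49, 1), (50, 1), (52, 1), (53, 1), (56, 1), (58, 1), (59, 1), (61, 1), (62, 1), (66, 1), (69, 1), (70, 1), (73, 1), (74, 1), (75, 1), (80, 1), (81, 1), (83, 1), (85, 1), (86, 1), (87, 1), (90, 1), (94, 1)], [(6, 1), (11, 1), (20, 1), (21, 1), (23, 1), (25, 1), (39, 1), (40, 1), (43, 1), (44, 1), (50, 1), (52, 1), (55, 1), (56, 1), (62,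 1), (65, 1), (66, 1), (67, 1), (72, 1), (74, 1), (75, 1), (77, 1), (78, 1), (79, 1), (80, 1), (84, 1), (94, 1), (122, 1)], [(12, 1), (13, 1), (15, 1), (29, 1), (32, 1), (33, 1), (34, 1), (37, 1), (41, 1), (42, 1), (44, 1), (53, 1), (54, 1), (56, 1), (57, 1), (58, 1), (60, 1), (64, 1), (65, 1), (67, 1), (69, 1), (70, 1), (75, 1), (76, 1), (79, 1), (80, 1), (82, 1), (83, 1), (84, 1), (85, 1), (90, 1)], [(15, 1), (32, 1), (33, 1), (34, 1), (37, 1), (39, 1), (40, 1), (41, 1), (43, 1), (44, 1), (45, 1), (46, 1), (48, 1), (50, 1), (51, 1), (54, 1), (55, 1), (56, 1), (57, 1), (59, 1), (60, 1), (63, 1), (65, 1), (66, 1), (67, 1), (69, 1), (70, 1), (74, 1), (75, 1), (79, 1), (80, 1), (81, 1), (82, 1), (84, 1), (85, 1), (86, 1), (87, 1), (94, 1)], [(0, 1), (15, 1), (26, 1), (27, 1), (29, 1), (30, 1), (31, 1), (34, 1), (36, 1), (38, 1), (39, 1), (40, 1), (42, 1), (43,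 1), (44, 1), (50, 1), (52, 1), (54, 1), (55, 1), (56, 1), (57, 1), (58, 1), (62, 1), (63, 1), (64, 1), (65, 1), (71, 1), (72, 1), (73, 1), (75, 1), (76, 1), (78, 1), (82, 1), (83, 1), (84, 1), (85, 1), (86, 1), (90, 1), (93, 1)], [(5, 1), (6, 1), (7, 1), (10, 1), (14, 1), (29, 1), (32, 1), (33, 1), (34, 1), (37, 1), (41, 1), (46, 1), (49, 1), (50, 1), (51, 1), (55, 1), (56, 1), (58, 1), (59, 1), (60, 1), (62, 1), (64, 1), (65, 1), (66, 1), (67, 1), (74, 1), (78, 1), (79, 1), (84, 1), (85, 1), (87, 1), (90, 1), (93, 1), (94, 1)], [(12, 1), (13, 1), (26, 1), (27, 1), (52, 1), (54, 1), (65, 1), (75, 1), (79, 1), (80, 1), (83, 1), (84, 1), (87, 1), (90, 1), (91, 1)], [(5, 1), (6, 1), (7, 1), (10, 1), (12, 1), (13, 1), (14, 1), (32, 1), (33, 1), (34, 1), (37, 1), (39, 1), (40, 1), (41, 1), (42, 1), (43, 1), (45, 1), (48, 1), (49, 1), (51, 1), (52, 1), (53, 1),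 (54, 1), (56, 1), (60, 1), (63, 1), (64, 1), (67, 1), (72, 1), (74, 1), (76, 1), (78, 1), (79, 1), (80, 1), (82, 1), (84, 1), (85, 1), (86, 1), (93, 1)], [(5, 1), (6, 1), (7, 1), (10, 1), (12, 1), (13, 1), (14, 1), (32, 1), (33, 1), (34, 1), (37, 1), (39, 1), (40, 1), (41, 1), (42, 1), (43, 1), (45, 1), (48, 1), (49, 1), (51, 1), (52, 1), (53, 1), (56, 1), (60, 1), (63, 1), (64, 1), (67, 1), (72, 1), (74, 1), (76, 1), (78, 1), (79, 1), (80, 1), (82, 1), (83, 1), (85, 1), (86, 1), (93, 1)], [(0, 1), (12, 1), (13, 1), (29, 1), (30, 1), (31, 1), (34, 1), (36, 1), (38, 1), (39, 1), (40, 1), (42, 1), (43, 1), (44, 1), (50, 1), (53, 1), (54, 1), (55, 1), (56, 1), (57, 1), (58, 1), (62, 1), (63, 1), (64, 1), (71, 1), (72, 1), (73, 1), (76, 1), (78, 1), (79, 1), (80, 1), (82, 1), (83, 1), (85, 1), (86, 1), (87, 1), (93, 1)], [(0, 1), (30, 1), (31, 1), (34, 1), (36,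 1), (38, 1), (42, 1), (43, 1), (44, 1), (45, 1), (46, 1), (49, 1), (53, 1), (54, 1), (55, 1), (56, 1), (57, 1), (58, 1), (60, 1), (64, 1), (70, 1), (73, 1), (74, 1), (77, 1), (78, 1), (82, 1), (83, 1), (85, 1), (86, 1), (91, 1), (93, 1)]],
    [[(6, 1), (11, 1), (12, 1), (13, 1), (15, 1), (20, 1), (21, 1), (23, 1), (25, 1), (26, 1), (27, 1), (29, 1), (39, 1), (40, 1), (43, 1), (44, 1), (50, 1), (52, 1), (53, 1), (54, 1), (55, 1), (56, 1), (62, 1), (66, 1), (67, 1), (72, 1), (74, 1), (77, 1), (78, 1), (80, 1), (81, 1), (82, 1), (83, 1), (84, 1), (87, 1), (90, 1), (94, 1), (122, 1)], [(5, 1), (7, 1), (10, 1), (11, 1), (20, 1), (21, 1), (23, 1), (25, 1), (29, 1), (32, 1), (33, 1), (34, 1), (37, 1), (39, 1), (40, 1), (41, 1), (43, 1), (44, 1), (46, 1), (49, 1), (51, 1), (52, 1), (53, 1), (54, 1), (58, 1), (59, 1), (60, 1), (64, 1), (72, 1), (75, 1), (77, 1),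 (80, 1), (83, 1), (85, 1), (87, 1), (90, 1), (91, 1), (93, 1), (122, 1)], [(0, 1), (6, 1), (11, 1), (15, 1), (20, 1), (21, 1), (23, 1), (25, 1), (26, 1), (27, 1), (28, 1), (29, 1), (30, 1), (31, 1), (34, 1), (36, 1), (38, 1), (42, 1), (53, 1), (54, 1), (57, 1), (58, 1), (63, 1), (64, 1), (66, 1), (67, 1), (71, 1), (73, 1), (74, 1), (76, 1), (77, 1), (79, 1), (80, 1), (82, 1), (85, 1), (86, 1), (90, 1), (93, 1), (94, 1), (122, 1)], [(0, 1), (5, 1), (7, 1), (10, 1), (11, 1), (12, 1), (13, 1), (14, 1), (15, 1), (20, 1), (21, 1), (23, 1), (25, 1), (26, 1), (27, 1), (30, 1), (31, 1), (32, 1), (33, 1), (36, 1), (37, 1), (38, 1), (39, 1), (40, 1), (42, 1), (43, 1), (45, 1), (48, 1), (49, 1), (54, 1), (56, 1), (57, 1), (58, 1), (60, 1), (62, 1), (64, 1), (65, 1), (66, 1), (71, 1), (73, 1), (74, 1), (77, 1), (78, 1), (80, 1), (81, 1), (82, 1), (83, 1), (84, 1), (90,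 1), (94, 1), (122, 1)], [(29, 1), (84, 1)], [(5, 1), (6, 1), (7, 1), (10, 1), (12, 1), (13, 1), (14, 1), (15, 1), (26, 1), (27, 1), (29, 1), (32, 1), (33, 1), (34, 1), (37, 1), (41, 1), (46, 1), (49, 1), (50, 1), (51, 1), (52, 1), (53, 1), (54, 1), (55, 1), (56, 1), (58, 1), (59, 1), (60, 1), (62, 1), (65, 1), (66, 1), (67, 1), (74, 1), (75, 1), (78, 1), (80, 1), (83, 1), (84, 1), (85, 1), (93, 1), (94, 1)], [(0, 1), (30, 1), (31, 1), (34, 1), (36, 1), (38, 1), (44, 1), (45, 1), (46, 1), (48, 1), (52, 1), (56, 1), (57, 1), (59, 1), (64, 1), (65, 1), (66, 1), (71, 1), (73, 1), (74, 1), (75, 1), (78, 1), (79, 1), (83, 1), (85, 1), (90, 1), (93, 1), (94, 1)], [(0, 1), (15, 1), (26, 1), (27, 1), (30, 1), (31, 1), (34, 1), (36, 1), (38, 1), (39, 1), (40, 1), (42, 1), (43, 1), (44, 1), (50, 1), (52, 1), (53, 1), (54, 1), (55, 1), (56, 1), (57, 1), (58, 1), (62,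 1), (63, 1), (64, 1), (65, 1), (71, 1), (72, 1), (73, 1), (75, 1), (76, 1), (78, 1), (82, 1), (83, 1), (85, 1), (86, 1), (90, 1), (93, 1)], [(0, 1), (5, 1), (6, 1), (7, 1), (10, 1), (12, 1), (13, 1), (14, 1), (15, 1), (26, 1), (27, 1), (30, 1), (31, 1), (32, 1), (33, 1), (36, 1), (37, 1), (38, 1), (41, 1), (42, 1), (44, 1), (45, 1), (48, 1), (49, 1), (50, 1), (51, 1), (53, 1), (54, 1), (55, 1), (57, 1), (58, 1), (60, 1), (62, 1), (64, 1), (67, 1), (71, 1), (73, 1), (79, 1), (80, 1), (84, 1), (90, 1)], [(15, 1), (29, 1), (65, 1)], [(54, 1), (65, 1), (75, 1), (84, 1)], [(0, 1), (15, 1), (26, 1), (27, 1), (30, 1), (31, 1), (34, 1), (36, 1), (38, 1), (39, 1), (40, 1), (42, 1), (43, 1), (44, 1), (50, 1), (52, 1), (53, 1), (54, 1), (55, 1), (56, 1), (57, 1), (58, 1), (62, 1), (63, 1), (64, 1), (71, 1), (72, 1), (73, 1), (76, 1), (78, 1), (82, 1), (83, 1), (85,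 1), (86, 1), (90, 1), (93, 1)], [(5, 1), (6, 1), (7, 1), (10, 1), (12, 1), (13, 1), (14, 1), (32, 1), (33, 1), (34, 1), (37, 1), (39, 1), (40, 1), (41, 1), (43, 1), (45, 1), (48, 1), (49, 1), (51, 1), (52, 1), (56, 1), (60, 1), (63, 1), (67, 1), (72, 1), (75, 1), (76, 1), (78, 1), (79, 1), (80, 1), (82, 1), (83, 1), (85, 1), (86, 1), (93, 1)], [(0, 1), (15, 1), (26, 1), (27, 1), (30, 1), (31, 1), (34, 1), (36, 1), (38, 1), (39, 1), (40, 1), (42, 1), (43, 1), (44, 1), (50, 1), (52, 1), (53, 1), (55, 1), (56, 1), (57, 1), (58, 1), (62, 1), (63, 1), (64, 1), (65, 1), (71, 1), (72, 1), (73, 1), (75, 1), (76, 1), (78, 1), (82, 1), (83, 1), (85, 1), (86, 1), (90, 1), (93, 1)], [(0, 1), (5, 1), (6, 1), (7, 1), (10, 1), (14, 1), (29, 1), (30, 1), (31, 1), (34, 1), (36, 1), (38, 1), (42, 1), (43, 1), (46, 1), (50, 1), (51, 1), (52, 1), (54, 1), (56, 1), (58, 1), (59,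 1), (60, 1), (61, 1), (62, 1), (63, 1), (66, 1), (69, 1), (73, 1), (74, 1), (75, 1), (80, 1), (81, 1), (83, 1), (84, 1), (85, 1), (86, 1), (87, 1), (90, 1), (91, 1), (94, 1)]]]

end Cfsg.Lib.ThMult
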