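import Cfsg.Agent.ThMult.Checks
import Cfsg.Agent.ThMult.P2Data

/-!
Checks at the prime 2.
-/

set_option autoImplicit false
set_option maxRecDepth 100000
set_option maxHeartbeats 4000000
set_option exponentiation.threshold 3000
set_option Elab.async false

namespace Cfsg.Lib.ThMult

theorem th2_entry37 : entryOK th2Mats 37 (th2Defs.getD 37 (true, [])) = true := by decide +kernel

theorem th2_entry38 : entryOK th2Mats 38 (th2Defs.getD 38 (true, [])) = true := by decide +kernel

theorem th2_entry39 : entryOK th2Mats 39 (th2Defs.getD 39 (true, [])) = true := by decide +kernel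

theorem th2_entry40 : entryOK th2Mats 40 (th2Defs.getD 40 (true, [])) = true := by decide +kernel

theorem th2_entry41 : entryOK th2Mats 41 (th2Defs.getD 41 (true, [])) = true := by decide +kernel

theorem th2_entry42 : entryOK th2Mats 42 (th2Defs.getD 42 (true, [])) = true := by decide +kernel

theorem th2_entry43 : entryOK th2Mats 43 (th2Defs.getD 43 (true, [])) = true := by decide +kernel

theorem th2_entry44 : entryOK th2Mats 44 (th2Defs.getD 44 (true, [])) = true := by decide +kernel

theorem th2_rule0 : ((List.range 1).all fun i => ruleOK th2Cert th2Mats th2Pc 0 i) = true := by decide +kernel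

theorem th2_rule1 : ((List.range 2).all fun i => ruleOK th2Cert th2Mats th2Pc 1 i) = true := by decide +kernel

theorem th2_rule2 : ((List.range 3).all fun i => ruleOK th2Cert th2Mats th2Pc 2 i) = true := by decide +kernel

end Cfsg.Lib.ThMult
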