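import Cfsg.Agent.ThMult.Checks
import Cfsg.Agent.ThMult.P2Data

/-!
Checks at the prime 2.
-/

set_option autoImplicit false
set_option maxRecDepth 100000
set_option maxHeartbeats 4000000
set_option exponentiation.threshold 3000
set_option Elab.async false

namespace Cfsg.Lib.ThMult

theorem th2_rule8 : ((List.range 9).all fun i => ruleOK th2Cert th2Mats th2Pc 8 i) = true := by decide +kernel

theorem th2_rule9 : ((List.range 10).all fun i => ruleOK th2Cert th2Mats th2Pc 9 i) = true := by decide +kernel

theorem th2_rule10 : ((List.range 11).all fun i => ruleOK th2Cert th2Mats th2Pc 10 i) = true := by decide +kernel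

theorem th2_rule11 : ((List.range 12).all fun i => ruleOK th2Cert th2Mats th2Pc 11 i) = true := by decide +kernel

end Cfsg.Lib.ThMult
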