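import Cfsg.Agent.ThMult.Checks
import Cfsg.Agent.ThMult.P2Data

/-!
Checks at the prime 2.
-/

set_option autoImplicit false
set_option maxRecDepth 100000
set_option maxHeartbeats 4000000
set_option exponentiation.threshold 3000
set_option Elab.async false

namespace Cfsg.Lib.ThMult

theorem th2_rule12 : ((List.range 13).all fun i => ruleOK th2Cert th2Mats th2Pc 12 i) = true := by decide +kernel

theorem th2_rule13 : ((List.range 14).all fun i => ruleOK th2Cert th2Mats th2Pc 13 i) = true := by decide +kernel

theorem th2_rule14 : ((List.range 15).all fun i => ruleOK th2Cert th2Mats th2Pc 14 i) = true := by decide +kernel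

theorem th2_fus0_0 : conjRel th2Cert th2Mats th2Pc th2Fw th2Defs.length 0 0 = true := by decide +kernel

theorem th2_fus0_1 : conjRel th2Cert th2Mats th2Pc th2Fw th2Defs.length 0 1 = true := by decide +kernel

theorem th2_fus0_2 : conjRel th2Cert th2Mats th2Pc th2Fw th2Defs.length 0 2 = true := by decide +kernel

theorem th2_fus0_3 : conjRel th2Cert th2Mats th2Pc th2Fw th2Defs.length 0 3 = true := by decide +kernel

theorem th2_fus0_4 : conjRel th2Cert th2Mats th2Pc th2Fw th2Defs.length 0 4 = true := by decide +kernel

theorem th2_fus0_5 : conjRel th2Cert th2Mats th2Pc th2Fw th2Defs.length 0 5 = true := by decide +kernel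

theorem th2_fus0_6 : conjRel th2Cert th2Mats th2Pc th2Fw th2Defs.length 0 6 = true := by decide +kernel

theorem th2_fus0_7 : conjRel th2Cert th2Mats th2Pc th2Fw th2Defs.length 0 7 = true := by decide +kernel

theorem th2_fus0_8 : conjRel th2Cert th2Mats th2Pc th2Fw th2Defs.length 0 8 = true := by decide +kernel

theorem th2_fus0_9 : conjRel th2Cert th2Mats th2Pc th2Fw th2Defs.length 0 9 = true := by decide +kernel

theorem th2_fus0_10 : conjRel th2Cert th2Mats th2Pc th2Fw th2Defs.length 0 10 = true := by decide +kernel

end Cfsg.Lib.ThMult
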