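import Cfsg.Agent.ThMult.Checks
import Cfsg.Agent.ThMult.P2Data

/-!
Checks at the prime 2.
-/

set_option autoImplicit false
set_option maxRecDepth 100000
set_option maxHeartbeats 4000000
set_option exponentiation.threshold 3000
set_option Elab.async false

namespace Cfsg.Lib.ThMult

theorem th2_fus1_0 : conjRel th2Cert th2Mats th2Pc th2Fw th2Defs.length 1 0 = true := by decide +kernel

theorem th2_fus1_1 : conjRel th2Cert th2Mats th2Pc th2Fw th2Defs.length 1 1 = true := by decide +kernel

theorem th2_fus1_2 : conjRel th2Cert th2Mats th2Pc th2Fw th2Defs.length 1 2 = true := by decide +kernel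

theorem th2_fus1_3 : conjRel th2Cert th2Mats th2Pc th2Fw th2Defs.length 1 3 = true := by decide +kernel

theorem th2_fus1_4 : conjRel th2Cert th2Mats th2Pc th2Fw th2Defs.length 1 4 = true := by decide +kernel

theorem th2_fus1_5 : conjRel th2Cert th2Mats th2Pc th2Fw th2Defs.length 1 5 = true := by decide +kernel

theorem th2_fus1_6 : conjRel th2Cert th2Mats th2Pc th2Fw th2Defs.length 1 6 = true := by decide +kernel

theorem th2_fus1_7 : conjRel th2Cert th2Mats th2Pc th2Fw th2Defs.length 1 7 = true := by decide +kernel

theorem th2_fus1_8 : conjRel th2Cert th2Mats th2Pc th2Fw th2Defs.length 1 8 = true := by decide +kernel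

theorem th2_fus1_9 : conjRel th2Cert th2Mats th2Pc th2Fw th2Defs.length 1 9 = true := by decide +kernel

theorem th2_fus1_10 : conjRel th2Cert th2Mats th2Pc th2Fw th2Defs.length 1 10 = true := by decide +kernel

theorem th2_fus1_11 : conjRel th2Cert th2Mats th2Pc th2Fw th2Defs.length 1 11 = true := by decide +kernel

theorem th2_fus1_12 : conjRel th2Cert th2Mats th2Pc th2Fw th2Defs.length 1 12 = true := by decide +kernel

theorem th2_fus1_13 : conjRel th2Cert th2Mats th2Pc th2Fw th2Defs.length 1 13 = true := by decide +kernel

end Cfsg.Lib.ThMult
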