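import Cfsg.Agent.ThMult.Checks
import Cfsg.Agent.ThMult.P2Data

/-!
Checks at the prime 2.
-/

set_option autoImplicit false
set_option maxRecDepth 100000
set_option maxHeartbeats 4000000
set_option exponentiation.threshold 3000
set_option Elab.async false

namespace Cfsg.Lib.ThMult

theorem th2_entry12 : entryOK th2Mats 12 (th2Defs.getD 12 (true, [])) = true := by decide +kernel

theorem th2_entry13 : entryOK th2Mats 13 (th2Defs.getD 13 (true, [])) = true := by decide +kernel

theorem th2_entry14 : entryOK th2Mats 14 (th2Defs.getD 14 (true, [])) = true := by decide +kernel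

end Cfsg.Lib.ThMult
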