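import Cfsg.Agent.ThMult.Checks
import Cfsg.Agent.ThMult.P2Data

/-!
Checks at the prime 2.
-/

set_option autoImplicit false
set_option maxRecDepth 100000
set_option maxHeartbeats 4000000
set_option exponentiation.threshold 3000
set_option Elab.async false

namespace Cfsg.Lib.ThMult

theorem th2_entry22 : entryOK th2Mats 22 (th2Defs.getD 22 (true, [])) = true := by decide +kernel

theorem th2_entry23 : entryOK th2Mats 23 (th2Defs.getD 23 (true, [])) = true := by decide +kernel

theorem th2_entry24 : entryOK th2Mats 24 (th2Defs.getD 24 (true, [])) = true := by decide +kernel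

theorem th2_entry25 : entryOK th2Mats 25 (th2Defs.getD 25 (true, [])) = true := by decide +kernel

end Cfsg.Lib.ThMult
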