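import Cfsg.Agent.Schur.PrimeCert

/-!
The equations of the certificate at the prime 2.
-/

set_option autoImplicit false
set_option maxRecDepth 100000
set_option maxHeartbeats 4000000
set_option Elab.async false

namespace Cfsg.Lib.ThMult

/-- Equations. -/
def th2E0_0 : List (Bool × Cfsg.Lib.Schur.Prime.Form) :=
  [(true, [(60, 1), (75, 1), (90, 1), (110, 1), (112, 1), (126, 1), (128, 1), (135, 1), (150, 1), (156, 1), (158, 1), (160, 1), (171, 1), (173, 1), (174, 1), (175, 1), (176, 1), (180, 1), (187, 1), (188, 1), (189, 1), (190, 1), (192, 1), (200, 1), (202, 1), (215, 1), (216, 1), (219, 1), (221, 1), (223, 1), (224, 1)]),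
   (true, [(60, 1), (61, 1), (64, 1), (76, 1), (91, 1), (105, 1), (109, 1), (110, 1), (111, 1), (120, 1), (124, 1), (126, 1), (135, 1), (136, 1), (139, 1), (140, 1), (141, 1), (143, 1), (151, 1), (156, 1), (159, 1), (169, 1), (174, 1), (175, 1), (180, 1), (181, 1), (185, 1), (186, 1), (189, 1), (199, 1), (201, 1), (202, 1), (205, 1), (206, 1), (207, 1), (208, 1), (215, 1), (217, 1), (219, 1), (220, 1), (222, 1)]),
   (true, [(61, 1), (64, 1), (75, 1), (90, 1), (106, 1), (111, 1), (112, 1), (120, 1), (121, 1), (124, 1), (126, 1), (135, 1), (136, 1), (143, 1), (144, 1), (150, 1), (154, 1), (155, 1), (157, 1), (160, 1), (171, 1), (172, 1), (173, 1), (175, 1), (176, 1), (180, 1), (181, 1), (184, 1), (185, 1), (186, 1), (188, 1), (191, 1), (192, 1), (201, 1), (202, 1), (203, 1), (206, 1), (207, 1), (214, 1), (217, 1), (220, 1), (221, 1), (222, 1), (224, 1)]),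
   (true, [(61, 1), (62, 1), (90, 1), (105, 1), (107, 1), (109, 1), (122, 1), (128, 1), (135, 1), (137, 1), (142, 1), (143, 1), (144, 1), (150, 1), (151, 1), (159, 1), (166, 1), (171, 1), (172, 1), (174, 1), (176, 1), (180, 1), (182, 1), (187, 1), (188, 1), (191, 1), (196, 1), (205, 1), (206, 1), (207, 1), (208, 1), (211, 1), (218, 1), (221, 1), (223, 1), (224, 1)]),
   (true, [(61, 1), (63, 1), (75, 1), (76, 1), (79, 1), (90, 1), (91, 1), (94, 1), (108, 1), (110, 1), (121, 1), (123, 1), (125, 1), (126, 1), (127, 1), (135, 1), (138, 1), (139, 1), (141, 1), (143, 1), (144, 1), (151, 1), (154, 1), (155, 1), (156, 1), (158, 1), (166, 1), (169, 1), (171, 1), (172, 1), (173, 1), (176, 1), (180, 1), (183, 1), (185, 1), (186, 1), (187, 1), (189, 1), (192, 1), (196, 1), (201, 1), (202, 1), (203, 1), (204, 1), (211, 1), (214, 1), (215, 1), (217, 1), (218, 1), (220, 1), (221, 1), (223, 1)]),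
   (true, [(105, 1), (106, 1), (109, 1), (124, 1), (135, 1), (143, 1), (150, 1), (157, 1), (159, 1), (169, 1), (172, 1), (173, 1), (176, 1), (187, 1), (188, 1), (196, 1), (202, 1), (204, 1), (205, 1), (206, 1), (208, 1), (210, 1), (211, 1), (214, 1), (217, 1), (218, 1), (220, 1), (222, 1), (223, 1)]),
   (true, [(79, 1), (106, 1), (109, 1), (110, 1), (120, 1), (121, 1), (125, 1), (140, 1), (142, 1), (143, 1), (150, 1), (151, 1), (154, 1), (166, 1), (174, 1), (180, 1), (181, 1), (184, 1), (185, 1), (189, 1), (190, 1), (195, 1), (196, 1), (207, 1), (208, 1), (210, 1), (214, 1), (217, 1), (219, 1), (220, 1), (224, 1)]),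
   (true, [(94, 1), (111, 1), (120, 1), (121, 1), (126, 1), (141, 1), (142, 1), (143, 1), (150, 1), (151, 1), (157, 1), (158, 1), (165, 1), (169, 1), (173, 1), (180, 1), (181, 1), (186, 1), (187, 1), (191, 1), (196, 1), (203, 1), (204, 1), (206, 1), (207, 1), (218, 1), (219, 1), (222, 1), (223, 1)]),
   (true, [(109, 1), (127, 1), (142, 1), (150, 1), (151, 1), (165, 1), (166, 1), (180, 1), (188, 1), (190, 1), (195, 1), (196, 1), (202, 1), (203, 1), (208, 1), (211, 1), (219, 1), (220, 1), (223, 1)]),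
   (true, [(124, 1), (127, 1), (136, 1), (139, 1), (142, 1), (151, 1), (154, 1), (157, 1), (158, 1), (159, 1), (166, 1), (172, 1), (173, 1), (176, 1), (181, 1), (203, 1), (204, 1), (206, 1), (207, 1), (210, 1), (211, 1), (214, 1), (217, 1), (218, 1), (221, 1), (223, 1)]),
   (true, [(139, 1), (142, 1), (143, 1), (165, 1), (166, 1), (184, 1), (189, 1), (192, 1), (195, 1), (196, 1), (204, 1), (217, 1), (223, 1)]),
   (true, [(154, 1), (157, 1), (158, 1), (159, 1), (181, 1), (184, 1), (187, 1), (188, 1), (189, 1), (190, 1), (199, 1), (202, 1), (203, 1), (207, 1), (208, 1), (210, 1), (214, 1), (217, 1), (222, 1)]),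
   (true, [(169, 1), (172, 1), (173, 1), (174, 1), (180, 1), (184, 1), (187, 1), (188, 1), (189, 1), (191, 1), (196, 1), (199, 1), (211, 1), (214, 1), (217, 1), (222, 1), (223, 1), (224, 1)]),
   (true, [(184, 1), (187, 1), (188, 1), (189, 1), (195, 1), (196, 1), (211, 1), (214, 1), (223, 1)]),
   (true, [(199, 1), (202, 1), (203, 1), (204, 1), (207, 1), (211, 1), (214, 1), (217, 1), (218, 1), (219, 1), (222, 1)]),
   (true, [(214, 1), (217, 1), (218, 1), (219, 1), (222, 1)]),
   (true, [(60, 1), (62, 1), (64, 1), (77, 1), (92, 1), (110, 1), (111, 1), (112, 1), (125, 1), (126, 1), (128, 1), (137, 1), (141, 1), (142, 1), (143, 1), (144, 1), (150, 1), (152, 1), (154, 1), (157, 1), (158, 1), (160, 1), (165, 1), (170, 1), (171, 1), (172, 1), (173, 1), (174, 1), (176, 1), (182, 1), (185, 1), (186, 1), (187, 1), (188, 1), (189, 1), (191, 1), (192, 1), (195, 1), (200, 1), (201, 1), (203, 1), (204, 1), (205, 1), (208, 1), (210, 1), (219, 1), (223, 1), (224, 1)]),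
   (true, [(62, 1), (64, 1), (75, 1), (105, 1), (109, 1), (124, 1), (127, 1), (135, 1), (139, 1), (142, 1), (143, 1), (144, 1), (150, 1), (152, 1), (155, 1), (159, 1), (160, 1), (167, 1), (169, 1), (172, 1), (176, 1), (180, 1), (184, 1), (185, 1), (188, 1), (191, 1), (192, 1), (195, 1), (197, 1), (202, 1), (204, 1), (205, 1), (206, 1), (207, 1), (208, 1), (212, 1), (214, 1), (217, 1), (219, 1), (221, 1), (222, 1), (223, 1), (224, 1)]),
   (true, [(62, 1), (63, 1), (75, 1), (77, 1), (79, 1), (90, 1), (92, 1), (94, 1), (109, 1), (110, 1), (120, 1), (122, 1), (124, 1), (125, 1), (139, 1), (142, 1), (143, 1), (144, 1), (152, 1), (153, 1), (154, 1), (155, 1), (159, 1), (160, 1), (165, 1), (167, 1), (168, 1), (170, 1), (172, 1), (173, 1), (174, 1), (176, 1), (180, 1), (185, 1), (186, 1), (189, 1), (190, 1), (192, 1), (197, 1), (198, 1), (199, 1), (200, 1), (203, 1), (205, 1), (206, 1), (208, 1), (212, 1), (213, 1), (214, 1), (215, 1), (217, 1), (219, 1), (220, 1), (221, 1), (222, 1),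 (223, 1), (224, 1)]),
   (true, [(105, 1), (107, 1), (120, 1), (124, 1), (127, 1), (139, 1), (150, 1), (157, 1), (159, 1), (160, 1), (165, 1), (169, 1), (172, 1), (192, 1), (195, 1), (197, 1), (205, 1), (206, 1), (208, 1), (212, 1), (214, 1), (218, 1), (219, 1), (220, 1), (221, 1), (223, 1), (224, 1)]),
   (true, [(79, 1), (107, 1), (109, 1), (122, 1), (124, 1), (135, 1), (143, 1), (144, 1), (152, 1), (154, 1), (155, 1), (157, 1), (158, 1), (167, 1), (169, 1), (170, 1), (172, 1), (175, 1), (176, 1), (182, 1), (184, 1), (192, 1), (195, 1), (197, 1), (199, 1), (200, 1), (203, 1), (204, 1), (205, 1), (207, 1), (210, 1), (214, 1), (215, 1), (219, 1), (220, 1), (222, 1), (223, 1), (224, 1)]),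
   (true, [(94, 1), (120, 1), (122, 1), (135, 1), (139, 1), (143, 1), (152, 1), (154, 1), (156, 1), (158, 1), (169, 1), (171, 1), (175, 1), (182, 1), (184, 1), (188, 1), (190, 1), (192, 1), (197, 1), (199, 1), (201, 1), (205, 1), (208, 1), (216, 1), (220, 1), (221, 1), (224, 1)]),
   (true, [(109, 1), (135, 1), (139, 1), (152, 1), (154, 1), (157, 1), (165, 1), (167, 1), (169, 1), (172, 1), (175, 1), (180, 1), (184, 1), (189, 1), (197, 1), (202, 1), (204, 1), (206, 1), (207, 1), (212, 1), (217, 1), (222, 1), (223, 1)]),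
   (true, [(124, 1), (137, 1), (139, 1), (152, 1), (154, 1), (158, 1), (159, 1), (167, 1), (173, 1), (175, 1), (176, 1), (180, 1), (182, 1), (190, 1), (191, 1), (195, 1), (199, 1), (203, 1), (204, 1), (212, 1), (218, 1), (220, 1), (221, 1), (222, 1)]),
   (true, [(139, 1), (159, 1), (167, 1), (169, 1), (174, 1), (175, 1), (184, 1), (191, 1), (192, 1), (197, 1), (204, 1), (205, 1), (207, 1), (208, 1), (214, 1), (219, 1), (220, 1), (222, 1), (223, 1), (224, 1)]),
   (true, [(154, 1), (165, 1), (169, 1), (180, 1), (182, 1), (191, 1), (199, 1), (205, 1), (206, 1), (207, 1), (220, 1), (222, 1)]),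
   (true, [(169, 1), (175, 1), (180, 1), (184, 1), (190, 1), (191, 1), (195, 1), (197, 1), (205, 1), (207, 1), (210, 1), (212, 1), (221, 1), (222, 1), (223, 1)]),
   (true, [(184, 1), (190, 1), (191, 1), (195, 1), (197, 1), (207, 1), (212, 1), (214, 1), (222, 1), (223, 1)]),
   (true, [(199, 1), (205, 1), (206, 1), (212, 1), (214, 1), (220, 1), (221, 1)]),
   (true, [(214, 1), (220, 1), (221, 1), (223, 1)]),
   (true, [(60, 1), (63, 1), (64, 1), (75, 1), (78, 1), (79, 1), (80, 1), (90, 1), (93, 1), (94, 1), (95, 1), (96, 1), (110, 1), (112, 1), (120, 1), (124, 1), (125, 1), (126, 1), (128, 1), (138, 1), (140, 1), (150, 1), (153, 1), (154, 1), (155, 1), (156, 1), (158, 1), (160, 1), (165, 1), (171, 1), (174, 1), (183, 1), (184, 1), (185, 1), (188, 1), (189, 1), (190, 1), (195, 1), (199, 1), (202, 1), (203, 1), (204, 1), (205, 1), (207, 1), (210, 1), (214, 1), (216, 1), (218, 1), (221, 1), (224, 1)]),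
   (true, [(63, 1), (64, 1), (78, 1), (79, 1), (80, 1), (93, 1), (94, 1), (95, 1), (96, 1), (120, 1), (123, 1), (124, 1), (125, 1), (139, 1), (141, 1), (144, 1), (150, 1), (153, 1), (156, 1), (159, 1), (160, 1), (168, 1), (169, 1), (170, 1), (171, 1), (180, 1), (184, 1), (185, 1), (189, 1), (190, 1), (191, 1), (192, 1), (198, 1), (201, 1), (203, 1), (206, 1), (207, 1), (213, 1), (214, 1), (215, 1), (216, 1), (218, 1), (220, 1), (221, 1)]),
   (true, [(79, 1), (94, 1), (108, 1), (109, 1), (110, 1), (111, 1), (124, 1), (127, 1), (135, 1), (139, 1), (140, 1), (142, 1), (143, 1), (144, 1), (150, 1), (154, 1), (157, 1), (158, 1), (170, 1), (171, 1), (172, 1), (174, 1), (175, 1), (176, 1), (180, 1), (187, 1), (189, 1), (195, 1), (198, 1), (200, 1), (201, 1), (202, 1), (205, 1), (207, 1), (210, 1), (213, 1), (216, 1), (218, 1), (220, 1), (222, 1), (223, 1), (224, 1)]),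
   (true, [(79, 1), (95, 1), (108, 1), (109, 1), (110, 1), (111, 1), (120, 1), (123, 1), (125, 1), (140, 1), (141, 1), (142, 1), (143, 1), (150, 1), (153, 1), (154, 1), (156, 1), (168, 1), (170, 1), (172, 1), (175, 1), (180, 1), (183, 1), (188, 1), (190, 1), (192, 1), (198, 1), (199, 1), (201, 1), (203, 1), (204, 1), (205, 1), (207, 1), (208, 1), (210, 1), (214, 1), (216, 1), (217, 1), (218, 1), (219, 1)]),
   (true, [(94, 1), (95, 1), (120, 1), (123, 1), (126, 1), (140, 1), (141, 1), (143, 1), (150, 1), (153, 1), (155, 1), (158, 1), (165, 1), (169, 1), (171, 1), (173, 1), (174, 1), (175, 1), (180, 1), (183, 1), (185, 1), (189, 1), (190, 1), (191, 1), (192, 1), (195, 1), (198, 1), (203, 1), (205, 1), (206, 1), (207, 1), (208, 1), (210, 1), (214, 1), (215, 1), (216, 1), (219, 1), (220, 1), (223, 1)]),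
   (true, [(109, 1), (110, 1), (111, 1), (127, 1), (150, 1), (153, 1), (157, 1), (165, 1), (168, 1), (172, 1), (180, 1), (185, 1), (188, 1), (190, 1), (191, 1), (192, 1), (195, 1), (198, 1), (200, 1), (201, 1), (202, 1), (203, 1), (206, 1), (210, 1), (213, 1), (216, 1), (217, 1), (220, 1), (221, 1), (222, 1), (223, 1), (224, 1)]),
   (true, [(124, 1), (125, 1), (126, 1), (138, 1), (139, 1), (140, 1), (141, 1), (143, 1), (153, 1), (154, 1), (155, 1), (156, 1), (159, 1), (168, 1), (170, 1), (171, 1), (176, 1), (180, 1), (183, 1), (184, 1), (185, 1), (186, 1), (199, 1), (200, 1), (203, 1), (208, 1), (210, 1), (213, 1), (214, 1), (216, 1), (218, 1), (219, 1), (221, 1), (224, 1)]),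
   (true, [(139, 1), (140, 1), (141, 1), (143, 1), (159, 1), (165, 1), (168, 1), (174, 1), (185, 1), (186, 1), (192, 1), (198, 1), (203, 1), (204, 1), (206, 1), (207, 1), (208, 1), (210, 1), (218, 1), (219, 1), (220, 1), (221, 1), (222, 1), (223, 1)]),
   (true, [(154, 1), (155, 1), (156, 1), (158, 1), (175, 1), (180, 1), (183, 1), (186, 1), (192, 1), (195, 1), (203, 1), (205, 1), (208, 1), (210, 1), (214, 1), (216, 1), (218, 1), (221, 1), (222, 1), (223, 1)]),
   (true, [(169, 1), (170, 1), (171, 1), (173, 1), (175, 1), (195, 1), (198, 1), (200, 1), (206, 1), (208, 1), (210, 1), (213, 1), (215, 1), (218, 1), (220, 1), (224, 1)]),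
   (true, [(184, 1), (185, 1), (186, 1), (188, 1), (190, 1), (191, 1), (195, 1), (198, 1), (207, 1), (213, 1), (214, 1), (222, 1), (223, 1)]),
   (true, [(199, 1), (200, 1), (201, 1), (203, 1), (205, 1), (206, 1), (213, 1), (214, 1), (215, 1), (216, 1), (218, 1), (220, 1), (221, 1)]),
   (true, [(214, 1), (215, 1), (216, 1), (218, 1), (220, 1), (221, 1), (223, 1)]),
   (true, [(79, 1), (94, 1), (105, 1), (112, 1), (139, 1), (141, 1), (144, 1), (154, 1), (159, 1), (160, 1), (174, 1), (176, 1), (184, 1), (186, 1), (191, 1), (195, 1), (201, 1), (202, 1), (207, 1), (208, 1), (210, 1), (216, 1), (219, 1), (222, 1), (223, 1)]),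
   (true, [(109, 1), (112, 1), (150, 1), (180, 1), (187, 1), (199, 1), (208, 1), (214, 1), (220, 1)]),
   (true, [(109, 1), (110, 1), (124, 1), (127, 1), (135, 1), (143, 1), (154, 1), (157, 1), (159, 1), (169, 1), (174, 1), (175, 1), (180, 1), (184, 1), (188, 1), (189, 1), (190, 1), (192, 1), (195, 1), (199, 1), (200, 1), (202, 1), (203, 1), (204, 1), (205, 1), (206, 1), (208, 1), (215, 1), (217, 1), (218, 1), (219, 1)]),
   (true, [(111, 1), (124, 1), (127, 1), (135, 1), (142, 1), (143, 1), (150, 1), (154, 1), (158, 1), (159, 1), (165, 1), (173, 1), (175, 1), (180, 1), (184, 1), (187, 1), (189, 1), (190, 1), (195, 1), (199, 1), (201, 1), (204, 1), (207, 1), (210, 1), (216, 1), (218, 1), (219, 1), (220, 1), (221, 1), (222, 1)]),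
   (true, [(154, 1), (157, 1), (169, 1), (172, 1), (180, 1), (187, 1), (190, 1), (191, 1), (195, 1), (199, 1), (214, 1), (220, 1), (221, 1), (224, 1)]),
   (true, [(127, 1), (139, 1), (142, 1), (154, 1), (157, 1), (165, 1), (169, 1), (174, 1), (175, 1), (180, 1), (184, 1), (187, 1), (190, 1), (191, 1), (192, 1), (202, 1), (203, 1), (207, 1), (210, 1), (214, 1), (217, 1), (218, 1), (219, 1), (221, 1), (222, 1)]),
   (true, [(142, 1), (169, 1), (172, 1), (180, 1), (187, 1), (191, 1), (199, 1), (204, 1), (206, 1), (217, 1), (219, 1), (222, 1), (224, 1)]),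
   (true, [(157, 1), (184, 1), (187, 1), (205, 1), (207, 1), (210, 1), (220, 1), (222, 1), (223, 1), (224, 1)]),
   (true, [(172, 1), (195, 1), (199, 1), (206, 1), (210, 1), (214, 1), (221, 1), (223, 1)]),
   (true, [(187, 1), (199, 1), (202, 1), (207, 1), (210, 1), (214, 1), (222, 1)]),
   (true, [(202, 1), (214, 1), (217, 1)]),
   (true, [(217, 1), (223, 1)]),
   (true, [(79, 1), (95, 1), (105, 1), (112, 1), (120, 1), (127, 1), (128, 1), (141, 1), (150, 1), (155, 1), (157, 1), (159, 1), (165, 1), (172, 1), (180, 1), (186, 1), (187, 1), (189, 1), (190, 1), (191, 1), (195, 1), (200, 1), (201, 1), (202, 1), (203, 1), (206, 1), (207, 1), (208, 1), (219, 1), (220, 1), (222, 1), (223, 1)]),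
   (true, [(110, 1), (112, 1), (125, 1), (127, 1), (128, 1), (155, 1), (157, 1), (158, 1), (160, 1), (170, 1), (172, 1), (173, 1), (175, 1), (176, 1), (185, 1), (191, 1), (192, 1), (200, 1), (203, 1), (205, 1), (208, 1), (210, 1), (222, 1), (223, 1)]),
   (true, [(111, 1), (125, 1), (126, 1), (127, 1), (155, 1), (156, 1), (157, 1), (171, 1), (173, 1), (175, 1), (185, 1), (186, 1), (187, 1), (188, 1), (191, 1), (195, 1), (200, 1), (201, 1), (205, 1), (220, 1), (223, 1)]),
   (true, [(127, 1), (155, 1), (158, 1), (170, 1), (173, 1), (180, 1), (187, 1), (191, 1), (200, 1), (202, 1), (206, 1), (207, 1), (210, 1), (215, 1), (220, 1)]),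
   (true, [(127, 1), (140, 1), (142, 1), (143, 1), (155, 1), (157, 1), (159, 1), (170, 1), (172, 1), (174, 1), (180, 1), (185, 1), (187, 1), (188, 1), (189, 1), (190, 1), (192, 1), (202, 1), (203, 1), (204, 1), (207, 1), (208, 1), (210, 1), (215, 1), (221, 1), (223, 1)]),
   (true, [(142, 1), (143, 1), (159, 1), (170, 1), (172, 1), (173, 1), (174, 1), (175, 1), (189, 1), (191, 1), (200, 1), (204, 1), (205, 1), (206, 1), (207, 1), (208, 1), (217, 1), (218, 1), (220, 1), (224, 1)]),
   (true, [(157, 1), (158, 1), (175, 1), (180, 1), (185, 1), (190, 1), (206, 1), (207, 1), (210, 1), (217, 1), (222, 1)]),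
   (true, [(172, 1), (173, 1), (175, 1), (191, 1), (195, 1), (200, 1), (206, 1), (210, 1), (215, 1), (218, 1), (220, 1), (221, 1), (222, 1), (223, 1)]),
   (true, [(187, 1), (188, 1), (190, 1), (191, 1), (200, 1), (202, 1), (203, 1), (205, 1), (206, 1), (215, 1), (217, 1), (218, 1), (220, 1), (221, 1), (222, 1), (223, 1)]),
   (true, [(202, 1), (203, 1), (205, 1), (206, 1), (207, 1), (215, 1), (217, 1), (218, 1), (220, 1), (221, 1), (222, 1), (223, 1)]),
   (true, [(217, 1), (218, 1), (220, 1), (221, 1), (222, 1), (223, 1)]),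
   (true, [(94, 1), (95, 1), (120, 1), (128, 1), (140, 1), (150, 1), (155, 1), (158, 1), (159, 1), (160, 1), (170, 1), (171, 1), (174, 1), (180, 1), (185, 1), (186, 1), (188, 1), (191, 1), (192, 1), (195, 1), (200, 1), (201, 1), (203, 1), (205, 1), (207, 1), (215, 1), (216, 1), (224, 1)]),
   (true, [(126, 1), (128, 1), (156, 1), (158, 1), (160, 1), (180, 1), (186, 1), (188, 1), (201, 1), (205, 1), (207, 1), (218, 1), (222, 1), (223, 1)]),
   (true, [(127, 1), (156, 1), (157, 1), (158, 1), (171, 1), (173, 1), (175, 1), (180, 1), (187, 1), (201, 1), (202, 1), (207, 1), (210, 1), (216, 1), (218, 1), (220, 1), (221, 1), (222, 1), (223, 1), (224, 1)]),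
   (true, [(141, 1), (143, 1), (156, 1), (159, 1), (171, 1), (173, 1), (175, 1), (180, 1), (186, 1), (188, 1), (190, 1), (192, 1), (203, 1), (208, 1), (210, 1), (216, 1), (219, 1), (220, 1), (221, 1)]),
   (true, [(143, 1), (159, 1), (171, 1), (173, 1), (175, 1), (180, 1), (188, 1), (189, 1), (190, 1), (195, 1), (201, 1), (204, 1), (205, 1), (206, 1), (210, 1), (223, 1), (224, 1)]),
   (true, [(158, 1), (180, 1), (186, 1), (190, 1), (195, 1), (203, 1), (205, 1), (207, 1), (223, 1), (224, 1)]),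
   (true, [(173, 1), (175, 1), (191, 1), (201, 1), (203, 1), (205, 1), (206, 1), (207, 1), (210, 1), (216, 1), (223, 1)]),
   (true, [(188, 1), (190, 1), (201, 1), (203, 1), (205, 1), (216, 1), (218, 1), (220, 1), (222, 1), (223, 1)]),
   (true, [(203, 1), (205, 1), (207, 1), (216, 1), (218, 1), (220, 1), (222, 1), (223, 1)]),
   (true, [(218, 1), (220, 1), (222, 1), (223, 1)]),
   (true, [(109, 1), (110, 1), (111, 1), (142, 1), (150, 1), (157, 1), (160, 1), (165, 1), (175, 1), (176, 1), (185, 1), (187, 1), (189, 1), (190, 1), (191, 1), (192, 1), (195, 1), (200, 1), (201, 1), (204, 1), (206, 1), (208, 1), (210, 1), (216, 1), (221, 1), (223, 1)]),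
   (true, [(157, 1), (160, 1), (172, 1), (175, 1), (176, 1), (202, 1), (205, 1), (206, 1), (208, 1), (210, 1), (217, 1), (220, 1), (223, 1)]),
   (true, [(142, 1), (157, 1), (158, 1), (159, 1), (172, 1), (173, 1), (174, 1), (180, 1), (187, 1), (189, 1), (190, 1), (191, 1), (195, 1), (203, 1), (204, 1), (206, 1), (207, 1), (208, 1), (210, 1), (217, 1), (218, 1), (220, 1), (221, 1), (222, 1)]),
   (true, [(159, 1), (172, 1), (174, 1), (175, 1), (202, 1), (204, 1), (205, 1), (210, 1), (219, 1), (223, 1)])]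

/-- Equations. -/
def th2E0_1 : List (Bool × Cfsg.Lib.Schur.Prime.Form) :=
  [(true, [(175, 1), (187, 1), (190, 1), (191, 1), (205, 1), (207, 1), (210, 1), (221, 1), (223, 1)]),
   (true, [(175, 1), (202, 1), (205, 1), (210, 1), (217, 1), (221, 1)]),
   (true, [(190, 1), (191, 1), (202, 1), (205, 1), (206, 1), (207, 1), (217, 1), (220, 1), (221, 1), (222, 1)]),
   (true, [(205, 1), (206, 1), (217, 1), (220, 1), (221, 1)]),
   (true, [(220, 1), (221, 1), (223, 1)]),
   (true, [(124, 1), (125, 1), (126, 1), (135, 1), (143, 1), (144, 1), (150, 1), (158, 1), (159, 1), (160, 1), (165, 1), (170, 1), (171, 1), (175, 1), (176, 1), (180, 1), (185, 1), (188, 1), (201, 1), (204, 1), (205, 1), (206, 1), (207, 1), (210, 1), (215, 1), (216, 1), (219, 1), (221, 1)]),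
   (true, [(143, 1), (144, 1), (158, 1), (159, 1), (160, 1), (173, 1), (174, 1), (175, 1), (176, 1), (188, 1), (189, 1), (190, 1), (191, 1), (192, 1), (195, 1), (205, 1), (208, 1), (218, 1), (219, 1), (221, 1), (222, 1), (223, 1), (224, 1)]),
   (true, [(159, 1), (173, 1), (175, 1), (189, 1), (191, 1), (195, 1), (203, 1), (206, 1), (219, 1), (221, 1), (222, 1), (224, 1)]),
   (true, [(159, 1), (175, 1), (188, 1), (189, 1), (191, 1), (195, 1), (204, 1), (205, 1), (206, 1), (221, 1), (222, 1)]),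
   (true, [(174, 1), (175, 1), (191, 1), (203, 1), (204, 1), (205, 1), (206, 1), (207, 1), (218, 1), (219, 1), (220, 1), (222, 1), (223, 1)]),
   (true, [(189, 1), (190, 1), (191, 1), (203, 1), (204, 1), (205, 1), (206, 1), (207, 1), (218, 1), (219, 1), (220, 1), (221, 1), (223, 1)]),
   (true, [(204, 1), (205, 1), (206, 1), (207, 1), (218, 1), (219, 1), (220, 1), (221, 1), (222, 1), (223, 1)]),
   (true, [(219, 1), (220, 1), (221, 1), (222, 1)]),
   (true, [(139, 1), (140, 1), (141, 1), (159, 1), (165, 1), (176, 1), (185, 1), (186, 1), (189, 1), (192, 1), (195, 1), (204, 1), (205, 1), (206, 1), (208, 1), (219, 1), (220, 1), (222, 1), (224, 1)]),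
   (true, [(174, 1), (176, 1), (204, 1), (206, 1), (208, 1)]),
   (true, [(175, 1), (189, 1), (191, 1), (205, 1), (207, 1), (210, 1), (221, 1), (222, 1), (223, 1)]),
   (true, [(204, 1), (219, 1), (221, 1), (223, 1)]),
   (true, [(191, 1), (204, 1), (206, 1), (207, 1), (219, 1), (221, 1), (223, 1)]),
   (true, [(206, 1), (219, 1), (221, 1), (223, 1)]),
   (true, [(221, 1), (223, 1)]),
   (true, [(154, 1), (155, 1), (156, 1), (159, 1), (180, 1), (186, 1), (190, 1), (204, 1), (205, 1), (215, 1), (220, 1), (222, 1), (223, 1), (224, 1)]),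
   (true, [(190, 1), (192, 1)]),
   (true, [(191, 1), (205, 1), (207, 1), (220, 1), (222, 1)]),
   (true, [(205, 1), (207, 1), (220, 1), (222, 1)]),
   (true, [(207, 1), (220, 1), (222, 1)]),
   (true, [(222, 1)]),
   (true, [(169, 1), (170, 1), (171, 1), (174, 1), (175, 1), (191, 1), (195, 1), (200, 1), (210, 1), (215, 1), (219, 1), (220, 1), (222, 1)]),
   (true, [(206, 1), (208, 1), (221, 1), (223, 1), (224, 1)]),
   (true, [(206, 1), (207, 1), (221, 1), (222, 1)]),
   (true, [(221, 1)]),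
   (true, [(223, 1)]),
   (true, [(184, 1), (185, 1), (186, 1), (189, 1), (190, 1), (195, 1), (208, 1), (210, 1), (215, 1), (216, 1), (219, 1), (220, 1), (222, 1), (223, 1), (224, 1)]),
   (true, [(207, 1), (208, 1), (222, 1), (223, 1), (224, 1)]),
   (true, [(222, 1)]),
   (true, [(223, 1)]),
   (true, [(199, 1), (200, 1), (201, 1), (204, 1), (205, 1), (207, 1), (210, 1), (224, 1)]),
   (true, [(223, 1), (224, 1)]),
   (true, [(214, 1), (215, 1), (216, 1), (219, 1), (220, 1), (222, 1)]),
   (true, [(76, 1), (91, 1), (121, 1), (126, 1), (128, 1), (136, 1), (151, 1), (156, 1), (158, 1), (160, 1), (173, 1), (174, 1), (176, 1), (181, 1), (186, 1), (188, 1), (191, 1), (201, 1), (208, 1), (216, 1), (219, 1), (221, 1), (223, 1)]),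
   (true, [(77, 1), (91, 1), (92, 1), (96, 1), (106, 1), (111, 1), (112, 1), (122, 1), (127, 1), (128, 1), (136, 1), (137, 1), (142, 1), (143, 1), (151, 1), (152, 1), (156, 1), (159, 1), (172, 1), (173, 1), (181, 1), (182, 1), (187, 1), (188, 1), (189, 1), (201, 1), (203, 1), (205, 1), (207, 1), (216, 1), (218, 1), (221, 1), (222, 1), (223, 1), (224, 1)]),
   (true, [(76, 1), (92, 1), (96, 1), (106, 1), (107, 1), (111, 1), (112, 1), (126, 1), (127, 1), (136, 1), (137, 1), (141, 1), (143, 1), (151, 1), (152, 1), (156, 1), (158, 1), (159, 1), (175, 1), (181, 1), (182, 1), (186, 1), (187, 1), (188, 1), (196, 1), (202, 1), (203, 1), (206, 1), (208, 1), (217, 1), (218, 1), (219, 1), (220, 1), (222, 1), (224, 1)]),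
   (true, [(76, 1), (77, 1), (91, 1), (92, 1), (93, 1), (108, 1), (121, 1), (125, 1), (127, 1), (128, 1), (137, 1), (138, 1), (140, 1), (141, 1), (142, 1), (143, 1), (144, 1), (153, 1), (156, 1), (157, 1), (159, 1), (166, 1), (170, 1), (173, 1), (174, 1), (175, 1), (181, 1), (182, 1), (183, 1), (187, 1), (190, 1), (192, 1), (205, 1), (207, 1), (215, 1), (216, 1), (217, 1), (218, 1), (219, 1), (220, 1), (223, 1), (224, 1)]),
   (true, [(94, 1), (106, 1), (107, 1), (109, 1), (121, 1), (126, 1), (137, 1), (139, 1), (143, 1), (151, 1), (152, 1), (154, 1), (157, 1), (159, 1), (160, 1), (166, 1), (171, 1), (172, 1), (184, 1), (186, 1), (187, 1), (188, 1), (191, 1), (196, 1), (203, 1), (204, 1), (207, 1), (208, 1), (212, 1), (216, 1), (217, 1), (219, 1), (221, 1)]),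
   (true, [(95, 1), (110, 1), (122, 1), (126, 1), (127, 1), (136, 1), (140, 1), (141, 1), (142, 1), (152, 1), (155, 1), (156, 1), (157, 1), (158, 1), (159, 1), (171, 1), (172, 1), (174, 1), (175, 1), (182, 1), (185, 1), (186, 1), (188, 1), (190, 1), (191, 1), (196, 1), (197, 1), (201, 1), (207, 1), (208, 1), (211, 1), (212, 1), (217, 1), (218, 1), (219, 1), (222, 1), (223, 1), (224, 1)]),
   (true, [(111, 1), (121, 1), (122, 1), (136, 1), (142, 1), (143, 1), (152, 1), (157, 1), (158, 1), (159, 1), (167, 1), (173, 1), (174, 1), (182, 1), (186, 1), (188, 1), (192, 1), (201, 1), (202, 1), (204, 1), (205, 1), (207, 1), (216, 1), (220, 1), (221, 1), (222, 1), (224, 1)]),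
   (true, [(111, 1), (136, 1), (141, 1), (152, 1), (156, 1), (159, 1), (166, 1), (167, 1), (171, 1), (172, 1), (181, 1), (182, 1), (190, 1), (191, 1), (197, 1), (201, 1), (202, 1), (206, 1), (207, 1), (208, 1), (216, 1), (221, 1), (224, 1)]),
   (true, [(126, 1), (127, 1), (143, 1), (158, 1), (181, 1), (186, 1), (188, 1), (189, 1), (190, 1), (192, 1), (196, 1), (201, 1), (202, 1), (205, 1), (208, 1), (212, 1), (216, 1), (219, 1), (220, 1), (222, 1), (224, 1)]),
   (true, [(141, 1), (142, 1), (159, 1), (167, 1), (171, 1), (172, 1), (174, 1), (175, 1), (186, 1), (189, 1), (192, 1), (197, 1), (202, 1), (204, 1), (205, 1), (206, 1), (208, 1), (216, 1), (217, 1), (219, 1), (220, 1), (221, 1)]),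
   (true, [(156, 1), (157, 1), (159, 1), (166, 1), (171, 1), (172, 1), (174, 1), (175, 1), (181, 1), (186, 1), (190, 1), (202, 1), (204, 1), (205, 1), (206, 1), (212, 1), (216, 1), (220, 1), (221, 1)]),
   (true, [(171, 1), (172, 1), (174, 1), (175, 1), (181, 1), (182, 1), (191, 1), (196, 1), (207, 1), (211, 1), (216, 1), (219, 1), (220, 1), (223, 1), (224, 1)]),
   (true, [(186, 1), (187, 1), (189, 1), (190, 1), (196, 1), (197, 1)]),
   (true, [(201, 1), (202, 1), (204, 1), (205, 1), (207, 1)]),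
   (true, [(216, 1), (217, 1), (219, 1), (220, 1), (222, 1)]),
   (true, [(76, 1), (78, 1), (80, 1), (91, 1), (93, 1), (95, 1), (96, 1), (123, 1), (136, 1), (138, 1), (140, 1), (141, 1), (144, 1), (153, 1), (173, 1), (181, 1), (183, 1), (185, 1), (186, 1), (188, 1), (189, 1), (190, 1), (191, 1), (192, 1), (200, 1), (201, 1), (203, 1), (206, 1), (208, 1), (218, 1), (219, 1), (223, 1)]),
   (true, [(78, 1), (80, 1), (93, 1), (95, 1), (96, 1), (121, 1), (126, 1), (128, 1), (138, 1), (140, 1), (141, 1), (144, 1), (151, 1), (156, 1), (158, 1), (160, 1), (174, 1), (176, 1), (181, 1), (183, 1), (185, 1), (191, 1), (201, 1), (203, 1), (204, 1), (205, 1), (206, 1), (207, 1), (208, 1), (216, 1), (220, 1), (221, 1), (222, 1), (223, 1), (224, 1)]),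
   (true, [(79, 1), (94, 1), (108, 1), (110, 1), (111, 1), (136, 1), (138, 1), (139, 1), (141, 1), (144, 1), (151, 1), (153, 1), (155, 1), (156, 1), (159, 1), (172, 1), (175, 1), (181, 1), (184, 1), (185, 1), (190, 1), (192, 1), (196, 1), (200, 1), (204, 1), (207, 1), (208, 1), (211, 1), (213, 1), (215, 1), (216, 1), (217, 1), (219, 1), (221, 1)]),
   (true, [(95, 1), (121, 1), (123, 1), (140, 1), (151, 1), (153, 1), (181, 1), (183, 1), (185, 1), (190, 1), (192, 1), (198, 1), (200, 1), (201, 1), (204, 1), (205, 1), (208, 1), (211, 1), (213, 1), (222, 1), (223, 1)]),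
   (true, [(95, 1), (121, 1), (123, 1), (141, 1), (151, 1), (153, 1), (166, 1), (168, 1), (181, 1), (183, 1), (186, 1), (190, 1), (196, 1), (201, 1), (205, 1), (211, 1), (218, 1), (220, 1), (221, 1), (222, 1), (223, 1)]),
   (true, [(110, 1), (111, 1), (142, 1), (151, 1), (153, 1), (166, 1), (168, 1), (181, 1), (183, 1), (185, 1), (187, 1), (189, 1), (191, 1), (192, 1), (196, 1), (198, 1), (200, 1), (201, 1), (204, 1), (206, 1), (207, 1), (208, 1), (211, 1), (215, 1), (219, 1), (220, 1), (221, 1), (224, 1)]),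
   (true, [(125, 1), (126, 1), (143, 1), (181, 1), (185, 1), (188, 1), (189, 1), (192, 1), (208, 1), (211, 1), (213, 1), (216, 1), (223, 1), (224, 1)]),
   (true, [(140, 1), (141, 1), (166, 1), (168, 1), (198, 1), (204, 1), (206, 1), (208, 1), (211, 1), (219, 1), (221, 1), (222, 1), (223, 1), (224, 1)]),
   (true, [(155, 1), (156, 1), (159, 1), (181, 1), (185, 1), (189, 1), (190, 1), (192, 1), (196, 1), (200, 1), (201, 1), (211, 1), (213, 1), (216, 1), (219, 1), (222, 1), (223, 1), (224, 1)]),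
   (true, [(170, 1), (171, 1), (174, 1), (183, 1), (185, 1), (186, 1), (189, 1), (191, 1), (196, 1), (201, 1), (204, 1), (207, 1), (208, 1), (211, 1), (215, 1), (219, 1), (224, 1)]),
   (true, [(185, 1), (186, 1), (189, 1), (196, 1), (198, 1)]),
   (true, [(200, 1), (201, 1), (204, 1), (207, 1)]),
   (true, [(215, 1), (216, 1), (219, 1), (222, 1)]),
   (true, [(79, 1), (94, 1), (106, 1), (112, 1), (124, 1), (136, 1), (139, 1), (141, 1), (142, 1), (151, 1), (154, 1), (157, 1), (158, 1), (159, 1), (173, 1), (174, 1), (184, 1), (186, 1), (187, 1), (188, 1), (189, 1), (201, 1), (202, 1), (203, 1), (204, 1), (207, 1), (211, 1), (217, 1), (218, 1), (219, 1), (220, 1), (221, 1), (222, 1), (224, 1)]),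
   (true, [(109, 1), (112, 1), (139, 1), (142, 1), (144, 1), (151, 1), (154, 1), (157, 1), (159, 1), (160, 1), (181, 1), (189, 1), (192, 1), (202, 1), (207, 1), (214, 1), (222, 1), (223, 1), (224, 1)]),
   (true, [(110, 1), (124, 1), (127, 1), (136, 1), (140, 1), (142, 1), (154, 1), (155, 1), (157, 1), (158, 1), (159, 1), (172, 1), (174, 1), (181, 1), (184, 1), (187, 1), (188, 1), (189, 1), (191, 1), (196, 1), (199, 1), (202, 1), (203, 1), (208, 1), (214, 1), (215, 1), (218, 1), (224, 1)]),
   (true, [(111, 1), (124, 1), (127, 1), (136, 1), (141, 1), (142, 1), (151, 1), (154, 1), (156, 1), (166, 1), (169, 1), (172, 1), (173, 1), (175, 1), (181, 1), (184, 1), (187, 1), (190, 1), (191, 1), (192, 1), (196, 1), (203, 1), (207, 1), (208, 1), (211, 1), (216, 1), (217, 1), (219, 1), (223, 1)]),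
   (true, [(142, 1), (154, 1), (159, 1), (169, 1), (172, 1), (174, 1), (175, 1), (181, 1), (184, 1), (190, 1), (191, 1), (196, 1), (199, 1), (202, 1), (204, 1), (206, 1), (207, 1), (219, 1)]),
   (true, [(127, 1), (143, 1), (158, 1), (166, 1), (172, 1), (174, 1), (175, 1), (181, 1), (187, 1), (191, 1), (204, 1), (206, 1), (207, 1), (208, 1), (211, 1), (214, 1), (218, 1), (221, 1), (224, 1)]),
   (true, [(142, 1), (159, 1), (169, 1), (172, 1), (174, 1), (175, 1), (181, 1), (187, 1), (189, 1), (190, 1), (191, 1), (199, 1), (207, 1), (217, 1), (220, 1), (221, 1), (223, 1), (224, 1)]),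
   (true, [(157, 1), (159, 1), (211, 1), (214, 1), (219, 1), (220, 1), (224, 1)]),
   (true, [(172, 1), (174, 1), (175, 1), (184, 1), (187, 1), (189, 1), (190, 1), (196, 1), (202, 1), (204, 1), (205, 1), (207, 1), (211, 1), (219, 1), (220, 1), (221, 1), (222, 1), (224, 1)]),
   (true, [(187, 1), (189, 1), (190, 1), (199, 1), (202, 1), (204, 1), (205, 1), (211, 1), (217, 1), (219, 1), (220, 1), (222, 1)]),
   (true, [(202, 1), (204, 1), (205, 1), (223, 1)]),
   (true, [(217, 1), (219, 1), (220, 1)]),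
   (true, [(95, 1), (121, 1), (125, 1), (128, 1), (140, 1), (151, 1), (155, 1), (158, 1), (160, 1), (181, 1), (185, 1), (188, 1), (189, 1), (196, 1), (203, 1), (205, 1), (211, 1), (218, 1), (219, 1), (220, 1), (224, 1)]),
   (true, [(125, 1), (128, 1), (155, 1), (158, 1), (160, 1), (185, 1), (188, 1), (200, 1), (203, 1), (207, 1), (211, 1), (215, 1), (218, 1), (223, 1)])]

/-- Equations. -/
def th2E0_2 : List (Bool × Cfsg.Lib.Schur.Prime.Form) :=
  [(true, [(125, 1), (126, 1), (155, 1), (156, 1), (170, 1), (173, 1), (175, 1), (185, 1), (186, 1), (191, 1), (196, 1), (201, 1), (203, 1), (205, 1), (206, 1), (207, 1), (216, 1), (218, 1), (220, 1), (222, 1), (223, 1), (224, 1)]),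
   (true, [(127, 1), (155, 1), (157, 1), (158, 1), (170, 1), (173, 1), (175, 1), (181, 1), (185, 1), (187, 1), (188, 1), (190, 1), (200, 1), (202, 1), (206, 1), (207, 1), (211, 1), (217, 1), (218, 1), (221, 1), (222, 1)]),
   (true, [(158, 1), (181, 1), (190, 1), (203, 1), (207, 1), (208, 1), (211, 1), (215, 1), (218, 1)]),
   (true, [(143, 1), (159, 1), (170, 1), (173, 1), (175, 1), (189, 1), (191, 1), (200, 1), (204, 1), (205, 1), (207, 1), (208, 1), (218, 1), (219, 1), (220, 1), (223, 1)]),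
   (true, [(158, 1), (181, 1), (188, 1), (207, 1), (211, 1), (215, 1), (220, 1)]),
   (true, [(173, 1), (175, 1), (185, 1), (188, 1), (190, 1), (191, 1), (196, 1), (203, 1), (205, 1), (206, 1), (207, 1), (211, 1), (218, 1), (220, 1), (221, 1), (222, 1)]),
   (true, [(188, 1), (190, 1), (200, 1), (203, 1), (205, 1), (222, 1), (223, 1)]),
   (true, [(203, 1), (205, 1), (207, 1), (223, 1)]),
   (true, [(218, 1), (220, 1), (222, 1), (223, 1)]),
   (true, [(95, 1), (121, 1), (126, 1), (128, 1), (141, 1), (151, 1), (156, 1), (158, 1), (160, 1), (166, 1), (173, 1), (175, 1), (176, 1), (181, 1), (186, 1), (188, 1), (189, 1), (190, 1), (191, 1), (192, 1), (201, 1), (205, 1), (208, 1), (219, 1), (220, 1), (222, 1), (223, 1)]),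
   (true, [(126, 1), (128, 1), (156, 1), (158, 1), (160, 1), (171, 1), (173, 1), (175, 1), (176, 1), (181, 1), (186, 1), (188, 1), (191, 1), (203, 1), (208, 1), (220, 1), (221, 1), (222, 1), (223, 1), (224, 1)]),
   (true, [(127, 1), (156, 1), (157, 1), (158, 1), (171, 1), (172, 1), (173, 1), (181, 1), (186, 1), (187, 1), (188, 1), (190, 1), (201, 1), (205, 1), (206, 1), (207, 1), (211, 1), (220, 1), (223, 1), (224, 1)]),
   (true, [(158, 1), (173, 1), (181, 1), (190, 1), (191, 1), (206, 1), (208, 1), (211, 1), (216, 1), (222, 1), (223, 1)]),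
   (true, [(143, 1), (159, 1), (171, 1), (173, 1), (174, 1), (175, 1), (181, 1), (188, 1), (189, 1), (190, 1), (191, 1), (196, 1), (201, 1), (205, 1), (206, 1), (207, 1), (211, 1), (221, 1), (223, 1)]),
   (true, [(158, 1), (175, 1), (181, 1), (188, 1), (191, 1), (196, 1), (203, 1), (207, 1), (216, 1), (218, 1), (220, 1), (221, 1)]),
   (true, [(173, 1), (175, 1), (186, 1), (188, 1), (190, 1), (211, 1), (218, 1), (220, 1), (221, 1)]),
   (true, [(188, 1), (190, 1), (191, 1), (201, 1), (203, 1), (205, 1), (206, 1), (207, 1)]),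
   (true, [(203, 1), (205, 1), (206, 1), (207, 1)]),
   (true, [(218, 1), (220, 1), (221, 1), (222, 1)]),
   (true, [(110, 1), (111, 1), (127, 1), (142, 1), (151, 1), (157, 1), (160, 1), (166, 1), (175, 1), (176, 1), (181, 1), (186, 1), (187, 1), (189, 1), (191, 1), (192, 1), (196, 1), (204, 1), (206, 1), (216, 1), (219, 1), (221, 1), (222, 1), (223, 1), (224, 1)]),
   (true, [(157, 1), (160, 1), (172, 1), (175, 1), (176, 1), (187, 1), (190, 1), (191, 1), (192, 1), (202, 1), (205, 1), (206, 1), (207, 1), (208, 1), (211, 1), (221, 1), (224, 1)]),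
   (true, [(158, 1), (173, 1), (181, 1), (188, 1), (190, 1), (191, 1), (196, 1), (203, 1), (205, 1), (208, 1), (211, 1), (217, 1), (222, 1)]),
   (true, [(159, 1), (172, 1), (174, 1), (175, 1), (189, 1), (191, 1), (202, 1), (204, 1), (205, 1), (207, 1), (211, 1), (221, 1), (222, 1)]),
   (true, [(175, 1), (190, 1), (205, 1), (211, 1), (217, 1)]),
   (true, [(175, 1), (187, 1), (190, 1), (206, 1), (207, 1), (211, 1), (220, 1), (221, 1), (223, 1)]),
   (true, [(190, 1), (191, 1), (202, 1), (205, 1), (206, 1)]),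
   (true, [(205, 1), (206, 1), (207, 1)]),
   (true, [(220, 1), (221, 1), (222, 1), (223, 1)]),
   (true, [(125, 1), (126, 1), (143, 1), (158, 1), (186, 1), (188, 1), (192, 1), (205, 1), (208, 1), (211, 1), (216, 1), (222, 1)]),
   (true, [(196, 1), (218, 1), (224, 1)]),
   (true, [(173, 1), (196, 1), (203, 1), (206, 1), (219, 1), (221, 1)]),
   (true, [(196, 1), (218, 1), (220, 1)]),
   (true, [(188, 1), (221, 1), (222, 1)]),
   (true, [(203, 1), (222, 1), (223, 1)]),
   (true, [(223, 1)]),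
   (true, [(140, 1), (141, 1), (143, 1), (159, 1), (166, 1), (176, 1), (188, 1), (190, 1), (196, 1), (203, 1), (206, 1), (218, 1), (219, 1), (220, 1), (222, 1)]),
   (true, [(174, 1), (176, 1), (204, 1), (206, 1), (208, 1)]),
   (true, [(175, 1), (205, 1), (211, 1), (219, 1)]),
   (true, [(189, 1), (191, 1), (206, 1), (207, 1)]),
   (true, [(191, 1), (204, 1), (206, 1), (207, 1)]),
   (true, [(206, 1)]),
   (true, [(221, 1), (223, 1)]),
   (true, [(155, 1), (156, 1), (158, 1), (159, 1), (186, 1), (190, 1), (192, 1), (203, 1), (207, 1), (208, 1), (211, 1), (216, 1), (218, 1), (219, 1)]),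
   (true, [(220, 1), (224, 1)]),
   (true, [(190, 1), (221, 1), (222, 1)]),
   (true, [(205, 1), (222, 1), (223, 1)]),
   (true, [(223, 1)]),
   (true, [(170, 1), (171, 1), (173, 1), (174, 1), (175, 1), (181, 1), (191, 1), (192, 1), (201, 1), (203, 1), (204, 1), (205, 1), (207, 1), (216, 1), (223, 1), (224, 1)]),
   (true, [(191, 1), (192, 1)]),
   (true, [(206, 1), (207, 1)]),
   (true, [(207, 1)]),
   (true, [(222, 1)]),
   (true, [(185, 1), (186, 1), (188, 1), (189, 1), (190, 1), (196, 1), (208, 1)]),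
   (true, [(207, 1), (208, 1)]),
   (true, [(223, 1)]),
   (true, [(200, 1), (201, 1), (203, 1), (204, 1), (205, 1), (207, 1)]),
   (true, [(215, 1), (216, 1), (218, 1), (219, 1), (220, 1), (222, 1)]),
   (true, [(77, 1), (107, 1), (137, 1), (142, 1), (144, 1), (152, 1), (174, 1), (175, 1), (176, 1), (182, 1), (189, 1), (190, 1), (191, 1), (192, 1), (197, 1), (202, 1), (205, 1), (207, 1), (208, 1), (217, 1), (223, 1), (224, 1)]),
   (true, [(77, 1), (78, 1), (80, 1), (92, 1), (95, 1), (96, 1), (108, 1), (122, 1), (125, 1), (126, 1), (127, 1), (138, 1), (141, 1), (144, 1), (153, 1), (157, 1), (158, 1), (160, 1), (167, 1), (170, 1), (171, 1), (174, 1), (182, 1), (183, 1), (186, 1), (189, 1), (191, 1), (198, 1), (200, 1), (202, 1), (215, 1), (218, 1), (220, 1), (222, 1), (223, 1), (224, 1)]),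
   (true, [(78, 1), (80, 1), (93, 1), (95, 1), (96, 1), (122, 1), (123, 1), (125, 1), (152, 1), (156, 1), (158, 1), (160, 1), (168, 1), (173, 1), (176, 1), (182, 1), (183, 1), (191, 1), (200, 1), (207, 1), (218, 1), (220, 1), (222, 1), (223, 1)]),
   (true, [(79, 1), (94, 1), (108, 1), (110, 1), (111, 1), (123, 1), (124, 1), (125, 1), (126, 1), (127, 1), (137, 1), (140, 1), (142, 1), (144, 1), (152, 1), (153, 1), (155, 1), (156, 1), (158, 1), (168, 1), (169, 1), (172, 1), (173, 1), (176, 1), (182, 1), (184, 1), (197, 1), (198, 1), (201, 1), (203, 1), (212, 1), (215, 1), (218, 1), (219, 1)]),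
   (true, [(95, 1), (122, 1), (126, 1), (138, 1), (140, 1), (141, 1), (152, 1), (155, 1), (156, 1), (158, 1), (159, 1), (171, 1), (174, 1), (175, 1), (182, 1), (186, 1), (189, 1), (192, 1), (198, 1), (200, 1), (205, 1), (206, 1), (207, 1), (212, 1), (213, 1), (216, 1), (218, 1), (219, 1), (222, 1), (223, 1), (224, 1)]),
   (true, [(95, 1), (122, 1), (123, 1), (126, 1), (138, 1), (140, 1), (141, 1), (152, 1), (155, 1), (156, 1), (159, 1), (167, 1), (171, 1), (173, 1), (175, 1), (182, 1), (191, 1), (197, 1), (200, 1), (204, 1), (205, 1), (206, 1), (207, 1), (208, 1), (212, 1), (216, 1), (218, 1), (220, 1), (221, 1), (223, 1), (224, 1)]),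
   (true, [(110, 1), (111, 1), (127, 1), (138, 1), (140, 1), (141, 1), (143, 1), (152, 1), (155, 1), (156, 1), (158, 1), (159, 1), (167, 1), (168, 1), (170, 1), (171, 1), (172, 1), (173, 1), (182, 1), (183, 1), (187, 1), (188, 1), (189, 1), (192, 1), (197, 1), (200, 1), (205, 1), (207, 1), (212, 1), (216, 1), (219, 1), (220, 1), (221, 1), (224, 1)]),
   (true, [(125, 1), (126, 1), (173, 1), (182, 1), (183, 1), (186, 1), (188, 1), (192, 1), (198, 1), (207, 1), (212, 1), (215, 1), (218, 1), (221, 1), (222, 1), (224, 1)]),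
   (true, [(140, 1), (141, 1), (143, 1), (167, 1), (170, 1), (171, 1), (173, 1), (174, 1), (188, 1), (189, 1), (191, 1), (201, 1), (206, 1), (208, 1), (212, 1), (215, 1), (221, 1), (224, 1)]),
   (true, [(155, 1), (156, 1), (158, 1), (168, 1), (170, 1), (171, 1), (173, 1), (175, 1), (182, 1), (183, 1), (186, 1), (190, 1), (192, 1), (197, 1), (200, 1), (203, 1), (206, 1), (207, 1), (212, 1), (218, 1), (221, 1)]),
   (true, [(170, 1), (171, 1), (173, 1), (183, 1), (185, 1), (186, 1), (188, 1), (197, 1), (198, 1), (200, 1), (208, 1), (212, 1), (213, 1), (216, 1), (222, 1), (224, 1)]),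
   (true, [(185, 1), (186, 1), (188, 1), (191, 1), (197, 1), (198, 1)]),
   (true, [(200, 1), (201, 1), (203, 1), (206, 1), (207, 1)]),
   (true, [(215, 1), (216, 1), (218, 1), (221, 1), (222, 1)]),
   (true, [(79, 1), (107, 1), (109, 1), (112, 1), (122, 1), (127, 1), (128, 1), (139, 1), (142, 1), (143, 1), (144, 1), (152, 1), (154, 1), (157, 1), (158, 1), (160, 1), (167, 1), (172, 1), (174, 1), (184, 1), (187, 1), (189, 1), (191, 1), (197, 1), (199, 1), (202, 1), (203, 1), (204, 1), (205, 1), (206, 1), (207, 1), (208, 1), (221, 1), (222, 1)]),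
   (true, [(109, 1), (112, 1), (124, 1), (127, 1), (128, 1), (152, 1), (154, 1), (157, 1), (158, 1), (160, 1), (169, 1), (175, 1), (176, 1), (182, 1), (190, 1), (191, 1), (192, 1), (199, 1), (207, 1), (208, 1), (223, 1), (224, 1)]),
   (true, [(110, 1), (125, 1), (137, 1), (139, 1), (155, 1), (170, 1), (182, 1), (188, 1), (189, 1), (191, 1), (192, 1), (197, 1), (199, 1), (200, 1), (208, 1), (214, 1), (217, 1), (220, 1), (224, 1)]),
   (true, [(111, 1), (124, 1), (126, 1), (127, 1), (137, 1), (139, 1), (143, 1), (152, 1), (156, 1), (157, 1), (158, 1), (159, 1), (167, 1), (171, 1), (175, 1), (182, 1), (187, 1), (188, 1), (191, 1), (192, 1), (197, 1), (201, 1), (202, 1), (203, 1), (204, 1), (212, 1), (217, 1), (219, 1), (220, 1), (222, 1), (224, 1)]),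
   (true, [(127, 1), (139, 1), (142, 1), (143, 1), (157, 1), (159, 1), (169, 1), (173, 1), (174, 1), (175, 1), (182, 1), (184, 1), (187, 1), (188, 1), (191, 1), (197, 1), (202, 1), (204, 1), (219, 1), (220, 1)]),
   (true, [(127, 1), (158, 1), (167, 1), (172, 1), (175, 1), (182, 1), (184, 1), (188, 1), (190, 1), (191, 1), (199, 1), (202, 1), (203, 1), (206, 1), (207, 1), (208, 1), (212, 1), (221, 1), (223, 1), (224, 1)]),
   (true, [(142, 1), (143, 1), (159, 1), (174, 1), (182, 1), (187, 1), (188, 1), (190, 1), (191, 1), (204, 1), (205, 1), (206, 1), (218, 1), (220, 1), (223, 1)]),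
   (true, [(157, 1), (158, 1), (169, 1), (172, 1), (173, 1), (184, 1), (187, 1), (188, 1), (190, 1), (191, 1), (202, 1), (203, 1), (205, 1), (207, 1), (208, 1), (212, 1), (217, 1), (218, 1), (220, 1), (221, 1)]),
   (true, [(172, 1), (173, 1), (175, 1), (184, 1), (187, 1), (188, 1), (190, 1), (191, 1), (197, 1), (199, 1), (206, 1), (212, 1), (214, 1), (217, 1), (223, 1), (224, 1)])]

/-- Equations. -/
def th2E0_3 : List (Bool × Cfsg.Lib.Schur.Prime.Form) :=
  [(true, [(187, 1), (188, 1), (190, 1), (191, 1), (199, 1), (202, 1), (203, 1), (205, 1), (206, 1), (207, 1), (212, 1), (217, 1), (218, 1), (220, 1), (221, 1)]),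
   (true, [(202, 1), (203, 1), (205, 1), (206, 1)]),
   (true, [(217, 1), (218, 1), (220, 1), (221, 1), (223, 1)]),
   (true, [(110, 1), (137, 1), (140, 1), (144, 1), (155, 1), (185, 1), (189, 1), (190, 1), (192, 1), (197, 1), (200, 1), (204, 1), (208, 1), (212, 1), (219, 1), (220, 1), (222, 1), (223, 1), (224, 1)]),
   (true, [(140, 1), (144, 1), (200, 1), (204, 1), (208, 1), (212, 1), (215, 1), (219, 1), (223, 1), (224, 1)]),
   (true, [(125, 1), (140, 1), (141, 1), (143, 1), (188, 1), (189, 1), (197, 1), (201, 1), (203, 1), (204, 1), (208, 1), (216, 1)]),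
   (true, [(140, 1), (142, 1), (170, 1), (174, 1), (182, 1), (185, 1), (189, 1), (191, 1), (202, 1), (206, 1), (207, 1), (212, 1), (217, 1), (219, 1), (221, 1)]),
   (true, [(143, 1), (182, 1), (185, 1), (200, 1), (203, 1), (204, 1), (207, 1), (208, 1), (212, 1), (218, 1), (219, 1), (222, 1)]),
   (true, [(204, 1), (219, 1)]),
   (true, [(159, 1), (170, 1), (174, 1), (182, 1), (185, 1), (191, 1), (204, 1), (205, 1), (206, 1), (207, 1), (212, 1), (220, 1), (221, 1), (224, 1)]),
   (true, [(174, 1), (185, 1), (189, 1), (197, 1), (200, 1), (206, 1), (212, 1), (215, 1), (221, 1)]),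
   (true, [(189, 1), (200, 1), (204, 1), (207, 1), (222, 1), (223, 1)]),
   (true, [(204, 1), (223, 1)]),
   (true, [(219, 1), (223, 1)]),
   (true, [(95, 1), (111, 1), (122, 1), (128, 1), (137, 1), (141, 1), (143, 1), (144, 1), (156, 1), (186, 1), (201, 1), (202, 1), (207, 1), (208, 1), (218, 1), (222, 1), (223, 1)]),
   (true, [(126, 1), (128, 1), (141, 1), (143, 1), (144, 1), (182, 1), (189, 1), (192, 1), (203, 1), (208, 1), (219, 1), (222, 1), (223, 1), (224, 1)]),
   (true, [(127, 1), (141, 1), (142, 1), (143, 1), (171, 1), (173, 1), (174, 1), (182, 1), (186, 1), (188, 1), (191, 1), (203, 1), (206, 1), (212, 1), (218, 1), (219, 1), (223, 1)]),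
   (true, [(143, 1), (182, 1), (186, 1), (201, 1), (203, 1), (204, 1), (207, 1), (208, 1), (212, 1), (218, 1), (219, 1), (222, 1), (223, 1)]),
   (true, [(143, 1), (182, 1), (188, 1), (189, 1), (197, 1), (203, 1), (207, 1), (212, 1), (218, 1), (219, 1)]),
   (true, [(158, 1), (159, 1), (171, 1), (173, 1), (174, 1), (182, 1), (186, 1), (191, 1), (197, 1), (203, 1), (207, 1), (218, 1), (219, 1), (221, 1), (222, 1), (224, 1)]),
   (true, [(173, 1), (174, 1), (186, 1), (188, 1), (189, 1), (201, 1), (203, 1), (204, 1), (212, 1), (216, 1), (222, 1), (223, 1)]),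
   (true, [(188, 1), (189, 1), (201, 1), (203, 1), (204, 1)]),
   (true, [(203, 1), (204, 1)]),
   (true, [(218, 1), (219, 1)]),
   (true, [(110, 1), (137, 1), (142, 1), (144, 1), (157, 1), (167, 1), (174, 1), (176, 1), (182, 1), (190, 1), (191, 1), (192, 1), (202, 1), (208, 1), (217, 1)]),
   (true, [(142, 1), (144, 1), (172, 1), (174, 1), (176, 1), (187, 1), (189, 1), (191, 1), (192, 1), (212, 1), (221, 1), (224, 1)]),
   (true, [(143, 1), (173, 1), (182, 1), (187, 1), (188, 1), (197, 1), (202, 1), (206, 1), (207, 1), (208, 1), (212, 1), (219, 1), (221, 1), (223, 1)]),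
   (true, [(174, 1), (189, 1), (212, 1), (219, 1), (221, 1), (222, 1)]),
   (true, [(159, 1), (172, 1), (174, 1), (175, 1), (187, 1), (189, 1), (190, 1), (212, 1), (221, 1), (224, 1)]),
   (true, [(174, 1), (187, 1), (189, 1), (202, 1), (204, 1), (206, 1), (207, 1), (212, 1), (217, 1), (222, 1), (223, 1)]),
   (true, [(189, 1), (191, 1), (202, 1), (204, 1), (206, 1), (207, 1)]),
   (true, [(204, 1), (206, 1), (207, 1)]),
   (true, [(219, 1), (221, 1), (222, 1)]),
   (true, [(125, 1), (127, 1), (143, 1), (158, 1), (182, 1), (187, 1), (188, 1), (197, 1), (203, 1), (204, 1), (207, 1), (217, 1), (222, 1), (224, 1)]),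
   (true, [(188, 1), (192, 1), (197, 1), (203, 1), (207, 1), (208, 1)]),
   (true, [(189, 1), (197, 1), (204, 1), (207, 1)]),
   (true, [(173, 1), (188, 1), (190, 1), (191, 1), (197, 1), (205, 1), (207, 1)]),
   (true, [(188, 1), (191, 1), (203, 1), (206, 1), (218, 1), (222, 1), (223, 1)]),
   (true, [(203, 1)]),
   (true, [(207, 1)]),
   (true, [(222, 1), (223, 1)]),
   (true, [(140, 1), (142, 1), (159, 1), (189, 1), (204, 1), (219, 1), (220, 1)]),
   (true, [(174, 1), (189, 1), (212, 1), (221, 1), (222, 1)]),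
   (true, [(189, 1), (204, 1), (219, 1)]),
   (true, [(204, 1)]),
   (true, [(155, 1), (157, 1), (159, 1), (167, 1), (176, 1), (182, 1), (187, 1), (189, 1), (191, 1), (192, 1), (205, 1), (208, 1), (217, 1), (220, 1), (224, 1)]),
   (true, [(175, 1), (176, 1), (190, 1), (191, 1), (192, 1)]),
   (true, [(190, 1), (205, 1), (206, 1), (207, 1), (220, 1), (221, 1), (222, 1)]),
   (true, [(191, 1), (205, 1), (206, 1), (207, 1)]),
   (true, [(206, 1), (207, 1)]),
   (true, [(221, 1), (222, 1)]),
   (true, [(170, 1), (172, 1), (174, 1), (175, 1), (182, 1), (191, 1), (192, 1), (197, 1), (202, 1), (204, 1), (205, 1), (206, 1), (208, 1), (212, 1), (217, 1), (222, 1), (223, 1)]),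
   (true, [(191, 1), (192, 1), (206, 1), (207, 1), (208, 1), (221, 1), (222, 1), (223, 1), (224, 1)]),
   (true, [(206, 1), (222, 1), (223, 1)]),
   (true, [(207, 1), (223, 1)]),
   (true, [(222, 1), (223, 1)]),
   (true, [(185, 1), (187, 1), (189, 1), (190, 1), (197, 1), (207, 1), (208, 1)]),
   (true, [(207, 1), (208, 1)]),
   (true, [(223, 1)]),
   (true, [(200, 1), (202, 1), (204, 1), (205, 1), (207, 1)]),
   (true, [(215, 1), (217, 1), (219, 1), (220, 1), (222, 1), (223, 1)]),
   (true, [(123, 1), (153, 1), (183, 1), (190, 1), (192, 1), (207, 1), (208, 1), (220, 1), (222, 1), (223, 1), (224, 1)]),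
   (true, [(124, 1), (138, 1), (144, 1), (153, 1), (154, 1), (159, 1), (160, 1), (176, 1), (183, 1), (184, 1), (189, 1), (191, 1), (198, 1), (204, 1), (205, 1), (206, 1), (207, 1), (213, 1), (220, 1), (222, 1)]),
   (true, [(139, 1), (144, 1), (153, 1), (154, 1), (159, 1), (160, 1), (183, 1), (184, 1), (190, 1), (192, 1), (199, 1), (204, 1), (205, 1), (214, 1), (220, 1), (222, 1)]),
   (true, [(124, 1), (138, 1), (140, 1), (154, 1), (155, 1), (158, 1), (159, 1), (174, 1), (183, 1), (184, 1), (185, 1), (188, 1), (190, 1), (198, 1), (200, 1), (204, 1), (206, 1), (207, 1), (208, 1), (214, 1), (215, 1), (219, 1), (222, 1), (224, 1)]),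
   (true, [(124, 1), (138, 1), (141, 1), (153, 1), (154, 1), (156, 1), (168, 1), (169, 1), (173, 1), (175, 1), (183, 1), (184, 1), (186, 1), (189, 1), (190, 1), (191, 1), (192, 1), (198, 1), (199, 1), (201, 1), (204, 1), (213, 1), (214, 1), (216, 1), (218, 1), (219, 1), (220, 1), (222, 1), (223, 1)]),
   (true, [(142, 1), (154, 1), (157, 1), (159, 1), (169, 1), (174, 1), (175, 1), (183, 1), (184, 1), (187, 1), (198, 1), (199, 1), (202, 1), (204, 1), (205, 1), (214, 1), (217, 1), (220, 1), (221, 1), (223, 1), (224, 1)]),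
   (true, [(143, 1), (158, 1), (168, 1), (174, 1), (175, 1), (183, 1), (184, 1), (188, 1), (203, 1), (205, 1), (206, 1), (207, 1), (213, 1), (214, 1), (218, 1), (219, 1), (220, 1)]),
   (true, [(159, 1), (169, 1), (174, 1), (175, 1), (183, 1), (190, 1), (205, 1), (206, 1), (214, 1), (219, 1)]),
   (true, [(159, 1), (184, 1), (189, 1), (199, 1), (204, 1), (213, 1), (214, 1), (219, 1), (220, 1), (222, 1), (224, 1)]),
   (true, [(174, 1), (175, 1), (191, 1), (198, 1), (199, 1), (206, 1), (213, 1), (214, 1), (221, 1)]),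
   (true, [(189, 1), (190, 1), (199, 1), (204, 1), (205, 1), (213, 1), (219, 1), (220, 1), (223, 1)]),
   (true, [(204, 1), (205, 1), (207, 1), (223, 1)]),
   (true, [(219, 1), (220, 1), (222, 1), (223, 1)]),
   (true, [(123, 1), (125, 1), (128, 1), (153, 1), (155, 1), (158, 1), (160, 1), (183, 1), (185, 1), (188, 1), (190, 1), (192, 1), (205, 1), (207, 1), (213, 1), (218, 1), (220, 1), (222, 1), (223, 1), (224, 1)]),
   (true, [(125, 1), (128, 1), (155, 1), (158, 1), (160, 1), (185, 1), (188, 1), (205, 1), (208, 1), (213, 1), (215, 1), (218, 1)]),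
   (true, [(125, 1), (126, 1), (155, 1), (156, 1), (170, 1), (173, 1), (175, 1), (185, 1), (186, 1), (191, 1), (198, 1), (200, 1), (203, 1), (205, 1), (207, 1), (215, 1), (216, 1), (223, 1), (224, 1)]),
   (true, [(127, 1), (155, 1), (157, 1), (158, 1), (170, 1), (173, 1), (175, 1), (183, 1), (185, 1), (187, 1), (188, 1), (190, 1), (200, 1), (205, 1), (207, 1), (213, 1), (215, 1), (217, 1), (220, 1), (221, 1), (222, 1)]),
   (true, [(158, 1), (183, 1), (185, 1), (188, 1), (207, 1), (208, 1), (213, 1), (215, 1), (218, 1)]),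
   (true, [(143, 1), (159, 1), (170, 1), (173, 1), (175, 1), (189, 1), (191, 1), (203, 1), (206, 1), (208, 1), (215, 1), (219, 1), (222, 1)])]

/-- Equations. -/
def th2E0_4 : List (Bool × Cfsg.Lib.Schur.Prime.Form) :=
  [(true, [(158, 1), (183, 1), (185, 1), (190, 1), (200, 1), (203, 1), (207, 1), (213, 1), (215, 1), (220, 1)]),
   (true, [(173, 1), (175, 1), (191, 1), (198, 1), (200, 1), (213, 1), (215, 1), (221, 1)]),
   (true, [(188, 1), (190, 1), (200, 1), (203, 1), (205, 1), (207, 1), (222, 1), (223, 1)]),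
   (true, [(203, 1), (205, 1), (207, 1), (223, 1)]),
   (true, [(218, 1), (220, 1), (222, 1)]),
   (true, [(123, 1), (126, 1), (128, 1), (153, 1), (156, 1), (158, 1), (160, 1), (168, 1), (173, 1), (175, 1), (176, 1), (183, 1), (186, 1), (188, 1), (190, 1), (191, 1), (192, 1), (198, 1), (203, 1), (213, 1), (218, 1), (220, 1), (221, 1), (222, 1), (223, 1), (224, 1)]),
   (true, [(126, 1), (128, 1), (156, 1), (158, 1), (160, 1), (171, 1), (173, 1), (175, 1), (176, 1), (183, 1), (186, 1), (188, 1), (191, 1), (201, 1), (205, 1), (206, 1), (207, 1), (216, 1), (218, 1)]),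
   (true, [(127, 1), (156, 1), (157, 1), (158, 1), (171, 1), (172, 1), (173, 1), (183, 1), (186, 1), (187, 1), (188, 1), (190, 1), (201, 1), (202, 1), (207, 1), (213, 1), (216, 1), (217, 1), (218, 1), (220, 1), (224, 1)]),
   (true, [(158, 1), (173, 1), (183, 1), (186, 1), (188, 1), (203, 1), (206, 1), (207, 1), (208, 1), (213, 1), (216, 1), (218, 1)]),
   (true, [(143, 1), (159, 1), (171, 1), (173, 1), (174, 1), (175, 1), (183, 1), (188, 1), (189, 1), (190, 1), (191, 1), (198, 1), (203, 1), (204, 1), (206, 1), (213, 1), (216, 1), (218, 1), (219, 1), (220, 1), (221, 1), (222, 1)]),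
   (true, [(158, 1), (175, 1), (183, 1), (186, 1), (190, 1), (198, 1), (201, 1), (206, 1), (207, 1), (216, 1), (218, 1), (221, 1)]),
   (true, [(173, 1), (175, 1), (191, 1), (201, 1), (203, 1), (205, 1), (207, 1), (213, 1), (216, 1), (221, 1)]),
   (true, [(188, 1), (190, 1), (191, 1), (201, 1), (203, 1), (205, 1), (206, 1), (222, 1), (223, 1)]),
   (true, [(203, 1), (205, 1), (206, 1), (207, 1), (223, 1)]),
   (true, [(218, 1), (220, 1), (221, 1), (222, 1), (223, 1)]),
   (true, [(127, 1), (153, 1), (157, 1), (160, 1), (168, 1), (175, 1), (176, 1), (183, 1), (187, 1), (198, 1), (208, 1), (213, 1), (223, 1), (224, 1)]),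
   (true, [(157, 1), (160, 1), (172, 1), (175, 1), (176, 1), (187, 1), (190, 1), (191, 1), (192, 1), (202, 1), (205, 1), (206, 1), (207, 1), (208, 1), (213, 1), (217, 1), (220, 1), (222, 1), (223, 1)]),
   (true, [(158, 1), (173, 1), (183, 1), (187, 1), (188, 1), (198, 1), (203, 1), (205, 1), (207, 1), (208, 1), (213, 1), (217, 1), (218, 1)]),
   (true, [(159, 1), (172, 1), (174, 1), (175, 1), (189, 1), (191, 1), (204, 1), (206, 1), (213, 1), (217, 1), (219, 1), (220, 1), (221, 1)]),
   (true, [(175, 1), (187, 1), (191, 1), (202, 1), (206, 1), (213, 1), (217, 1), (220, 1)]),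
   (true, [(175, 1), (191, 1), (202, 1), (205, 1), (207, 1), (213, 1), (217, 1), (221, 1)]),
   (true, [(190, 1), (191, 1), (202, 1), (205, 1), (206, 1), (222, 1), (223, 1)]),
   (true, [(205, 1), (206, 1), (207, 1), (223, 1)]),
   (true, [(220, 1), (221, 1), (222, 1), (223, 1)]),
   (true, [(158, 1), (183, 1), (188, 1), (192, 1), (207, 1), (208, 1), (213, 1), (222, 1), (223, 1), (224, 1)]),
   (true, [(188, 1), (192, 1), (198, 1), (218, 1), (222, 1), (224, 1)]),
   (true, [(173, 1), (189, 1), (191, 1), (198, 1), (206, 1), (207, 1), (218, 1), (219, 1), (221, 1), (222, 1)]),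
   (true, [(188, 1), (190, 1), (198, 1), (203, 1), (207, 1), (218, 1), (220, 1), (223, 1)]),
   (true, [(191, 1), (203, 1), (207, 1), (218, 1), (221, 1), (222, 1), (223, 1)]),
   (true, [(203, 1), (207, 1), (222, 1), (223, 1)]),
   (true, [(207, 1), (223, 1)]),
   (true, [(222, 1)]),
   (true, [(143, 1), (159, 1), (168, 1), (176, 1), (189, 1), (205, 1), (207, 1), (213, 1), (221, 1), (222, 1)]),
   (true, [(174, 1), (176, 1), (219, 1), (221, 1), (224, 1)]),
   (true, [(175, 1), (189, 1), (191, 1), (204, 1), (206, 1), (213, 1), (219, 1), (220, 1)]),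
   (true, [(204, 1), (206, 1), (219, 1), (223, 1)]),
   (true, [(191, 1), (204, 1), (206, 1), (222, 1), (223, 1)]),
   (true, [(206, 1), (223, 1)]),
   (true, [(221, 1)]),
   (true, [(158, 1), (183, 1), (190, 1), (192, 1), (198, 1), (205, 1), (208, 1), (213, 1), (222, 1), (224, 1)]),
   (true, [(190, 1), (192, 1), (205, 1), (207, 1), (208, 1), (220, 1), (222, 1), (223, 1), (224, 1)]),
   (true, [(191, 1), (205, 1), (206, 1), (207, 1), (220, 1), (221, 1), (222, 1)]),
   (true, [(205, 1), (222, 1), (223, 1)]),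
   (true, [(207, 1), (223, 1)]),
   (true, [(222, 1), (223, 1)]),
   (true, [(173, 1), (175, 1), (191, 1), (198, 1), (208, 1), (213, 1), (223, 1), (224, 1)]),
   (true, [(206, 1), (208, 1), (221, 1), (223, 1), (224, 1)]),
   (true, [(206, 1), (207, 1), (222, 1), (223, 1)]),
   (true, [(223, 1)]),
   (true, [(223, 1)]),
   (true, [(188, 1), (190, 1), (198, 1), (208, 1)]),
   (true, [(207, 1), (208, 1)]),
   (true, [(223, 1)]),
   (true, [(203, 1), (205, 1), (207, 1)]),
   (true, [(218, 1), (220, 1), (222, 1)]),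
   (true, [(154, 1), (184, 1), (222, 1), (224, 1)]),
   (true, [(139, 1), (144, 1), (155, 1), (184, 1), (185, 1), (189, 1), (199, 1), (204, 1), (208, 1), (219, 1), (223, 1)]),
   (true, [(140, 1), (144, 1), (185, 1), (189, 1), (192, 1), (200, 1), (204, 1), (207, 1), (208, 1), (214, 1)]),
   (true, [(140, 1), (141, 1), (155, 1), (159, 1), (170, 1), (174, 1), (185, 1), (186, 1), (191, 1), (199, 1), (200, 1), (201, 1), (205, 1), (206, 1), (207, 1), (215, 1), (220, 1), (221, 1), (224, 1)]),
   (true, [(142, 1), (184, 1), (185, 1), (187, 1), (200, 1), (202, 1), (204, 1), (214, 1), (219, 1), (222, 1), (224, 1)]),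
   (true, [(143, 1), (170, 1), (174, 1), (184, 1), (185, 1), (188, 1), (203, 1), (204, 1), (207, 1), (214, 1), (215, 1), (219, 1), (221, 1)]),
   (true, [(185, 1), (204, 1), (207, 1)]),
   (true, [(159, 1), (184, 1), (189, 1), (190, 1), (205, 1), (207, 1), (214, 1), (215, 1), (222, 1), (223, 1)]),
   (true, [(174, 1), (191, 1), (199, 1), (200, 1), (206, 1), (214, 1), (215, 1)]),
   (true, [(189, 1), (207, 1), (215, 1), (219, 1), (222, 1), (223, 1)]),
   (true, [(204, 1), (207, 1)]),
   (true, [(219, 1), (222, 1), (223, 1)]),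
   (true, [(139, 1), (144, 1), (154, 1), (156, 1), (159, 1), (160, 1), (169, 1), (174, 1), (175, 1), (176, 1), (184, 1), (186, 1), (189, 1), (199, 1), (204, 1), (205, 1), (206, 1), (207, 1), (214, 1), (220, 1), (222, 1), (224, 1)]),
   (true, [(141, 1), (144, 1), (156, 1), (159, 1), (160, 1), (171, 1), (174, 1), (175, 1), (176, 1), (184, 1), (186, 1), (189, 1), (191, 1), (201, 1), (204, 1), (206, 1), (216, 1), (219, 1), (220, 1), (222, 1)]),
   (true, [(142, 1), (157, 1), (172, 1), (184, 1), (186, 1), (187, 1), (201, 1), (202, 1), (204, 1), (205, 1), (206, 1), (214, 1), (217, 1), (219, 1), (221, 1), (222, 1), (223, 1)]),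
   (true, [(143, 1), (158, 1), (171, 1), (173, 1), (174, 1), (175, 1), (184, 1), (186, 1), (188, 1), (203, 1), (205, 1), (206, 1), (208, 1), (214, 1), (216, 1), (218, 1), (219, 1), (220, 1), (221, 1), (223, 1)]),
   (true, [(159, 1), (174, 1), (184, 1), (186, 1), (189, 1), (199, 1), (205, 1), (206, 1), (214, 1), (220, 1), (222, 1), (223, 1), (224, 1)]),
   (true, [(159, 1), (175, 1), (184, 1), (189, 1), (191, 1), (199, 1), (204, 1), (206, 1), (216, 1), (219, 1), (220, 1), (222, 1)]),
   (true, [(174, 1), (175, 1), (191, 1), (201, 1), (204, 1), (205, 1), (207, 1), (214, 1), (216, 1), (221, 1)]),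
   (true, [(189, 1), (190, 1), (191, 1), (207, 1), (216, 1), (219, 1), (220, 1), (221, 1), (223, 1)]),
   (true, [(204, 1), (205, 1), (206, 1), (207, 1), (223, 1)]),
   (true, [(219, 1), (220, 1), (221, 1), (222, 1), (223, 1)]),
   (true, [(157, 1), (184, 1), (187, 1), (192, 1), (199, 1), (207, 1), (208, 1), (222, 1), (223, 1), (224, 1)]),
   (true, [(187, 1), (192, 1), (202, 1), (207, 1), (208, 1), (214, 1)]),
   (true, [(172, 1), (184, 1), (187, 1), (188, 1), (199, 1), (203, 1), (214, 1), (217, 1), (221, 1), (223, 1)])]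

/-- Equations. -/
def th2E0_5 : List (Bool × Cfsg.Lib.Schur.Prime.Form) :=
  [(true, [(187, 1), (189, 1), (204, 1), (207, 1), (214, 1), (223, 1)]),
   (true, [(190, 1), (205, 1), (214, 1), (217, 1)]),
   (true, [(191, 1), (202, 1), (206, 1), (207, 1), (214, 1), (217, 1), (223, 1)]),
   (true, [(207, 1), (217, 1), (222, 1), (223, 1)]),
   (true, [(207, 1)]),
   (true, [(222, 1), (223, 1)]),
   (true, [(158, 1), (169, 1), (176, 1), (184, 1), (188, 1), (191, 1), (192, 1), (208, 1), (214, 1), (221, 1), (223, 1)]),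
   (true, [(173, 1), (176, 1), (188, 1), (191, 1), (192, 1), (199, 1), (218, 1), (221, 1), (222, 1), (224, 1)]),
   (true, [(174, 1), (188, 1), (189, 1), (191, 1), (199, 1), (206, 1), (219, 1), (222, 1), (223, 1)]),
   (true, [(175, 1), (190, 1), (199, 1), (206, 1), (207, 1), (218, 1), (220, 1), (221, 1), (222, 1)]),
   (true, [(191, 1), (203, 1), (206, 1), (207, 1), (218, 1), (222, 1), (223, 1)]),
   (true, [(191, 1), (218, 1), (221, 1)]),
   (true, [(206, 1), (207, 1), (223, 1)]),
   (true, [(221, 1), (222, 1)]),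
   (true, [(159, 1), (184, 1), (189, 1), (192, 1), (222, 1), (224, 1)]),
   (true, [(189, 1), (192, 1)]),
   (true, [(190, 1), (214, 1), (219, 1)]),
   (true, [(191, 1), (204, 1), (207, 1), (219, 1), (222, 1)]),
   (true, [(219, 1), (222, 1)]),
   (true, [(207, 1)]),
   (true, [(222, 1)]),
   (true, [(190, 1), (214, 1), (224, 1)]),
   (true, [(220, 1), (224, 1)]),
   (true, [(205, 1), (220, 1), (221, 1), (223, 1)]),
   (true, [(220, 1), (222, 1)]),
   (true, [(223, 1)]),
   (true, [(175, 1), (191, 1), (199, 1), (208, 1), (214, 1), (223, 1), (224, 1)]),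
   (true, [(206, 1), (208, 1), (221, 1), (223, 1), (224, 1)]),
   (true, [(207, 1), (221, 1), (222, 1), (223, 1)]),
   (true, [(223, 1)]),
   (true, [(223, 1)]),
   (true, [(190, 1), (214, 1), (224, 1)]),
   (true, [(222, 1), (224, 1)]),
   (true, [(223, 1)]),
   (true, [(205, 1), (207, 1)]),
   (true, [(220, 1), (222, 1)]),
   (true, [(215, 1)]),
   (true, [(200, 1), (208, 1), (216, 1)]),
   (true, [(185, 1), (201, 1), (208, 1)]),
   (true, [(185, 1), (186, 1), (202, 1), (215, 1), (216, 1)]),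
   (true, [(185, 1), (186, 1), (203, 1), (215, 1), (216, 1)]),
   (true, [(185, 1), (200, 1), (204, 1), (207, 1), (215, 1), (223, 1)]),
   (true, [(185, 1), (186, 1), (200, 1), (205, 1), (207, 1), (216, 1), (222, 1)]),
   (true, [(201, 1), (206, 1), (215, 1), (216, 1), (223, 1)]),
   (true, [(207, 1)]),
   (true, [(223, 1)]),
   (true, [(185, 1), (192, 1), (215, 1), (217, 1), (222, 1), (224, 1)]),
   (true, [(187, 1), (192, 1), (215, 1), (217, 1), (222, 1), (224, 1)]),
   (true, [(185, 1), (187, 1), (188, 1), (200, 1), (215, 1), (217, 1), (218, 1)]),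
   (true, [(189, 1), (215, 1), (219, 1), (222, 1)]),
   (true, [(187, 1), (190, 1), (215, 1), (217, 1), (220, 1)]),
   (true, [(191, 1), (202, 1), (207, 1), (215, 1), (217, 1), (221, 1)]),
   (true, [(222, 1)]),
   (true, [(207, 1), (223, 1)]),
   (true, [(222, 1)]),
   (true, [(185, 1), (192, 1), (215, 1), (218, 1), (222, 1), (224, 1)]),
   (true, [(188, 1), (192, 1), (200, 1), (218, 1), (222, 1), (224, 1)]),
   (true, [(189, 1), (200, 1), (207, 1), (219, 1), (223, 1)]),
   (true, [(188, 1), (190, 1), (200, 1), (218, 1), (220, 1)]),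
   (true, [(191, 1), (203, 1), (207, 1), (218, 1), (221, 1), (222, 1), (223, 1)]),
   (true, [(222, 1)]),
   (true, [(207, 1), (223, 1)]),
   (true, [(222, 1)]),
   (true, [(219, 1)]),
   (true, [(189, 1), (215, 1), (219, 1), (222, 1)]),
   (true, [(204, 1), (219, 1)]),
   (true, [(185, 1), (192, 1), (215, 1), (220, 1), (222, 1), (224, 1)]),
   (true, [(190, 1), (192, 1), (220, 1), (222, 1), (224, 1)]),
   (true, [(191, 1), (205, 1), (207, 1), (220, 1), (221, 1), (222, 1), (223, 1)]),
   (true, [(222, 1)]),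
   (true, [(207, 1), (223, 1)]),
   (true, [(222, 1)]),
   (true, [(200, 1), (208, 1), (215, 1), (221, 1), (223, 1), (224, 1)]),
   (true, [(206, 1), (208, 1), (221, 1), (223, 1), (224, 1)]),
   (true, [(207, 1), (222, 1)]),
   (true, [(223, 1)]),
   (true, [(223, 1)]),
   (true, [(222, 1)]),
   (true, [(223, 1)]),
   (true, [(186, 1)])]

/-- Equations. -/
def th2E0_6 : List (Bool × Cfsg.Lib.Schur.Prime.Form) :=
  [(true, [(186, 1), (187, 1), (192, 1), (216, 1), (222, 1), (224, 1)]),
   (true, [(187, 1), (192, 1), (216, 1), (217, 1), (222, 1), (224, 1)]),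
   (true, [(186, 1), (187, 1), (188, 1), (201, 1), (216, 1), (217, 1), (218, 1)]),
   (true, [(187, 1), (189, 1), (202, 1), (207, 1), (216, 1), (217, 1), (219, 1)]),
   (true, [(187, 1), (190, 1), (202, 1), (207, 1), (216, 1), (220, 1), (222, 1)]),
   (true, [(191, 1), (216, 1), (217, 1), (221, 1)]),
   (true, [(222, 1)]),
   (true, [(207, 1), (223, 1)]),
   (true, [(222, 1)]),
   (true, [(186, 1), (188, 1), (192, 1), (216, 1), (222, 1), (224, 1)]),
   (true, [(188, 1), (192, 1), (201, 1), (218, 1), (222, 1), (224, 1)]),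
   (true, [(188, 1), (189, 1), (201, 1), (203, 1), (207, 1), (218, 1), (219, 1), (223, 1)]),
   (true, [(188, 1), (190, 1), (201, 1), (203, 1), (207, 1), (220, 1), (222, 1)]),
   (true, [(191, 1), (218, 1), (221, 1), (222, 1)]),
   (true, [(222, 1)]),
   (true, [(207, 1), (223, 1)]),
   (true, [(222, 1)]),
   (true, [(186, 1), (189, 1), (192, 1), (201, 1), (207, 1), (208, 1), (216, 1), (222, 1), (223, 1), (224, 1)]),
   (true, [(189, 1), (192, 1), (204, 1), (207, 1), (208, 1), (219, 1), (222, 1), (223, 1), (224, 1)]),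
   (true, [(189, 1), (190, 1), (204, 1), (205, 1), (216, 1), (220, 1), (222, 1), (223, 1)]),
   (true, [(191, 1), (206, 1), (219, 1), (221, 1), (222, 1), (223, 1)]),
   (true, [(207, 1), (222, 1)]),
   (true, [(207, 1), (223, 1)]),
   (true, [(222, 1), (223, 1)]),
   (true, [(186, 1), (190, 1), (192, 1), (201, 1), (207, 1), (208, 1)]),
   (true, [(190, 1), (192, 1), (205, 1), (207, 1), (208, 1)]),
   (true, [(191, 1), (206, 1), (220, 1), (222, 1), (223, 1)]),
   (true, [(207, 1)]),
   (true, [(207, 1)]),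
   (true, [(222, 1), (223, 1)]),
   (true, [(191, 1), (216, 1), (224, 1)]),
   (true, [(221, 1), (224, 1)]),
   (true, [(222, 1)]),
   (true, [(223, 1)]),
   (true, [(207, 1)]),
   (true, [(222, 1)]),
   (true, [(217, 1)]),
   (true, [(187, 1), (192, 1), (202, 1), (207, 1), (208, 1), (217, 1), (218, 1), (222, 1), (223, 1), (224, 1)]),
   (true, [(188, 1), (192, 1), (202, 1), (203, 1), (207, 1), (208, 1), (218, 1), (222, 1), (223, 1), (224, 1)]),
   (true, [(189, 1), (202, 1), (204, 1), (207, 1), (218, 1), (219, 1), (222, 1), (223, 1)]),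
   (true, [(190, 1), (202, 1), (205, 1), (207, 1), (218, 1), (220, 1), (222, 1), (223, 1)]),
   (true, [(191, 1), (206, 1), (218, 1), (221, 1), (222, 1), (223, 1)]),
   (true, [(207, 1), (222, 1)]),
   (true, [(207, 1), (223, 1)]),
   (true, [(222, 1), (223, 1)]),
   (true, [(217, 1), (219, 1), (224, 1)]),
   (true, [(219, 1), (224, 1)]),
   (true, [(217, 1), (219, 1), (220, 1)]),
   (true, [(219, 1), (221, 1)]),
   (true, [(222, 1)]),
   (true, [(223, 1)]),
   (true, [(217, 1), (220, 1), (224, 1)]),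
   (true, [(220, 1), (224, 1)]),
   (true, [(220, 1), (221, 1)]),
   (true, [(222, 1)]),
   (true, [(223, 1)]),
   (true, [(217, 1), (221, 1), (224, 1)]),
   (true, [(221, 1), (224, 1)]),
   (true, [(222, 1)]),
   (true, [(223, 1)]),
   (true, [(222, 1)]),
   (true, [(223, 1)]),
   (true, [(203, 1)]),
   (true, [(203, 1), (204, 1), (208, 1)]),
   (true, [(204, 1), (208, 1)]),
   (true, [(204, 1), (205, 1), (218, 1)]),
   (true, [(206, 1)]),
   (true, [(207, 1)]),
   (true, [(223, 1)]),
   (true, [(203, 1), (205, 1), (208, 1)]),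
   (true, [(205, 1), (208, 1)]),
   (true, [(206, 1)]),
   (true, [(207, 1)]),
   (true, [(223, 1)]),
   (true, [(206, 1)]),
   (true, [(207, 1)]),
   (true, [(223, 1)]),
   (true, [(219, 1), (224, 1)]),
   (true, [(220, 1), (224, 1)]),
   (true, [(221, 1)])]

/-- Equations. -/
def th2E0_7 : List (Bool × Cfsg.Lib.Schur.Prime.Form) :=
  [(true, [(222, 1)]),
   (true, [(223, 1)])]

/-- Equations. -/
def th2E0 : List (Bool × Cfsg.Lib.Schur.Prime.Form) :=
  th2E0_0 ++ th2E0_1 ++ th2E0_2 ++ th2E0_3 ++ th2E0_4 ++ th2E0_5 ++ th2E0_6 ++ th2E0_7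

/-- Equations. -/
def th2E1_0 : List (Bool × Cfsg.Lib.Schur.Prime.Form) :=
  [(true, [(0, 1), (45, 1), (48, 1), (63, 1), (64, 1), (78, 1), (79, 1), (80, 1), (93, 1), (94, 1), (95, 1), (96, 1), (112, 1), (123, 1), (126, 1), (138, 1), (140, 1), (142, 1), (144, 1), (156, 1), (157, 1), (160, 1), (170, 1), (171, 1), (173, 1), (174, 1), (175, 1), (188, 1), (192, 1), (199, 1), (201, 1), (204, 1), (205, 1), (214, 1), (215, 1), (219, 1), (221, 1), (222, 1)]),
   (true, [(31, 1), (32, 1), (46, 1), (48, 1), (78, 1), (91, 1), (92, 1), (95, 1), (96, 1), (106, 1), (110, 1), (122, 1), (123, 1), (125, 1), (137, 1), (138, 1), (141, 1), (142, 1), (143, 1), (151, 1), (152, 1), (153, 1), (156, 1), (158, 1), (159, 1), (166, 1), (167, 1), (168, 1), (171, 1), (172, 1), (173, 1), (175, 1), (182, 1), (187, 1), (188, 1), (190, 1), (197, 1), (200, 1), (201, 1), (204, 1), (207, 1), (208, 1), (212, 1), (213, 1), (220, 1), (221, 1), (223, 1)]),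
   (true, [(0, 1), (15, 1), (46, 1), (48, 1), (61, 1), (62, 1), (76, 1), (77, 1), (78, 1), (79, 1), (80, 1), (90, 1), (91, 1), (92, 1), (94, 1), (95, 1), (96, 1), (105, 1), (106, 1), (108, 1), (111, 1), (112, 1), (123, 1), (124, 1), (125, 1), (137, 1), (138, 1), (139, 1), (141, 1), (143, 1), (150, 1), (156, 1), (157, 1), (158, 1), (160, 1), (167, 1), (170, 1), (171, 1), (173, 1), (174, 1), (175, 1), (176, 1), (181, 1), (185, 1), (187, 1), (190, 1), (192, 1), (197, 1), (199, 1), (200, 1), (201, 1), (204, 1), (208, 1), (210, 1), (212, 1), (213, 1), (215, 1), (216, 1), (218, 1), (223, 1), (224, 1), (229, 1), (230, 1), (231, 1), (232, 1), (235, 1)]),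
   (true, [(16, 1), (31, 1), (32, 1), (61, 1), (62, 1), (76, 1), (77, 1), (79, 1), (92, 1), (96, 1), (106, 1), (107, 1), (109, 1), (110, 1), (112, 1), (121, 1), (122, 1), (124, 1), (125, 1), (127, 1), (128, 1), (137, 1), (142, 1), (144, 1), (156, 1), (157, 1), (159, 1), (170, 1), (171, 1), (173, 1), (175, 1), (181, 1), (184, 1), (185, 1), (188, 1), (189, 1), (191, 1), (192, 1), (197, 1), (199, 1), (201, 1), (202, 1), (204, 1), (205, 1), (211, 1), (214, 1), (215, 1), (216, 1), (217, 1), (218, 1), (219, 1), (224, 1), (231, 1), (233, 1)]),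
   (true, [(0, 1), (45, 1), (48, 1), (60, 1), (61, 1), (62, 1), (64, 1), (76, 1), (77, 1), (78, 1), (79, 1), (80, 1), (91, 1), (92, 1), (93, 1), (94, 1), (95, 1), (96, 1), (105, 1), (106, 1), (111, 1), (112, 1), (123, 1), (128, 1), (137, 1), (138, 1), (139, 1), (143, 1), (150, 1), (153, 1), (155, 1), (156, 1), (157, 1), (159, 1), (165, 1), (167, 1), (169, 1), (170, 1), (172, 1), (181, 1), (186, 1), (187, 1), (190, 1), (192, 1), (197, 1), (198, 1), (200, 1), (201, 1), (202, 1), (207, 1), (208, 1), (210, 1), (212, 1), (218, 1), (219, 1), (221, 1), (223, 1), (224, 1), (229, 1), (230, 1), (232, 1), (234, 1), (235, 1)]),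
   (true, [(0, 1), (45, 1), (48, 1), (62, 1), (64, 1), (76, 1), (77, 1), (78, 1), (79, 1), (80, 1), (93, 1), (95, 1), (96, 1), (105, 1), (107, 1), (109, 1), (111, 1), (121, 1), (123, 1), (126, 1), (127, 1), (128, 1), (139, 1), (142, 1), (143, 1), (144, 1), (151, 1), (152, 1), (155, 1), (158, 1), (159, 1), (160, 1), (166, 1), (167, 1), (170, 1), (171, 1), (173, 1), (175, 1), (176, 1), (180, 1), (181, 1), (182, 1), (184, 1), (185, 1), (186, 1), (188, 1), (191, 1), (192, 1), (200, 1), (202, 1), (203, 1), (204, 1), (207, 1), (208, 1), (211, 1), (212, 1), (213, 1), (216, 1), (217, 1), (218, 1), (220, 1), (221, 1), (223, 1), (229, 1), (230, 1), (232, 1), (234, 1), (235, 1)]),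
   (true, [(0, 1), (15, 1), (16, 1), (30, 1), (31, 1), (32, 1), (45, 1), (46, 1), (47, 1), (48, 1), (61, 1), (63, 1), (76, 1), (78, 1), (79, 1), (90, 1), (94, 1), (96, 1), (105, 1), (106, 1), (108, 1), (109, 1), (110, 1), (111, 1), (112, 1), (125, 1), (128, 1), (135, 1), (138, 1), (139, 1), (140, 1), (141, 1), (142, 1), (150, 1), (153, 1), (154, 1), (156, 1), (158, 1), (160, 1), (166, 1), (167, 1), (171, 1), (172, 1), (174, 1), (176, 1), (180, 1), (181, 1), (183, 1), (187, 1), (188, 1), (189, 1), (191, 1), (192, 1), (195, 1), (197, 1), (200, 1), (201, 1), (205, 1), (208, 1), (211, 1), (219, 1), (221, 1), (222, 1), (223, 1), (224, 1), (233, 1), (235, 1)]),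
   (true, [(0, 1), (45, 1), (48, 1), (61, 1), (62, 1), (63, 1), (64, 1), (75, 1), (76, 1), (77, 1), (79, 1), (80, 1), (90, 1), (91, 1), (92, 1), (94, 1), (95, 1), (96, 1), (106, 1), (108, 1), (109, 1), (110, 1), (111, 1), (112, 1), (120, 1), (128, 1), (135, 1), (137, 1), (139, 1), (142, 1), (151, 1), (152, 1), (153, 1), (155, 1), (156, 1), (158, 1), (160, 1), (165, 1), (167, 1), (168, 1), (173, 1), (176, 1), (180, 1), (182, 1), (183, 1), (186, 1), (190, 1), (192, 1), (195, 1), (199, 1), (200, 1), (201, 1), (202, 1), (203, 1), (205, 1), (207, 1), (208, 1), (215, 1), (218, 1), (219, 1), (221, 1), (222, 1), (224, 1), (229, 1), (230, 1), (232, 1), (234, 1)]),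
   (true, [(15, 1), (30, 1), (46, 1), (47, 1), (62, 1), (64, 1), (76, 1), (77, 1), (78, 1), (80, 1), (93, 1), (95, 1), (96, 1), (105, 1), (107, 1), (108, 1), (110, 1), (112, 1), (121, 1), (122, 1), (123, 1), (127, 1), (128, 1), (136, 1), (137, 1), (138, 1), (143, 1), (144, 1), (150, 1), (152, 1), (154, 1), (156, 1), (157, 1), (159, 1), (165, 1), (166, 1), (168, 1), (172, 1), (175, 1), (181, 1), (183, 1), (185, 1), (190, 1), (191, 1), (196, 1), (197, 1), (198, 1), (199, 1), (200, 1), (201, 1), (203, 1), (204, 1), (212, 1), (215, 1), (217, 1), (220, 1), (221, 1), (222, 1), (223, 1), (235, 1)]),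
   (true, [(15, 1), (30, 1), (46, 1), (47, 1), (60, 1), (61, 1), (63, 1), (64, 1), (75, 1), (76, 1), (78, 1), (79, 1), (80, 1), (91, 1), (95, 1), (96, 1), (105, 1), (108, 1), (109, 1), (112, 1), (120, 1), (124, 1), (128, 1), (138, 1), (142, 1), (143, 1), (151, 1), (154, 1), (155, 1), (156, 1), (157, 1), (158, 1), (159, 1), (160, 1), (168, 1), (169, 1), (171, 1), (172, 1), (174, 1), (176, 1), (180, 1), (182, 1), (183, 1), (185, 1), (190, 1), (191, 1), (192, 1), (196, 1), (200, 1), (201, 1), (207, 1), (208, 1), (210, 1), (212, 1), (213, 1), (217, 1), (219, 1), (222, 1), (224, 1), (231, 1), (235, 1)]),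
   (true, [(0, 1), (45, 1), (48, 1), (63, 1), (64, 1), (78, 1), (79, 1), (80, 1), (93, 1), (94, 1), (95, 1), (96, 1), (105, 1), (108, 1), (123, 1), (126, 1), (138, 1), (140, 1), (153, 1), (156, 1), (158, 1), (159, 1), (160, 1), (165, 1), (170, 1), (171, 1), (172, 1), (174, 1), (175, 1), (183, 1), (188, 1), (195, 1), (199, 1), (201, 1), (202, 1), (204, 1), (213, 1), (214, 1), (215, 1), (217, 1), (218, 1), (219, 1), (220, 1), (222, 1), (223, 1), (235, 1)]),
   (true, [(135, 1), (138, 1), (142, 1), (150, 1), (153, 1), (157, 1), (168, 1), (172, 1), (174, 1), (176, 1), (183, 1), (189, 1), (190, 1), (191, 1), (198, 1), (202, 1), (204, 1), (213, 1), (217, 1), (219, 1), (220, 1), (221, 1), (222, 1), (223, 1), (224, 1)]),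
   (true, [(15, 1), (30, 1), (46, 1), (47, 1), (62, 1), (64, 1), (77, 1), (80, 1), (92, 1), (95, 1), (96, 1), (105, 1), (111, 1), (112, 1), (122, 1), (125, 1), (126, 1), (127, 1), (141, 1), (142, 1), (144, 1), (150, 1), (152, 1), (154, 1), (157, 1), (158, 1), (160, 1), (165, 1), (166, 1), (170, 1), (171, 1), (173, 1), (183, 1), (185, 1), (186, 1), (187, 1), (192, 1), (196, 1), (198, 1), (199, 1), (202, 1), (203, 1), (207, 1), (208, 1), (212, 1), (217, 1), (222, 1), (234, 1)]),
   (true, [(15, 1), (30, 1), (46, 1), (47, 1), (60, 1), (62, 1), (63, 1), (64, 1), (75, 1), (77, 1), (78, 1), (80, 1), (92, 1), (95, 1), (96, 1), (105, 1), (106, 1), (108, 1), (120, 1), (122, 1), (125, 1), (126, 1), (128, 1), (138, 1), (140, 1), (141, 1), (143, 1), (152, 1), (154, 1), (155, 1), (157, 1), (158, 1), (166, 1), (170, 1), (171, 1), (172, 1), (176, 1), (180, 1), (183, 1), (184, 1), (188, 1), (189, 1), (190, 1), (196, 1), (201, 1), (202, 1), (204, 1), (206, 1), (208, 1), (210, 1), (212, 1), (214,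 1), (216, 1), (219, 1), (220, 1), (221, 1), (223, 1), (233, 1), (234, 1)]),
   (true, [(15, 1), (30, 1), (46, 1), (47, 1), (61, 1), (64, 1), (76, 1), (80, 1), (90, 1), (91, 1), (93, 1), (95, 1), (96, 1), (106, 1), (107, 1), (109, 1), (111, 1), (112, 1), (121, 1), (123, 1), (125, 1), (127, 1), (135, 1), (136, 1), (138, 1), (139, 1), (140, 1), (141, 1), (150, 1), (151, 1), (152, 1), (153, 1), (154, 1), (155, 1), (165, 1), (174, 1), (175, 1), (176, 1), (180, 1), (181, 1), (183, 1), (185, 1), (186, 1), (187, 1), (192, 1), (199, 1), (200, 1), (204, 1), (205, 1), (206, 1), (211, 1), (213, 1), (214, 1), (216, 1), (217, 1), (218, 1), (219, 1), (221, 1), (233, 1), (234, 1), (235, 1)]),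
   (true, [(0, 1), (45, 1), (48, 1), (63, 1), (64, 1), (78, 1), (79, 1), (80, 1), (93, 1), (94, 1), (95, 1), (96, 1), (105, 1), (108, 1), (112, 1), (123, 1), (126, 1), (135, 1), (140, 1), (142, 1), (153, 1), (156, 1), (158, 1), (159, 1), (160, 1), (165, 1), (168, 1), (170, 1), (171, 1), (172, 1), (175, 1), (176, 1), (183, 1), (188, 1), (195, 1), (198, 1), (199, 1), (201, 1), (202, 1), (204, 1), (206, 1), (208, 1), (210, 1), (214, 1), (215, 1), (218, 1), (220, 1), (221, 1), (222, 1), (224, 1)]),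
   (true, [(105, 1), (108, 1), (150, 1), (157, 1), (159, 1), (160, 1), (168, 1), (172, 1), (174, 1), (175, 1), (176, 1), (183, 1), (189, 1), (191, 1), (192, 1), (198, 1), (202, 1), (204, 1), (205, 1), (207, 1), (208, 1)]),
   (true, [(15, 1), (30, 1), (46, 1), (47, 1), (62, 1), (64, 1), (77, 1), (80, 1), (92, 1), (95, 1), (96, 1), (105, 1), (106, 1), (108, 1), (112, 1), (122, 1), (125, 1), (126, 1), (127, 1), (137, 1), (138, 1), (144, 1), (150, 1), (152, 1), (153, 1), (154, 1), (157, 1), (158, 1), (159, 1), (165, 1), (166, 1), (167, 1), (170, 1), (171, 1), (172, 1), (173, 1), (174, 1), (185, 1), (191, 1), (192, 1), (196, 1), (197, 1), (198, 1), (199, 1), (201, 1), (202, 1), (203, 1), (205, 1), (207, 1), (208, 1), (211, 1), (212, 1), (216, 1), (220, 1), (221, 1), (223, 1), (224, 1), (233, 1), (234, 1), (235, 1)]),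
   (true, [(15, 1), (30, 1), (46, 1), (47, 1), (60, 1), (62, 1), (63, 1), (64, 1), (75, 1), (77, 1), (78, 1), (80, 1), (92, 1), (95, 1), (96, 1), (105, 1), (106, 1), (108, 1), (109, 1), (120, 1), (122, 1), (125, 1), (126, 1), (128, 1), (136, 1), (137, 1), (138, 1), (141, 1), (142, 1), (152, 1), (154, 1), (155, 1), (157, 1), (158, 1), (166, 1), (167, 1), (169, 1), (171, 1), (173, 1), (174, 1), (180, 1), (183, 1), (188, 1), (192, 1), (196, 1), (197, 1), (200, 1), (201, 1), (202, 1), (205, 1), (206, 1), (207, 1), (210, 1), (211, 1), (212, 1), (215, 1), (216, 1), (219, 1), (221, 1), (222, 1), (223, 1), (233, 1)]),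
   (true, [(15, 1), (30, 1), (46, 1), (47, 1), (61, 1), (64, 1), (76, 1), (80, 1), (90, 1), (91, 1), (93, 1), (95, 1), (96, 1), (106, 1), (107, 1), (109, 1), (110, 1), (112, 1), (121, 1), (123, 1), (125, 1), (137, 1), (139, 1), (141, 1), (142, 1), (143, 1), (150, 1), (151, 1), (152, 1), (153, 1), (154, 1), (155, 1), (159, 1), (165, 1), (166, 1), (171, 1), (172, 1), (174, 1), (175, 1), (176, 1), (180, 1), (181, 1), (182, 1), (185, 1), (186, 1), (187, 1), (188, 1), (190, 1), (191, 1), (196, 1), (198, 1), (199, 1), (200, 1), (202, 1), (203, 1), (204, 1), (205, 1), (206, 1), (207, 1), (210, 1), (213, 1), (214, 1), (216, 1), (223, 1), (224, 1), (233, 1), (235, 1)]),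
   (true, [(135, 1), (138, 1), (168, 1), (174, 1), (176, 1), (198, 1), (206, 1), (208, 1), (210, 1), (213, 1), (217, 1), (219, 1), (221, 1), (223, 1), (224, 1), (235, 1)]),
   (true, [(160, 1), (176, 1), (191, 1), (192, 1), (206, 1), (207, 1), (208, 1)]),
   (true, [(150, 1), (153, 1), (172, 1), (174, 1), (175, 1), (183, 1), (187, 1), (189, 1), (190, 1), (192, 1), (202, 1), (204, 1), (205, 1), (207, 1), (208, 1), (219, 1), (220, 1), (235, 1)]),
   (true, [(151, 1), (153, 1), (156, 1), (166, 1), (167, 1), (172, 1), (175, 1), (181, 1), (186, 1), (187, 1), (190, 1), (191, 1), (196, 1), (201, 1), (202, 1), (205, 1), (206, 1), (207, 1), (213, 1), (217, 1), (222, 1), (223, 1)]),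
   (true, [(154, 1), (166, 1), (167, 1), (169, 1), (170, 1), (172, 1), (173, 1), (181, 1), (184, 1), (185, 1), (187, 1), (188, 1), (191, 1), (192, 1), (196, 1), (199, 1), (202, 1), (203, 1), (207, 1), (214, 1), (215, 1), (218, 1), (221, 1), (222, 1), (235, 1)]),
   (true, [(155, 1), (156, 1), (158, 1), (165, 1), (166, 1), (167, 1), (168, 1), (171, 1), (172, 1), (174, 1), (175, 1), (180, 1), (181, 1), (183, 1), (187, 1), (189, 1), (190, 1), (191, 1), (195, 1), (196, 1), (198, 1), (201, 1), (202, 1), (203, 1), (204, 1), (205, 1), (206, 1), (207, 1), (211, 1), (212, 1), (218, 1), (219, 1), (220, 1), (222, 1), (224, 1), (235, 1)]),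
   (true, [(157, 1), (165, 1), (168, 1), (172, 1), (180, 1), (183, 1), (187, 1), (191, 1), (195, 1), (198, 1), (202, 1), (207, 1), (213, 1), (221, 1), (222, 1), (223, 1), (235, 1)]),
   (true, [(159, 1), (165, 1), (168, 1), (172, 1), (174, 1), (180, 1), (183, 1), (187, 1), (189, 1), (191, 1), (195, 1), (198, 1), (202, 1), (204, 1), (207, 1), (213, 1), (219, 1), (235, 1)]),
   (true, [(160, 1), (176, 1), (190, 1), (192, 1)]),
   (true, [(157, 1), (159, 1), (165, 1), (168, 1), (187, 1), (189, 1), (190, 1), (198, 1), (208, 1), (213, 1), (219, 1), (223, 1)]),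
   (true, [(151, 1), (152, 1), (157, 1), (166, 1), (168, 1), (171, 1), (172, 1), (181, 1), (182, 1), (183, 1), (186, 1), (191, 1), (197, 1), (207, 1), (212, 1), (216, 1), (217, 1), (220, 1), (222, 1), (233, 1)]),
   (true, [(151, 1), (152, 1), (154, 1), (155, 1), (157, 1), (158, 1), (170, 1), (172, 1), (173, 1), (181, 1), (182, 1), (187, 1), (188, 1), (190, 1), (191, 1), (192, 1), (197, 1), (200, 1), (206, 1), (212, 1), (214, 1), (215, 1), (217, 1), (218, 1), (220, 1), (222, 1), (224, 1), (234, 1), (235, 1)]),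
   (true, [(150, 1), (151, 1), (152, 1), (153, 1), (156, 1), (157, 1), (159, 1), (168, 1), (170, 1), (172, 1), (173, 1), (174, 1), (175, 1), (180, 1), (183, 1), (187, 1), (189, 1), (196, 1), (197, 1), (198, 1), (201, 1), (202, 1), (203, 1), (204, 1), (206, 1), (211, 1), (216, 1), (217, 1), (219, 1), (221, 1), (222, 1), (224, 1), (234, 1)]),
   (true, [(150, 1), (153, 1), (157, 1), (172, 1), (175, 1), (180, 1), (187, 1), (191, 1), (192, 1), (198, 1), (205, 1), (207, 1), (208, 1), (213, 1), (221, 1), (222, 1), (224, 1), (235, 1)]),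
   (true, [(150, 1), (153, 1), (157, 1), (159, 1), (174, 1), (175, 1), (180, 1), (187, 1), (189, 1), (191, 1), (192, 1), (198, 1), (205, 1), (207, 1), (208, 1), (213, 1), (219, 1), (220, 1), (222, 1), (223, 1)]),
   (true, [(190, 1), (191, 1), (205, 1), (207, 1)]),
   (true, [(176, 1), (191, 1), (221, 1), (222, 1), (224, 1)]),
   (true, [(172, 1), (174, 1), (175, 1), (180, 1), (183, 1), (187, 1), (189, 1), (190, 1), (198, 1), (208, 1), (213, 1), (217, 1), (222, 1), (235, 1)]),
   (true, [(166, 1), (167, 1), (172, 1), (175, 1), (183, 1), (186, 1), (187, 1), (190, 1), (191, 1), (192, 1), (197, 1), (198, 1), (211, 1), (212, 1), (220, 1), (221, 1), (222, 1), (223, 1), (224, 1)]),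
   (true, [(166, 1), (167, 1), (169, 1), (170, 1), (172, 1), (173, 1), (181, 1), (185, 1), (187, 1), (188, 1), (191, 1), (192, 1), (197, 1), (200, 1), (211, 1), (212, 1), (217, 1), (221, 1), (235, 1)]),
   (true, [(165, 1), (166, 1), (167, 1), (168, 1), (171, 1), (172, 1), (174, 1), (175, 1), (180, 1), (181, 1), (183, 1), (185, 1), (187, 1), (188, 1), (189, 1), (190, 1), (191, 1), (192, 1), (197, 1), (206, 1), (207, 1), (208, 1), (210, 1), (211, 1), (212, 1), (216, 1), (219, 1), (220, 1), (222, 1), (224, 1)]),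
   (true, [(165, 1), (168, 1), (172, 1), (180, 1), (183, 1), (191, 1), (206, 1), (207, 1), (210, 1), (213, 1), (221, 1), (222, 1), (223, 1)]),
   (true, [(165, 1), (168, 1), (172, 1), (174, 1), (180, 1), (183, 1), (187, 1), (191, 1), (206, 1), (207, 1), (210, 1), (213, 1), (219, 1), (223, 1)]),
   (true, [(190, 1), (206, 1), (207, 1), (221, 1), (222, 1), (223, 1)]),
   (true, [(175, 1), (190, 1), (220, 1), (222, 1)]),
   (true, [(176, 1), (206, 1)]),
   (true, [(172, 1), (174, 1), (175, 1), (195, 1), (198, 1), (202, 1), (204, 1), (205, 1), (213, 1), (219, 1), (220, 1), (223, 1), (235, 1)]),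
   (true, [(166, 1), (167, 1), (172, 1), (175, 1), (182, 1), (192, 1), (197, 1), (198, 1), (201, 1), (202, 1), (205, 1), (206, 1), (207, 1), (208, 1), (217, 1), (222, 1), (223, 1), (224, 1)]),
   (true, [(166, 1), (167, 1), (169, 1), (170, 1), (172, 1), (173, 1), (182, 1), (191, 1), (192, 1), (196, 1), (197, 1), (202, 1), (203, 1), (214, 1), (217, 1), (221, 1), (222, 1), (223, 1)]),
   (true, [(165, 1), (166, 1), (167, 1), (168, 1), (171, 1), (172, 1), (174, 1), (175, 1), (182, 1), (191, 1), (192, 1), (195, 1), (200, 1), (202, 1), (203, 1), (204, 1), (205, 1), (206, 1), (213, 1), (217, 1), (222, 1), (224, 1)]),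
   (true, [(165, 1), (168, 1), (172, 1), (195, 1), (208, 1), (217, 1)]),
   (true, [(165, 1), (168, 1), (172, 1), (174, 1), (195, 1), (202, 1), (208, 1), (217, 1), (221, 1), (223, 1)]),
   (true, [(191, 1), (205, 1), (207, 1)]),
   (true, [(175, 1), (191, 1), (205, 1), (206, 1), (207, 1)]),
   (true, [(191, 1), (206, 1), (221, 1), (223, 1)]),
   (true, []),
   (true, [(210, 1), (213, 1), (217, 1), (219, 1), (220, 1)]),
   (true, [(212, 1), (213, 1), (216, 1), (217, 1), (220, 1), (221, 1)]),
   (true, [(211, 1), (212, 1), (215, 1), (217, 1), (218, 1), (222, 1)]),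
   (true, [(210, 1), (211, 1), (212, 1), (213, 1), (215, 1), (217, 1), (218, 1), (219, 1), (220, 1), (222, 1), (223, 1)]),
   (true, [(210, 1), (213, 1), (221, 1), (223, 1)]),
   (true, [(210, 1), (213, 1), (217, 1), (221, 1), (223, 1)]),
   (true, [(220, 1), (221, 1), (222, 1), (223, 1)]),
   (true, [(220, 1), (221, 1), (222, 1)]),
   (true, [(221, 1)]),
   (true, [(221, 1)])]

/-- Equations. -/
def th2E1 : List (Bool × Cfsg.Lib.Schur.Prime.Form) :=
  th2E1_0

/-- Equations. -/
def th2E2_0 : List (Bool × Cfsg.Lib.Schur.Prime.Form) :=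
  [(true, [(76, 1), (80, 1), (91, 1), (96, 1), (125, 1), (126, 1), (136, 1), (141, 1), (155, 1), (156, 1), (158, 1), (159, 1), (185, 1), (186, 1), (188, 1), (192, 1), (200, 1), (201, 1), (204, 1), (206, 1), (207, 1), (208, 1), (211, 1), (215, 1), (218, 1), (219, 1), (293, 1), (294, 1), (296, 1), (297, 1), (298, 1), (300, 1)]),
   (true, [(95, 1), (96, 1), (122, 1), (125, 1), (126, 1), (127, 1), (140, 1), (141, 1), (142, 1), (144, 1), (152, 1), (155, 1), (156, 1), (157, 1), (158, 1), (159, 1), (173, 1), (185, 1), (186, 1), (187, 1), (188, 1), (192, 1), (197, 1), (200, 1), (205, 1), (208, 1), (212, 1), (219, 1), (221, 1), (222, 1), (293, 1), (295, 1), (297, 1), (298, 1), (300, 1), (301, 1)]),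
   (true, [(77, 1), (80, 1), (92, 1), (95, 1), (110, 1), (111, 1), (121, 1), (125, 1), (126, 1), (128, 1), (137, 1), (151, 1), (155, 1), (160, 1), (170, 1), (171, 1), (172, 1), (173, 1), (175, 1), (176, 1), (185, 1), (187, 1), (191, 1), (192, 1), (196, 1), (200, 1), (201, 1), (202, 1), (204, 1), (208, 1), (211, 1), (212, 1), (216, 1), (217, 1), (220, 1), (223, 1), (294, 1), (295, 1), (297, 1), (298, 1), (300, 1)]),
   (true, [(78, 1), (80, 1), (93, 1), (95, 1), (96, 1), (123, 1), (125, 1), (138, 1), (140, 1), (141, 1), (143, 1), (144, 1), (153, 1), (155, 1), (159, 1), (173, 1), (174, 1), (176, 1), (183, 1), (185, 1), (189, 1), (192, 1), (200, 1), (205, 1), (206, 1), (207, 1), (213, 1), (215, 1), (219, 1), (223, 1), (296, 1), (298, 1), (300, 1)]),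
   (true, [(76, 1), (78, 1), (91, 1), (93, 1), (95, 1), (121, 1), (125, 1), (128, 1), (136, 1), (138, 1), (140, 1), (144, 1), (151, 1), (155, 1), (159, 1), (160, 1), (174, 1), (176, 1), (181, 1), (185, 1), (190, 1), (191, 1), (205, 1), (211, 1), (213, 1), (218, 1), (219, 1), (220, 1), (293, 1), (294, 1), (297, 1), (300, 1)]),
   (true, [(77, 1), (92, 1), (95, 1), (122, 1), (123, 1), (125, 1), (137, 1), (152, 1), (153, 1), (156, 1), (160, 1), (170, 1), (171, 1), (173, 1), (174, 1), (175, 1), (182, 1), (185, 1), (186, 1), (188, 1), (189, 1), (190, 1), (191, 1), (192, 1), (198, 1), (203, 1), (205, 1), (212, 1), (213, 1), (219, 1), (220, 1), (221, 1), (222, 1), (223, 1), (293, 1), (294, 1), (296, 1), (299, 1), (300, 1)]),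
   (true, [(48, 1), (63, 1), (93, 1), (94, 1), (96, 1), (123, 1), (139, 1), (141, 1), (143, 1), (144, 1), (168, 1), (169, 1), (173, 1), (174, 1), (175, 1), (176, 1), (183, 1), (184, 1), (186, 1), (188, 1), (189, 1), (190, 1), (191, 1), (198, 1), (201, 1), (204, 1), (213, 1), (219, 1), (298, 1), (300, 1)]),
   (true, [(46, 1), (78, 1), (91, 1), (93, 1), (110, 1), (121, 1), (125, 1), (127, 1), (128, 1), (138, 1), (140, 1), (143, 1), (158, 1), (159, 1), (160, 1), (166, 1), (170, 1), (171, 1), (172, 1), (174, 1), (175, 1), (176, 1), (181, 1), (184, 1), (187, 1), (188, 1), (189, 1), (196, 1), (200, 1), (202, 1), (203, 1), (205, 1), (206, 1), (208, 1), (211, 1), (213, 1), (214, 1), (216, 1), (217, 1), (219, 1), (220, 1), (221, 1), (224, 1), (295, 1), (297, 1), (298, 1), (302, 1)]),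
   (true, [(47, 1), (79, 1), (92, 1), (94, 1), (95, 1), (111, 1), (122, 1), (123, 1), (126, 1), (127, 1), (128, 1), (141, 1), (143, 1), (144, 1), (153, 1), (154, 1), (155, 1), (158, 1), (159, 1), (167, 1), (169, 1), (171, 1), (172, 1), (175, 1), (176, 1), (182, 1), (184, 1), (186, 1), (187, 1), (189, 1), (191, 1), (192, 1), (197, 1), (198, 1), (201, 1), (202, 1), (203, 1), (205, 1), (206, 1), (208, 1), (212, 1), (213, 1), (214, 1), (220, 1), (221, 1), (223, 1), (295, 1), (296, 1), (298, 1), (299, 1), (301, 1)]),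
   (true, [(78, 1), (79, 1), (94, 1), (95, 1), (124, 1), (128, 1), (138, 1), (139, 1), (140, 1), (143, 1), (144, 1), (153, 1), (154, 1), (159, 1), (160, 1), (168, 1), (170, 1), (171, 1), (175, 1), (176, 1), (184, 1), (185, 1), (188, 1), (192, 1), (198, 1), (199, 1), (204, 1), (206, 1), (207, 1), (208, 1), (214, 1), (216, 1), (218, 1), (219, 1), (220, 1), (221, 1), (224, 1), (297, 1), (298, 1), (300, 1), (301, 1), (302, 1)]),
   (true, [(80, 1), (96, 1), (126, 1), (128, 1), (141, 1), (143, 1), (144, 1), (156, 1), (158, 1), (159, 1), (160, 1), (186, 1), (189, 1), (192, 1), (201, 1), (203, 1), (204, 1), (205, 1), (208, 1), (219, 1), (220, 1), (222, 1), (224, 1), (302, 1)]),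
   (true, [(76, 1), (91, 1), (95, 1), (121, 1), (136, 1), (140, 1), (143, 1), (151, 1), (159, 1), (173, 1), (174, 1), (176, 1), (181, 1), (189, 1), (191, 1), (196, 1), (200, 1), (207, 1), (208, 1), (215, 1), (219, 1), (221, 1), (224, 1), (296, 1), (298, 1), (300, 1), (301, 1), (302, 1)]),
   (true, [(77, 1), (92, 1), (122, 1), (126, 1), (137, 1), (152, 1), (156, 1), (159, 1), (173, 1), (175, 1), (182, 1), (190, 1), (197, 1), (201, 1), (208, 1), (216, 1), (218, 1), (219, 1), (221, 1), (297, 1), (301, 1), (302, 1)]),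
   (true, [(78, 1), (93, 1), (95, 1), (123, 1), (126, 1), (138, 1), (140, 1), (153, 1), (156, 1), (173, 1), (174, 1), (176, 1), (183, 1), (186, 1), (188, 1), (198, 1), (201, 1), (203, 1), (204, 1), (205, 1), (206, 1), (207, 1), (215, 1), (224, 1), (296, 1), (298, 1), (300, 1), (302, 1)]),
   (true, [(79, 1), (93, 1), (94, 1), (123, 1), (126, 1), (138, 1), (139, 1), (143, 1), (153, 1), (156, 1), (158, 1), (159, 1), (160, 1), (175, 1), (176, 1), (183, 1), (186, 1), (188, 1), (198, 1), (203, 1), (204, 1), (205, 1), (207, 1), (208, 1), (214, 1), (218, 1), (219, 1), (220, 1), (221, 1), (222, 1), (223, 1), (297, 1), (300, 1), (301, 1)]),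
   (true, [(80, 1), (96, 1), (140, 1), (144, 1), (155, 1), (159, 1), (160, 1), (170, 1), (174, 1), (175, 1), (176, 1), (185, 1), (191, 1), (192, 1), (200, 1), (207, 1), (208, 1), (220, 1), (221, 1), (223, 1), (300, 1)]),
   (true, [(76, 1), (91, 1), (95, 1), (125, 1), (126, 1), (136, 1), (141, 1), (151, 1), (158, 1), (159, 1), (166, 1), (173, 1), (181, 1), (185, 1), (188, 1), (189, 1), (191, 1), (196, 1), (206, 1), (218, 1), (221, 1), (222, 1), (223, 1), (224, 1), (296, 1), (298, 1), (299, 1), (300, 1)]),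
   (true, [(77, 1), (92, 1), (125, 1), (128, 1), (137, 1), (152, 1), (155, 1), (158, 1), (159, 1), (167, 1), (174, 1), (182, 1), (188, 1), (189, 1), (197, 1), (200, 1), (205, 1), (206, 1), (207, 1), (215, 1), (222, 1), (224, 1), (296, 1), (297, 1)]),
   (true, [(78, 1), (93, 1), (95, 1), (126, 1), (138, 1), (141, 1), (143, 1), (153, 1), (155, 1), (168, 1), (173, 1), (183, 1), (189, 1), (190, 1), (192, 1), (198, 1), (206, 1), (207, 1), (219, 1), (222, 1), (223, 1), (296, 1), (298, 1), (299, 1), (300, 1), (301, 1), (302, 1)]),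
   (true, [(78, 1), (79, 1), (94, 1), (95, 1), (124, 1), (125, 1), (126, 1), (138, 1), (139, 1), (153, 1), (158, 1), (168, 1), (170, 1), (171, 1), (173, 1), (175, 1), (183, 1), (184, 1), (185, 1), (188, 1), (191, 1), (198, 1), (200, 1), (204, 1), (205, 1), (206, 1), (207, 1), (214, 1), (215, 1), (216, 1), (220, 1), (221, 1), (222, 1), (223, 1), (297, 1), (298, 1), (299, 1), (300, 1), (301, 1), (302, 1)]),
   (true, [(125, 1), (140, 1), (141, 1), (143, 1), (155, 1), (156, 1), (158, 1), (171, 1), (173, 1), (174, 1), (175, 1), (185, 1), (186, 1), (188, 1), (189, 1), (191, 1), (200, 1), (201, 1), (207, 1), (208, 1), (219, 1), (221, 1), (223, 1), (301, 1)]),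
   (true, [(80, 1), (95, 1), (96, 1), (110, 1), (111, 1), (140, 1), (141, 1), (142, 1), (144, 1), (155, 1), (156, 1), (157, 1), (159, 1), (160, 1), (187, 1), (189, 1), (192, 1), (201, 1), (205, 1), (207, 1), (208, 1), (215, 1), (216, 1), (217, 1), (219, 1), (224, 1), (302, 1)]),
   (true, [(76, 1), (91, 1), (110, 1), (111, 1), (126, 1), (128, 1), (136, 1), (142, 1), (151, 1), (156, 1), (158, 1), (159, 1), (160, 1), (170, 1), (171, 1), (172, 1), (174, 1), (176, 1), (185, 1), (186, 1), (187, 1), (188, 1), (190, 1), (192, 1), (202, 1), (205, 1), (207, 1), (211, 1), (215, 1), (219, 1), (220, 1), (223, 1), (298, 1), (299, 1), (300, 1), (301, 1)]),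
   (true, [(77, 1), (92, 1), (125, 1), (126, 1), (137, 1), (141, 1), (144, 1), (152, 1), (155, 1), (156, 1), (157, 1), (158, 1), (159, 1), (174, 1), (175, 1), (187, 1), (190, 1), (191, 1), (192, 1), (200, 1), (202, 1), (203, 1), (205, 1), (206, 1), (212, 1), (215, 1), (220, 1), (221, 1), (222, 1), (297, 1), (299, 1), (300, 1)]),
   (true, [(78, 1), (93, 1), (110, 1), (111, 1), (125, 1), (127, 1), (128, 1), (138, 1), (142, 1), (143, 1), (153, 1), (155, 1), (157, 1), (158, 1), (160, 1), (170, 1), (171, 1), (172, 1), (173, 1), (174, 1), (175, 1), (176, 1), (185, 1), (186, 1), (192, 1), (201, 1), (203, 1), (207, 1), (208, 1), (213, 1), (216, 1), (221, 1), (222, 1), (298, 1), (299, 1), (300, 1), (301, 1), (302, 1)]),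
   (true, [(78, 1), (79, 1), (93, 1), (94, 1), (95, 1), (108, 1), (111, 1), (125, 1), (127, 1), (128, 1), (138, 1), (139, 1), (143, 1), (144, 1), (153, 1), (157, 1), (169, 1), (170, 1), (171, 1), (172, 1), (175, 1), (185, 1), (186, 1), (188, 1), (190, 1), (192, 1), (200, 1), (201, 1), (203, 1), (204, 1), (205, 1), (206, 1), (208, 1), (213, 1), (214, 1), (215, 1), (216, 1), (218, 1), (222, 1), (223, 1), (224, 1), (300, 1), (301, 1)]),
   (true, [(95, 1), (110, 1), (111, 1), (125, 1), (126, 1), (127, 1), (140, 1), (142, 1), (143, 1), (155, 1), (157, 1), (158, 1), (185, 1), (186, 1), (188, 1), (200, 1), (203, 1), (204, 1), (207, 1), (208, 1), (216, 1), (218, 1), (220, 1), (222, 1), (223, 1), (224, 1), (300, 1), (302, 1)]),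
   (true, [(95, 1), (110, 1), (111, 1), (141, 1), (142, 1), (156, 1), (157, 1), (170, 1), (171, 1), (172, 1), (174, 1), (175, 1), (185, 1), (189, 1), (191, 1), (192, 1), (200, 1), (202, 1), (205, 1), (206, 1), (207, 1), (215, 1), (219, 1), (220, 1), (221, 1), (222, 1), (223, 1), (224, 1), (300, 1), (302, 1)]),
   (true, [(301, 1)]),
   (true, [(125, 1), (126, 1), (143, 1), (186, 1), (192, 1), (208, 1), (215, 1), (218, 1), (219, 1), (222, 1), (223, 1), (224, 1), (302, 1)]),
   (true, [(158, 1), (188, 1), (190, 1), (205, 1), (208, 1), (218, 1), (222, 1), (300, 1), (301, 1)]),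
   (true, [(125, 1), (126, 1), (143, 1), (158, 1), (185, 1), (189, 1), (190, 1), (192, 1), (205, 1), (215, 1), (219, 1), (220, 1), (222, 1), (224, 1), (300, 1), (302, 1)]),
   (true, [(123, 1), (126, 1), (171, 1), (184, 1), (191, 1), (192, 1), (203, 1), (206, 1), (207, 1), (208, 1), (214, 1), (216, 1), (221, 1), (222, 1), (223, 1), (299, 1), (300, 1), (302, 1)]),
   (true, [(125, 1), (126, 1), (143, 1), (158, 1), (189, 1), (190, 1), (203, 1), (205, 1), (207, 1), (218, 1), (219, 1), (220, 1), (222, 1), (223, 1), (300, 1), (302, 1)]),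
   (true, [(125, 1), (126, 1), (143, 1), (158, 1), (173, 1), (188, 1), (189, 1), (190, 1), (191, 1), (203, 1), (205, 1), (207, 1), (219, 1), (220, 1), (221, 1), (222, 1), (223, 1), (300, 1), (302, 1)]),
   (true, [(125, 1), (126, 1), (143, 1), (158, 1), (186, 1), (189, 1), (190, 1), (192, 1), (204, 1), (216, 1), (218, 1), (219, 1), (220, 1), (223, 1), (224, 1), (300, 1), (301, 1), (302, 1)]),
   (true, [(128, 1), (143, 1), (173, 1), (174, 1), (176, 1), (203, 1), (206, 1), (218, 1), (219, 1), (221, 1), (223, 1), (224, 1)]),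
   (true, [(121, 1), (125, 1), (126, 1), (140, 1), (141, 1), (143, 1), (166, 1), (185, 1), (196, 1), (207, 1), (211, 1), (216, 1), (218, 1), (219, 1), (221, 1), (222, 1), (299, 1), (301, 1)]),
   (true, [(122, 1), (143, 1), (158, 1), (159, 1), (167, 1), (173, 1), (175, 1), (189, 1), (191, 1), (192, 1), (197, 1), (204, 1), (207, 1), (208, 1), (212, 1), (218, 1), (219, 1)]),
   (true, [(123, 1), (125, 1), (126, 1), (140, 1), (141, 1), (158, 1), (159, 1), (168, 1), (185, 1), (188, 1), (198, 1), (203, 1), (205, 1), (206, 1), (213, 1), (216, 1), (219, 1), (220, 1), (299, 1), (302, 1)]),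
   (true, [(123, 1), (124, 1), (126, 1), (138, 1), (141, 1), (143, 1), (168, 1), (171, 1), (176, 1), (184, 1), (186, 1), (198, 1), (204, 1), (206, 1), (208, 1), (213, 1), (221, 1), (222, 1), (300, 1)]),
   (true, [(126, 1), (140, 1), (141, 1), (158, 1), (159, 1), (171, 1), (173, 1), (174, 1), (175, 1), (188, 1), (191, 1), (192, 1), (201, 1), (203, 1), (206, 1), (207, 1), (216, 1), (219, 1), (221, 1), (223, 1), (224, 1)]),
   (true, [(125, 1), (140, 1), (141, 1), (143, 1), (158, 1), (159, 1), (170, 1), (173, 1), (175, 1), (188, 1), (189, 1), (190, 1), (191, 1), (200, 1), (203, 1), (204, 1), (205, 1), (206, 1), (215, 1), (220, 1), (300, 1), (301, 1), (302, 1)]),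
   (true, [(125, 1), (126, 1), (127, 1), (140, 1), (141, 1), (143, 1), (158, 1), (159, 1), (170, 1), (171, 1), (172, 1), (174, 1), (175, 1), (186, 1), (187, 1), (189, 1), (200, 1), (202, 1), (204, 1), (205, 1), (215, 1), (216, 1), (218, 1), (219, 1), (220, 1), (221, 1), (222, 1), (224, 1), (302, 1)]),
   (true, [(173, 1), (203, 1), (206, 1), (218, 1), (223, 1), (301, 1)]),
   (true, [(205, 1), (208, 1)]),
   (true, [(155, 1), (156, 1), (159, 1), (186, 1), (192, 1), (196, 1), (200, 1), (201, 1), (207, 1), (215, 1), (220, 1), (224, 1), (302, 1)]),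
   (true, [(158, 1), (173, 1), (175, 1), (188, 1), (190, 1), (197, 1), (203, 1), (205, 1), (206, 1), (207, 1), (220, 1), (221, 1), (222, 1), (299, 1), (300, 1)]),
   (true, [(155, 1), (156, 1), (158, 1), (159, 1), (185, 1), (188, 1), (189, 1), (192, 1), (198, 1), (203, 1), (215, 1), (223, 1), (224, 1), (300, 1), (301, 1), (302, 1)]),
   (true, [(153, 1), (156, 1), (158, 1), (175, 1), (184, 1), (186, 1), (190, 1), (192, 1), (198, 1), (203, 1), (205, 1), (207, 1), (208, 1), (214, 1), (216, 1), (218, 1), (220, 1), (221, 1), (224, 1), (302, 1)]),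
   (true, [(155, 1), (156, 1), (158, 1), (159, 1), (188, 1), (189, 1), (201, 1), (204, 1), (220, 1), (300, 1), (302, 1)]),
   (true, [(155, 1), (156, 1), (159, 1), (175, 1), (189, 1), (191, 1), (200, 1), (204, 1), (206, 1), (207, 1), (208, 1), (219, 1), (222, 1), (224, 1), (300, 1), (301, 1)]),
   (true, [(155, 1), (156, 1), (159, 1), (186, 1), (192, 1), (200, 1), (201, 1), (207, 1), (216, 1), (217, 1), (223, 1), (224, 1), (302, 1)]),
   (true, [(203, 1), (301, 1)]),
   (true, [(158, 1), (175, 1), (203, 1), (205, 1), (220, 1), (221, 1), (223, 1), (302, 1)]),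
   (true, []),
   (true, [(170, 1), (171, 1), (174, 1), (185, 1), (186, 1), (189, 1), (201, 1), (204, 1), (207, 1), (216, 1), (221, 1), (222, 1), (224, 1), (300, 1)]),
   (true, [(173, 1), (175, 1), (188, 1), (190, 1), (203, 1), (205, 1), (206, 1), (207, 1), (208, 1), (218, 1), (220, 1), (221, 1), (222, 1), (300, 1), (301, 1), (302, 1)]),
   (true, [(170, 1), (171, 1), (173, 1), (174, 1), (175, 1), (191, 1), (200, 1), (215, 1), (218, 1), (219, 1), (220, 1), (221, 1), (222, 1), (223, 1), (224, 1), (301, 1), (302, 1)]),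
   (true, [(168, 1), (171, 1), (173, 1), (191, 1), (199, 1), (206, 1), (214, 1), (218, 1), (222, 1), (224, 1), (301, 1), (302, 1)]),
   (true, [(170, 1), (171, 1), (173, 1), (174, 1), (175, 1), (191, 1), (206, 1), (208, 1), (218, 1), (219, 1), (220, 1), (222, 1), (223, 1), (301, 1), (302, 1)]),
   (true, [(170, 1), (171, 1), (174, 1), (175, 1), (191, 1), (204, 1), (205, 1), (207, 1), (219, 1), (220, 1), (221, 1), (222, 1), (223, 1), (302, 1)]),
   (true, [(170, 1), (171, 1), (174, 1), (175, 1), (201, 1), (202, 1), (204, 1), (205, 1), (216, 1), (219, 1), (220, 1), (221, 1), (223, 1), (224, 1), (302, 1)]),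
   (true, []),
   (true, [(173, 1), (206, 1), (221, 1)]),
   (true, [(206, 1)]),
   (true, [(207, 1), (208, 1)]),
   (true, [(185, 1), (186, 1), (189, 1), (196, 1), (222, 1), (301, 1)]),
   (true, [(188, 1), (190, 1), (197, 1), (207, 1), (222, 1), (301, 1)]),
   (true, [(185, 1), (186, 1), (188, 1), (189, 1), (190, 1), (198, 1), (222, 1), (301, 1)]),
   (true, [(183, 1), (186, 1), (188, 1), (191, 1), (198, 1), (207, 1), (216, 1), (218, 1), (221, 1), (223, 1), (302, 1)]),
   (true, [(185, 1), (186, 1), (188, 1), (189, 1), (190, 1), (201, 1), (203, 1), (204, 1), (205, 1)]),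
   (true, [(185, 1), (186, 1), (189, 1), (190, 1), (191, 1), (200, 1), (204, 1), (205, 1), (206, 1)]),
   (true, [(185, 1), (186, 1), (189, 1), (190, 1), (200, 1), (201, 1), (202, 1), (204, 1), (205, 1), (222, 1), (223, 1)]),
   (true, [(203, 1)]),
   (true, [(188, 1), (191, 1), (203, 1), (204, 1), (206, 1), (207, 1), (222, 1), (223, 1)]),
   (true, [(205, 1), (207, 1)]),
   (true, [(206, 1)]),
   (true, []),
   (true, [(200, 1), (201, 1), (204, 1), (223, 1)])]

/-- Equations. -/
def th2E2_1 : List (Bool × Cfsg.Lib.Schur.Prime.Form) :=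
  [(true, [(203, 1), (205, 1), (223, 1)]),
   (true, [(200, 1), (201, 1), (203, 1), (204, 1), (205, 1), (207, 1), (223, 1)]),
   (true, [(198, 1), (201, 1), (203, 1), (206, 1), (207, 1), (223, 1)]),
   (true, [(200, 1), (201, 1), (203, 1), (204, 1), (205, 1), (207, 1)]),
   (true, [(200, 1), (201, 1), (204, 1), (205, 1), (206, 1), (207, 1)]),
   (true, [(200, 1), (201, 1), (204, 1), (205, 1), (223, 1)]),
   (true, []),
   (true, [(203, 1), (206, 1), (223, 1)]),
   (true, []),
   (true, []),
   (true, []),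
   (true, [(208, 1), (223, 1)]),
   (true, [(196, 1), (200, 1), (201, 1), (204, 1), (215, 1), (216, 1), (219, 1), (223, 1)]),
   (true, [(197, 1), (203, 1), (205, 1), (218, 1), (220, 1)]),
   (true, [(198, 1), (200, 1), (201, 1), (203, 1), (204, 1), (205, 1), (207, 1), (215, 1), (216, 1), (218, 1), (219, 1), (220, 1), (222, 1), (223, 1)]),
   (true, [(198, 1), (199, 1), (201, 1), (203, 1), (206, 1), (207, 1), (213, 1), (216, 1), (218, 1), (221, 1), (222, 1)]),
   (true, [(201, 1), (203, 1), (204, 1), (205, 1), (207, 1), (215, 1), (216, 1), (218, 1), (219, 1), (220, 1), (222, 1), (223, 1)]),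
   (true, [(200, 1), (204, 1), (205, 1), (206, 1), (207, 1), (215, 1), (216, 1), (219, 1), (220, 1), (221, 1), (222, 1), (223, 1)]),
   (true, [(200, 1), (201, 1), (202, 1), (204, 1), (205, 1), (215, 1), (216, 1), (219, 1), (220, 1), (223, 1)]),
   (true, [(203, 1)]),
   (true, [(203, 1), (204, 1), (206, 1), (218, 1), (221, 1)]),
   (true, [(205, 1), (223, 1)]),
   (true, [(206, 1)]),
   (true, [(207, 1), (223, 1)]),
   (true, [])]

/-- Equations. -/
def th2E2 : List (Bool × Cfsg.Lib.Schur.Prime.Form) :=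
  th2E2_0 ++ th2E2_1

end Cfsg.Lib.ThMult
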