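import Cfsg.Agent.ThMult.OkSplit
import Cfsg.Agent.ThMult.P2Data
import Cfsg.Agent.ThMult.P2Eqs

/-!
The certificate at the prime 2 is valid.
-/

set_option autoImplicit false
set_option maxRecDepth 100000
set_option maxHeartbeats 4000000
set_option Elab.async false

namespace Cfsg.Lib.ThMult

open Cfsg.Lib.Schur.Prime (Cert)

/-- The relations of a conjugation. -/
def th2Rel (f : ℕ) : List (List ℕ × List ℕ) := (th2Cert.fuse.getD f ([], [], [])).2.2

/-- The equation of a relation. -/
def th2Fun (f : ℕ) : List ℕ × List ℕ → Bool × Cfsg.Lib.Schur.Prime.Form :=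
  th2Cert.fuseEq f (th2Cert.fuse.getD f ([], [], [])).1 (th2Cert.fuse.getD f ([], [], [])).2.1

theorem th2_eq0_0 : mapChk th2Cert.overlapEq th2Cert.overlaps ([], 0) th2E0 (35 * 0) 35 = true := by decide +kernel

theorem th2_eq0_1 : mapChk th2Cert.overlapEq th2Cert.overlaps ([], 0) th2E0 (35 * 1) 35 = true := by decide +kernel

theorem th2_eq0_2 : mapChk th2Cert.overlapEq th2Cert.overlaps ([], 0) th2E0 (35 * 2) 35 = true := by decide +kernel

theorem th2_eq0_3 : mapChk th2Cert.overlapEq th2Cert.overlaps ([], 0) th2E0 (35 * 3) 35 = true := by decide +kernel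

theorem th2_eq0_4 : mapChk th2Cert.overlapEq th2Cert.overlaps ([], 0) th2E0 (35 * 4) 35 = true := by decide +kernel

theorem th2_eq0_5 : mapChk th2Cert.overlapEq th2Cert.overlaps ([], 0) th2E0 (35 * 5) 35 = true := by decide +kernel

theorem th2_eq0_6 : mapChk th2Cert.overlapEq th2Cert.overlaps ([], 0) th2E0 (35 * 6) 35 = true := by decide +kernel

theorem th2_eq0_7 : mapChk th2Cert.overlapEq th2Cert.overlaps ([], 0) th2E0 (35 * 7) 35 = true := by decide +kernel

theorem th2_eq0_8 : mapChk th2Cert.overlapEq th2Cert.overlaps ([], 0) th2E0 (35 * 8) 35 = true := by decide +kernel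

theorem th2_eq0_9 : mapChk th2Cert.overlapEq th2Cert.overlaps ([], 0) th2E0 (35 * 9) 35 = true := by decide +kernel

theorem th2_eq0_10 : mapChk th2Cert.overlapEq th2Cert.overlaps ([], 0) th2E0 (35 * 10) 35 = true := by decide +kernel

theorem th2_eq0_11 : mapChk th2Cert.overlapEq th2Cert.overlaps ([], 0) th2E0 (35 * 11) 35 = true := by decide +kernel

theorem th2_eq0_12 : mapChk th2Cert.overlapEq th2Cert.overlaps ([], 0) th2E0 (35 * 12) 35 = true := by decide +kernel

theorem th2_eq0_13 : mapChk th2Cert.overlapEq th2Cert.overlaps ([], 0) th2E0 (35 * 13) 35 = true := by decide +kernel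

theorem th2_eq0_14 : mapChk th2Cert.overlapEq th2Cert.overlaps ([], 0) th2E0 (35 * 14) 35 = true := by decide +kernel

theorem th2_eq0_15 : mapChk th2Cert.overlapEq th2Cert.overlaps ([], 0) th2E0 (35 * 15) 35 = true := by decide +kernel

theorem th2_eq0_16 : mapChk th2Cert.overlapEq th2Cert.overlaps ([], 0) th2E0 (35 * 16) 35 = true := by decide +kernel

theorem th2_map0 : List.map th2Cert.overlapEq th2Cert.overlaps = th2E0 := by
  refine map_eq_of_chk _ _ ([], 0) _ 35 17 (by decide +kernel) (by decide +kernel) fun q hq => ?_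
  interval_cases q
  exacts [th2_eq0_0, th2_eq0_1, th2_eq0_2, th2_eq0_3, th2_eq0_4, th2_eq0_5, th2_eq0_6, th2_eq0_7, th2_eq0_8, th2_eq0_9, th2_eq0_10, th2_eq0_11, th2_eq0_12, th2_eq0_13, th2_eq0_14, th2_eq0_15, th2_eq0_16]

theorem th2_eq1_0 : mapChk (th2Fun 0) (th2Rel 0) ([], []) th2E1 (35 * 0) 35 = true := by decide +kernel

theorem th2_eq1_1 : mapChk (th2Fun 0) (th2Rel 0) ([], []) th2E1 (35 * 1) 35 = true := by decide +kernel

theorem th2_map1 : List.map (th2Fun 0) (th2Rel 0) = th2E1 := by
  refine map_eq_of_chk _ _ ([], []) _ 35 2 (by decide +kernel) (by decide +kernel) fun q hq => ?_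
  interval_cases q
  exacts [th2_eq1_0, th2_eq1_1]

theorem th2_eq2_0 : mapChk (th2Fun 1) (th2Rel 1) ([], []) th2E2 (35 * 0) 35 = true := by decide +kernel

theorem th2_eq2_1 : mapChk (th2Fun 1) (th2Rel 1) ([], []) th2E2 (35 * 1) 35 = true := by decide +kernel

theorem th2_eq2_2 : mapChk (th2Fun 1) (th2Rel 1) ([], []) th2E2 (35 * 2) 35 = true := by decide +kernel

theorem th2_map2 : List.map (th2Fun 1) (th2Rel 1) = th2E2 := by
  refine map_eq_of_chk _ _ ([], []) _ 35 3 (by decide +kernel) (by decide +kernel) fun q hq => ?_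
  interval_cases q
  exacts [th2_eq2_0, th2_eq2_1, th2_eq2_2]

theorem th2_fuse_len : th2Cert.fuse.length = 2 := by decide +kernel

theorem th2_okWith : okWith th2Cert (th2E0 ++ (th2E1 ++ th2E2)) = true := by decide +kernel

theorem th2_ok : th2Cert.ok = true := by
  refine ok_of_eqs ?_ th2_okWith
  rw [Cert.eqs, th2_map0, th2_fuse_len]
  have e1 := th2_map1
  have e2 := th2_map2
  simp only [th2Fun, th2Rel] at e1 e2
  simp only [List.range_succ, List.range_zero, List.nil_append, List.singleton_append, List.flatMap_cons,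
    List.flatMap_nil, List.append_nil, e1, e2]

end Cfsg.Lib.ThMult
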