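import Cfsg.Agent.ThMult.P2Chk0
import Cfsg.Agent.ThMult.P2Ok
import Cfsg.Agent.ThMult.P2Chk1
import Cfsg.Agent.ThMult.P2Chk2
import Cfsg.Agent.ThMult.P2Chk3
import Cfsg.Agent.ThMult.P2Chk4
import Cfsg.Agent.ThMult.P2Chk5
import Cfsg.Agent.ThMult.P2Chk6
import Cfsg.Agent.ThMult.P2Chk7
import Cfsg.Agent.ThMult.P2Chk8
import Cfsg.Agent.ThMult.P2Chk9
import Cfsg.Agent.ThMult.P2Chk10
import Cfsg.Agent.ThMult.P2Chk11
import Cfsg.Agent.ThMult.P2Chk12
import Cfsg.Agent.ThMult.P2Chk13
import Cfsg.Agent.ThMult.P2Chk14

/-!
All checks at the prime 2.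
-/

set_option autoImplicit false
set_option maxRecDepth 100000
set_option maxHeartbeats 4000000
set_option exponentiation.threshold 3000
set_option Elab.async false

namespace Cfsg.Lib.ThMult

theorem th2_len : th2Defs.length = 45 ∧ th2Cert.n = 15 ∧ th2Cert.p = 2 ∧ th2Cert.fuse.map (fun t => t.1.length) = [11, 14] := by
  decide +kernel

theorem th2_entries : ∀ i < th2Defs.length, entryOK th2Mats i (th2Defs.getD i (true, [])) = true := by
  intro i hi
  rw [th2_len.1] at hi
  interval_cases i
  exacts [th2_entry0, th2_entry1, th2_entry2, th2_entry3, th2_entry4, th2_entry5, th2_entry6, th2_entry7, th2_entry8, th2_entry9, th2_entry10, th2_entry11, th2_entry12, th2_entry13, th2_entry14, th2_entry15, th2_entry16, th2_entry17, th2_entry18, th2_entry19, th2_entry20, th2_entry21, th2_entry22, th2_entry23, th2_entry24, th2_entry25, th2_entry26, th2_entry27, th2_entry28, th2_entry29, th2_entry30, th2_entry31, th2_entry32, th2_entry33, th2_entry34, th2_entry35, th2_entry36, th2_entry37, th2_entry38, th2_entry39, th2_entry40, th2_entry41,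 th2_entry42, th2_entry43, th2_entry44]

theorem th2_rules : ∀ j < th2Cert.n, ∀ i ≤ j, ruleOK th2Cert th2Mats th2Pc j i = true := by
  intro j hj i hi
  rw [th2_len.2.1] at hj
  interval_cases j
  all_goals first
    | exact List.all_eq_true.1 th2_rule0 i (List.mem_range.2 (by omega))
    | exact List.all_eq_true.1 th2_rule1 i (List.mem_range.2 (by omega))
    | exact List.all_eq_true.1 th2_rule2 i (List.mem_range.2 (by omega))
    | exact List.all_eq_true.1 th2_rule3 i (List.mem_range.2 (by omega))
    | exact List.all_eq_true.1 th2_rule4 i (List.mem_range.2 (by omega))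
    | exact List.all_eq_true.1 th2_rule5 i (List.mem_range.2 (by omega))
    | exact List.all_eq_true.1 th2_rule6 i (List.mem_range.2 (by omega))
    | exact List.all_eq_true.1 th2_rule7 i (List.mem_range.2 (by omega))
    | exact List.all_eq_true.1 th2_rule8 i (List.mem_range.2 (by omega))
    | exact List.all_eq_true.1 th2_rule9 i (List.mem_range.2 (by omega))
    | exact List.all_eq_true.1 th2_rule10 i (List.mem_range.2 (by omega))
    | exact List.all_eq_true.1 th2_rule11 i (List.mem_range.2 (by omega))
    | exact List.all_eq_true.1 th2_rule12 i (List.mem_range.2 (by omega))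
    | exact List.all_eq_true.1 th2_rule13 i (List.mem_range.2 (by omega))
    | exact List.all_eq_true.1 th2_rule14 i (List.mem_range.2 (by omega))

theorem th2_fus : ∀ f < th2Cert.fuse.length, ∀ k < (th2Cert.fuse.getD f ([], [], [])).1.length,
    conjRel th2Cert th2Mats th2Pc th2Fw th2Defs.length f k = true := by
  intro f hf k hk
  have e := th2_len.2.2.2
  have h1 : (th2Cert.fuse.map fun t => t.1.length).getD f 0 = (th2Cert.fuse.getD f ([], [], [])).1.length :=
    List.getD_map _ ([], [], []) fun t => t.1.length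
  rw [e] at h1
  rw [← h1] at hk
  have hf' : f < 2 := by
    have := congrArg List.length e
    rw [List.length_map] at this
    rw [this] at hf
    simpa using hf
  interval_cases f
  · simp only [List.getD_cons_succ, List.getD_cons_zero] at hk
    interval_cases k
    exacts [th2_fus0_0, th2_fus0_1, th2_fus0_2, th2_fus0_3, th2_fus0_4, th2_fus0_5, th2_fus0_6, th2_fus0_7, th2_fus0_8, th2_fus0_9, th2_fus0_10]
  · simp only [List.getD_cons_succ, List.getD_cons_zero] at hk
    interval_cases k
    exacts [th2_fus1_0, th2_fus1_1, th2_fus1_2, th2_fus1_3, th2_fus1_4, th2_fus1_5, th2_fus1_6, th2_fus1_7, th2_fus1_8, th2_fus1_9, th2_fus1_10, th2_fus1_11, th2_fus1_12, th2_fus1_13]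

theorem th2_pc : ∀ k < 15, th2Pc.getD k 0 = 15 - 1 - k := by
  decide +kernel

end Cfsg.Lib.ThMult
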