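import Cfsg.Agent.Schur.PrimeCert
import Cfsg.Agent.ThRep.Data.Syl3
import Cfsg.Agent.ThRep.Data.Syl3Mat
import Cfsg.Agent.ThMult.P3Mat0
import Cfsg.Agent.ThMult.P3Mat1
import Cfsg.Agent.ThMult.P3Mat2

/-!
A certificate at the prime 3 for the presented Thompson group.
-/

set_option autoImplicit false
set_option maxRecDepth 100000
set_option maxHeartbeats 4000000
set_option exponentiation.threshold 3000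


namespace Cfsg.Lib.ThMult

/-- The matrices. -/
def th3Mats : List (List ℕ) :=
  Cfsg.Lib.ThRep.p3Mats ++ [th3M10 , th3M11 , th3M12 , th3M13 , th3M14 , th3M15 , th3M16 , th3M17 , th3M18 , th3M19 , th3M20 , th3M21 , th3M22 , th3M23 , th3M24 , th3M25 , th3M26 , th3M27 , th3M28 , th3M29 , th3M30 , th3M31 , th3M32 , th3M33 , th3M34 , th3M35 , th3M36 , th3M37 , th3M38 , th3M39 , th3M40 , th3M41 , th3M42]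

/-- The definitions of the members. -/
def th3Defs : List (Bool × List ℕ) :=
  (Cfsg.Lib.ThRep.p3Words.map fun w => (true, w)) ++ [(true, [7, 3, 5, 14, 9, 7, 15, 5, 14, 15, 7, 15, 3, 11, 1, 1, 9, 1, 11, 13, 1, 15, 5, 5, 3, 7, 3, 12, 15, 3, 15, 5, 13, 15, 10, 7, 15, 1, 12, 11, 13, 5, 9, 14, 1, 15, 5, 7, 9, 3]),
   (true, [5, 10, 15, 12, 10, 13, 3, 10, 1, 7, 13, 7, 12, 7, 7, 3, 1, 10, 5, 1, 3, 13, 14, 9, 5, 7, 5, 9, 7, 9, 10, 3, 11, 3, 3, 12, 13, 1, 5, 7, 1, 14, 3, 7, 9, 5, 1, 11, 15, 7]),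
   (true, [1, 9, 7, 13, 11, 3, 5, 15, 5, 14, 7, 5, 10, 10, 11, 7, 1, 14, 3, 9, 1, 3, 11, 14, 9, 1, 11, 5, 5, 9, 1, 14, 3, 7, 7, 1, 13, 5, 11, 5, 13, 10, 1, 14, 1, 14, 1, 9, 14, 1]),
   (true, [9, 11, 14, 12, 9, 15, 15, 1, 12, 5, 5, 11, 9, 5, 15, 3, 9, 7, 9, 9, 3, 5, 10, 13, 15, 10, 3, 3, 3, 5, 1, 9, 15, 5, 1, 5, 13, 1, 14, 9, 5, 11, 7, 9, 7, 10, 15, 3, 3, 12]),
   (true, [7, 5, 9, 7, 7, 13, 5, 11, 7, 9, 3, 12, 5, 9, 9, 7, 1, 9, 15, 10, 12, 5, 5, 5, 7, 5, 9, 9, 5, 7, 1, 9, 12, 14, 1, 9, 10, 10, 7, 3, 12, 11, 3, 7, 7, 3, 5, 7, 14, 3]),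
   (true, [3, 11, 10, 9, 12, 9, 7, 13, 3, 7, 7, 5, 12, 1, 1, 5, 12, 15, 1, 15, 9, 9, 10, 7, 10, 7, 14, 3, 3, 11, 9, 9, 1, 15, 1, 7, 13, 5, 7, 5, 14, 7, 12, 1, 9, 7, 7, 14, 1, 14]),
   (true, [9, 1, 10, 13, 7, 11, 9, 7, 3, 11, 10, 7, 5, 7, 7, 5, 5, 1, 1, 9, 1, 13, 11, 13, 9, 3, 1, 10, 12, 12, 3, 9, 5, 10, 9, 12, 9, 5, 14, 7, 3, 9, 1, 3, 3, 11, 5, 7, 9, 11]),
   (true, [0]),
   (true, [10, 8, 6, 4, 10, 2, 2, 0, 8, 2, 6, 15, 4, 8, 13, 8, 11, 4, 8, 2, 13, 13, 11, 0, 2, 8, 12, 10, 12, 0, 8, 0, 0, 4, 4, 6, 6, 4, 6, 11, 10, 2, 6, 8, 10, 6, 12, 11, 0, 8]),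
   (true, [2, 15, 6, 4, 2, 6, 6, 2, 10, 13, 2, 6, 11, 11, 8, 0, 15, 13, 8, 0, 6, 4, 8, 8, 4, 6, 4, 4, 4, 13, 11, 14, 8, 0, 6, 8, 8, 4, 13, 2, 8, 6, 10, 4, 12, 6, 6, 8, 4, 6]),
   (true, [15, 0, 15, 6, 6, 8, 0, 13, 6, 15, 4, 6, 4, 12, 6, 0, 14, 0, 8, 8, 10, 2, 2, 15, 6, 11, 6, 11, 8, 8, 14, 0, 14, 13, 4, 0, 0, 13, 4, 6, 6, 2, 12, 6, 8, 13, 8, 11, 10, 2]),
   (true, [13, 2, 2, 14, 11, 6, 8, 6, 10, 4, 8, 15, 0, 12, 4, 0, 4, 14, 8, 0, 4, 2, 2, 2, 11, 14, 12, 11, 4, 2, 8, 8, 6, 8, 2, 14, 4, 8, 10, 4, 4, 13, 0, 14, 14, 8, 13, 15, 10, 8]),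
   (true, [0, 15, 8, 0, 15, 0, 15, 0, 11, 12, 4, 10, 4, 12, 0, 6, 6, 2, 15, 0, 8, 4, 4, 10, 0, 8, 15, 10, 2, 0, 8, 2, 15, 0, 6, 10, 11, 11, 4, 6, 15, 4, 14, 4, 2, 10, 12, 6, 8, 0]),
   (true, [6, 14, 10, 0, 4, 8, 6, 2, 15, 0, 6, 4, 0, 12, 13, 2, 2, 10, 2, 11, 8, 6, 8, 4, 6, 4, 8, 15, 12, 2, 0, 4, 11, 0, 2, 6, 6, 13, 6, 12, 6, 0, 11, 2, 12, 11, 13, 14, 11, 4]),
   (true, [2, 8, 6, 4, 14, 0, 15, 8, 4, 12, 10, 13, 0, 14, 6, 11, 14, 12, 4, 14, 2, 14, 13, 2, 6, 2, 4, 4, 14, 0, 12, 10, 0, 8, 0, 0, 10, 2, 14, 6, 14, 15, 4, 14, 6, 8, 15, 4, 2, 6]),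
   (false, [10, 11, 12, 13, 14, 15, 14, 16, 17, 18, 19, 20, 19, 21, 22, 23, 24]),
   (true, [1, 3, 11, 1, 5, 5, 1, 3, 13, 9, 3, 7, 3, 5, 7, 5, 9, 9, 13, 7, 5, 10, 5, 7, 5, 15, 1, 11, 7, 12, 9, 12, 12, 13, 14, 15, 9, 11, 1, 14, 3, 13, 3, 9, 1, 1, 5, 9, 14, 9]),
   (true, [3, 12, 13, 13, 11, 1, 14, 9, 5, 9, 9, 1, 7, 3, 12, 9, 14, 9, 5, 9, 11, 5, 3, 12, 3, 11, 3, 10, 13, 7, 3, 1, 14, 7, 10, 1, 1, 1, 5, 7, 5, 13, 3, 3, 5, 7, 7, 14, 11, 13]),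
   (true, [12, 9, 9, 1, 10, 3, 14, 3, 14, 5, 9, 15, 5, 11, 11, 12, 15, 14, 7, 1, 5, 3, 5, 15, 5, 10, 5, 7, 9, 7, 1, 1, 14, 3, 7, 10, 1, 14, 15, 3, 14, 5, 5, 1, 1, 5, 1, 1, 13, 11]),
   (true, [3, 11, 7, 7, 13, 7, 10, 9, 1, 5, 9, 3, 7, 15, 13, 5, 14, 1, 5, 1, 3, 15, 3, 12, 9, 5, 9, 1, 3, 3, 13, 5, 9, 15, 3, 9, 12, 9, 5, 5, 11, 9, 5, 9, 5, 9, 15, 14, 5, 5]),
   (true, [14, 9, 10, 1, 3, 1, 7, 7, 10, 9, 9, 1, 10, 5, 10, 11, 14, 11, 9, 13, 14, 1, 14, 9, 12, 3, 7, 9, 10, 1, 11, 10, 9, 14, 1, 9, 10, 14, 13, 7, 12, 14, 3, 5, 9, 13, 7, 11, 14, 13]),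
   (true, [5, 5, 15, 14, 9, 5, 9, 5, 9, 10, 5, 5, 9, 13, 9, 3, 14, 9, 5, 12, 3, 3, 1, 9, 5, 9, 13, 3, 14, 3, 1, 5, 1, 15, 5, 12, 14, 7, 3, 9, 5, 1, 9, 11, 7, 12, 7, 7, 10, 3]),
   (true, [14, 11, 1, 9, 12, 14, 15, 7, 5, 11, 3, 7, 5, 14, 1, 5, 3, 3, 1, 9, 11, 1, 1, 3, 1, 3, 1, 11, 1, 7, 1, 15, 3, 7, 10, 13, 9, 1, 14, 3, 1, 1, 15, 1, 1, 1, 11, 11, 13, 7]),
   (true, [12, 10, 15, 7, 7, 5, 3, 3, 12, 5, 7, 5, 1, 1, 1, 11, 7, 15, 1, 3, 7, 12, 11, 3, 10, 3, 13, 3, 5, 10, 9, 5, 9, 15, 9, 13, 3, 7, 1, 9, 9, 5, 9, 15, 1, 10, 12, 12, 13, 3]),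
   (true, [2, 12, 13, 13, 11, 0, 14, 8, 4, 8, 8, 0, 6, 2, 12, 8, 14, 8, 4, 8, 11, 4, 2, 12, 2, 11, 2, 10, 13, 6, 2, 0, 14, 6, 10, 0, 0, 0, 4, 6, 4, 13, 2, 2, 4, 6, 6, 14, 11, 13]),
   (true, [8, 15, 8, 4, 0, 0, 8, 2, 12, 2, 15, 0, 10, 8, 14, 15, 12, 13, 13, 8, 13, 6, 10, 0, 14, 4, 6, 4, 11, 4, 6, 12, 8, 8, 4, 6, 4, 2, 6, 2, 8, 12, 2, 0, 4, 4, 0, 10, 2, 0]),
   (true, [6, 12, 10, 10, 0, 0, 0, 14, 0, 0, 2, 15, 0, 8, 12, 11, 6, 2, 14, 0, 6, 0, 10, 0, 2, 0, 2, 0, 0, 10, 8, 0, 2, 2, 4, 0, 15, 4, 6, 2, 10, 4, 6, 14, 15, 13, 8, 0, 10, 15]),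
   (true, [2, 11, 6, 6, 13, 6, 10, 8, 0, 4, 8, 2, 6, 15, 13, 4, 14, 0, 4, 0, 2, 15, 2, 12, 8, 4, 8, 0, 2, 2, 13, 4, 8, 15, 2, 8, 12, 8, 4, 4, 11, 8, 4, 8, 4, 8, 15, 14, 4, 4]),
   (true, [12, 15, 10, 6, 12, 8, 4, 2, 15, 13, 6, 12, 15, 11, 8, 0, 15, 8, 11, 10, 0, 11, 8, 6, 2, 13, 8, 15, 0, 15, 12, 8, 10, 15, 10, 11, 4, 11, 0, 8, 8, 11, 6, 6, 0, 2, 0, 11, 8, 15]),
   (true, [4, 4, 15, 14, 8, 4, 8, 4, 8, 10, 4, 4, 8, 13, 8, 2, 14, 8, 4, 12, 2, 2, 0, 8, 4, 8, 13, 2, 14, 2, 0, 4, 0, 15, 4, 12, 14, 6, 2, 8, 4, 0, 8, 11, 6, 12, 6, 6, 10, 2]),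
   (true, [12, 10, 15, 6, 6, 4, 2, 2, 12, 4, 6, 4, 0, 0, 0, 11, 6, 15, 0, 2, 6, 12, 11, 2, 10, 2, 13, 2, 4, 10, 8, 4, 8, 15, 8, 13, 2, 6, 0, 8, 8, 4, 8, 15, 0, 10, 12, 12, 13, 2]),
   (true, [10, 12, 0, 0, 4, 0, 0, 4, 4, 15, 2, 14, 15, 0, 11, 6, 2, 15, 0, 0, 6, 8, 6, 4, 11, 4, 14, 4, 2, 4, 0, 6, 15, 14, 13, 10, 10, 4, 14, 8, 4, 15, 2, 15, 2, 11, 0, 8, 8, 13]),
   (false, [26, 27, 28, 27, 29, 30, 31, 32, 26, 33, 17, 34, 35, 36, 37, 38, 39, 40, 41, 40, 35])]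

/-- The members of the generators. -/
def th3Pc : List ℕ := [9, 8, 7, 6, 5, 4, 3, 2, 1, 0]

/-- The conjugating members. -/
def th3Fw : List ℕ := [25, 42]

/-- The certificate. -/
def th3Cert : Cfsg.Lib.Schur.Prime.Cert where
  p := 3
  n := 10
  tails := [[[4, 5, 5, 6, 6, 9]], [[0, 1, 4, 4, 6, 6], [9, 9]], [[0, 2, 3, 3, 6, 6, 8, 8, 9], [1, 2, 4, 6, 6, 7, 8, 8, 9, 9], []], [[0, 3, 5, 6, 7, 7, 8, 8], [1, 3, 6, 6, 7, 9], [2, 3, 4, 4, 8], [8, 8, 9]], [[0, 4, 6, 8, 9], [1, 4, 8, 8, 9], [2, 4, 9], [3, 4, 8, 8], []], [[0, 5, 6, 7, 7, 8, 8, 9], [1, 5, 7, 7, 8, 9], [2, 5, 6, 6, 7, 8, 8, 9, 9], [3, 5, 7, 8, 8], [4, 5, 8, 8], [9]], [[0, 6, 7, 8, 8], [1, 6, 9, 9], [2, 6, 8, 9], [3, 6, 8, 8, 9], [4, 6], [5, 6, 9], []], [[0, 7, 8, 8, 9], [1, 7], [2, 7, 8, 8], [3, 7, 9], [4, 7], [5, 7], [6, 7], []], [[0,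 8, 9], [1, 8], [2, 8], [3, 8], [4, 8], [5, 8], [6, 8], [7, 8], []], [[0, 9], [1, 9], [2, 9], [3, 9], [4, 9], [5, 9], [6, 9], [7, 9], [8, 9], []]]
  overlaps := [([0, 0, 0, 0], 1), ([1, 0, 0, 0], 1), ([1, 1, 1, 0], 2), ([2, 1, 0], 1), ([3, 1, 0], 1), ([4, 1, 0], 1), ([5, 1, 0], 1), ([6, 1, 0], 1), ([7, 1, 0], 1), ([8, 1, 0], 1), ([9, 1, 0], 1), ([2, 0, 0, 0], 1), ([2, 2, 2, 0], 2), ([3, 2, 0], 1), ([4, 2, 0], 1), ([5, 2, 0], 1), ([6, 2, 0], 1), ([7, 2, 0], 1), ([8, 2, 0], 1), ([9, 2, 0], 1), ([3, 0, 0, 0], 1), ([3, 3, 3, 0], 2), ([4, 3, 0], 1), ([5, 3, 0], 1), ([6, 3, 0], 1), ([7, 3, 0], 1), ([8, 3, 0], 1), ([9, 3, 0], 1), ([4, 0, 0, 0], 1), ([4, 4, 4, 0], 2), ([5, 4, 0], 1), ([6, 4, 0], 1), ([7, 4, 0], 1), ([8, 4, 0], 1), ([9, 4, 0], 1), ([5, 0, 0, 0], 1), ([5, 5, 5, 0], 2), ([6, 5, 0], 1), ([7,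 5, 0], 1), ([8, 5, 0], 1), ([9, 5, 0], 1), ([6, 0, 0, 0], 1), ([6, 6, 6, 0], 2), ([7, 6, 0], 1), ([8, 6, 0], 1), ([9, 6, 0], 1), ([7, 0, 0, 0], 1), ([7, 7, 7, 0], 2), ([8, 7, 0], 1), ([9, 7, 0], 1), ([8, 0, 0, 0], 1), ([8, 8, 8, 0], 2), ([9, 0, 0, 0], 1), ([1, 1, 1, 1], 1), ([2, 1, 1, 1], 1), ([2, 2, 2, 1], 2), ([3, 2, 1], 1), ([4, 2, 1], 1), ([5, 2, 1], 1), ([6, 2, 1], 1), ([7, 2, 1], 1), ([8, 2, 1], 1), ([9, 2, 1], 1), ([3, 1, 1, 1], 1), ([3, 3, 3, 1], 2), ([4, 3, 1], 1), ([5, 3, 1], 1), ([6, 3, 1], 1), ([7, 3, 1], 1), ([8, 3, 1], 1), ([9, 3, 1], 1), ([4, 1, 1, 1], 1), ([4, 4, 4, 1], 2), ([5, 4, 1], 1), ([6, 4, 1], 1), ([7, 4, 1], 1), ([8, 4, 1], 1), ([9, 4, 1], 1), ([5, 1, 1, 1], 1), ([5, 5, 5, 1], 2), ([6, 5, 1], 1), ([7, 5, 1], 1), ([8, 5, 1], 1), ([9, 5, 1], 1), ([6, 1, 1, 1], 1), ([6,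 6, 6, 1], 2), ([7, 6, 1], 1), ([8, 6, 1], 1), ([7, 1, 1, 1], 1), ([8, 1, 1, 1], 1), ([3, 2, 2, 2], 1), ([3, 3, 3, 2], 2), ([4, 3, 2], 1), ([5, 3, 2], 1), ([6, 3, 2], 1), ([7, 3, 2], 1), ([8, 3, 2], 1), ([9, 3, 2], 1), ([4, 2, 2, 2], 1), ([4, 4, 4, 2], 2), ([5, 4, 2], 1), ([6, 4, 2], 1), ([7, 4, 2], 1), ([8, 4, 2], 1), ([5, 2, 2, 2], 1), ([5, 5, 5, 2], 2), ([6, 5, 2], 1), ([7, 5, 2], 1), ([8, 5, 2], 1), ([9, 5, 2], 1), ([6, 2, 2, 2], 1), ([6, 6, 6, 2], 2), ([7, 6, 2], 1), ([8, 6, 2], 1), ([9, 6, 2], 1), ([7, 2, 2, 2], 1), ([7, 7, 7, 2], 2), ([9, 7, 2], 1), ([3, 3, 3, 3], 1), ([4, 3, 3, 3], 1), ([4, 4, 4, 3], 2), ([5, 4, 3], 1), ([6, 4, 3], 1), ([7, 4, 3], 1), ([9, 4, 3], 1), ([5, 3, 3, 3], 1), ([5, 5, 5, 3], 2), ([6, 5, 3], 1), ([7, 5, 3], 1), ([8, 5, 3], 1), ([9, 5, 3], 1), ([6, 3, 3, 3], 1),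 ([6, 6, 6, 3], 2), ([7, 6, 3], 1), ([8, 6, 3], 1), ([9, 6, 3], 1), ([7, 3, 3, 3], 1), ([7, 7, 7, 3], 2), ([8, 7, 3], 1), ([8, 3, 3, 3], 1), ([9, 3, 3, 3], 1), ([5, 4, 4, 4], 1), ([5, 5, 5, 4], 2), ([6, 5, 4], 1), ([7, 5, 4], 1), ([9, 5, 4], 1), ([5, 5, 5, 5], 1), ([6, 5, 5, 5], 1), ([6, 6, 6, 5], 2), ([7, 6, 5], 1), ([8, 6, 5], 1), ([7, 5, 5, 5], 1), ([8, 5, 5, 5], 1)]
  fuse := [
    ([[0], [1], [2], [3], [4], [5], [6], [7], [8], [9]],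
      [[0, 0, 1, 2, 2, 3, 4, 5, 5, 6, 7, 7, 8], [1, 1, 4, 5, 8, 9, 9], [1, 2, 4, 5, 6, 6, 7, 8, 9, 9], [3, 3, 4, 5, 6, 8, 8, 9], [4, 4, 9, 9], [4, 4, 5, 7, 7, 8, 8], [6, 7, 7, 9, 9], [7, 7, 9], [8, 8], [9]],
      [([0, 0, 0], [4, 5, 5, 6, 6, 9]), ([1, 1, 1], [9, 9]), ([1, 0], [0, 1, 4, 4, 6, 6]), ([2, 2, 2], []), ([2, 0], [0, 2, 3, 3, 6, 6, 8, 8, 9]), ([2, 1], [1, 2, 4, 6, 6, 7, 8, 8, 9, 9]), ([3, 3, 3], [8, 8, 9]), ([3, 0], [0, 3, 5, 6, 7, 7, 8, 8]), ([3, 1], [1, 3, 6, 6, 7, 9]), ([3, 2], [2, 3, 4, 4, 8]), ([4, 4, 4], []), ([4, 0], [0, 4, 6, 8, 9]), ([4, 1], [1, 4, 8, 8, 9]), ([4, 2], [2, 4, 9]), ([4, 3], [3, 4, 8, 8]), ([5, 5, 5], [9]), ([5, 0], [0, 5, 6, 7, 7, 8, 8, 9]), ([5, 1], [1, 5, 7, 7, 8, 9]), ([5, 2], [2, 5, 6, 6, 7, 8, 8, 9, 9]), ([5, 3], [3, 5, 7, 8, 8]), ([5, 4], [4, 5, 8, 8]),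 ([6, 6, 6], []), ([6, 0], [0, 6, 7, 8, 8]), ([6, 1], [1, 6, 9, 9]), ([6, 2], [2, 6, 8, 9]), ([6, 3], [3, 6, 8, 8, 9]), ([6, 4], [4, 6]), ([6, 5], [5, 6, 9]), ([7, 7, 7], []), ([7, 0], [0, 7, 8, 8, 9]), ([7, 1], [1, 7]), ([7, 2], [2, 7, 8, 8]), ([7, 3], [3, 7, 9]), ([7, 4], [4, 7]), ([7, 5], [5, 7]), ([7, 6], [6, 7]), ([8, 8, 8], []), ([8, 0], [0, 8, 9]), ([8, 1], [1, 8]), ([8, 2], [2, 8]), ([8, 3], [3, 8]), ([8, 4], [4, 8]), ([8, 5], [5, 8]), ([8, 6], [6, 8]), ([8, 7], [7, 8]), ([9, 9, 9], []), ([9, 0], [0, 9]), ([9, 1], [1, 9]), ([9, 2], [2, 9]), ([9, 3], [3, 9]), ([9, 4], [4, 9]), ([9, 5], [5, 9]), ([9, 6], [6, 9]), ([9, 7], [7, 9]), ([9, 8], [8, 9])]),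
    ([[0], [1], [2], [3], [4], [5], [6], [7], [8], [9]],
      [[0, 0, 1, 1, 3, 4, 5, 5, 7, 8, 9, 9], [1, 5, 5, 6, 7, 8, 9], [1, 1, 2, 2, 4, 4, 5, 5, 6, 6, 8, 9], [3, 4, 4, 5, 5, 6, 8, 8], [4, 4, 8], [5, 5, 6, 6, 7, 7, 8, 8, 9, 9], [6, 7, 7, 8, 9], [7, 7, 8, 8], [8], [9, 9]],
      [([0, 0, 0], [4, 5, 5, 6, 6, 9]), ([1, 1, 1], [9, 9]), ([1, 0], [0, 1, 4, 4, 6, 6]), ([2, 2, 2], []), ([2, 0], [0, 2, 3, 3, 6, 6, 8, 8, 9]), ([2, 1], [1, 2, 4, 6, 6, 7, 8, 8, 9, 9]), ([3, 3, 3], [8, 8, 9]), ([3, 0], [0, 3, 5, 6, 7, 7, 8, 8]), ([3, 1], [1, 3, 6, 6, 7, 9]), ([3, 2], [2, 3, 4, 4, 8]), ([4, 4, 4], []), ([4, 0], [0, 4, 6, 8, 9]), ([4, 1], [1, 4, 8, 8, 9]), ([4, 2], [2, 4, 9]), ([4, 3], [3, 4, 8, 8]), ([5, 5, 5], [9]), ([5, 0], [0, 5, 6, 7, 7, 8, 8, 9]), ([5, 1], [1, 5, 7, 7, 8, 9]), ([5, 2], [2, 5, 6, 6,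 7, 8, 8, 9, 9]), ([5, 3], [3, 5, 7, 8, 8]), ([5, 4], [4, 5, 8, 8]), ([6, 6, 6], []), ([6, 0], [0, 6, 7, 8, 8]), ([6, 1], [1, 6, 9, 9]), ([6, 2], [2, 6, 8, 9]), ([6, 3], [3, 6, 8, 8, 9]), ([6, 4], [4, 6]), ([6, 5], [5, 6, 9]), ([7, 7, 7], []), ([7, 0], [0, 7, 8, 8, 9]), ([7, 1], [1, 7]), ([7, 2], [2, 7, 8, 8]), ([7, 3], [3, 7, 9]), ([7, 4], [4, 7]), ([7, 5], [5, 7]), ([7, 6], [6, 7]), ([8, 8, 8], []), ([8, 0], [0, 8, 9]), ([8, 1], [1, 8]), ([8, 2], [2, 8]), ([8, 3], [3, 8]), ([8, 4], [4, 8]), ([8, 5], [5, 8]), ([8, 6], [6, 8]), ([8, 7], [7, 8]), ([9, 9, 9], []), ([9, 0], [0, 9]), ([9, 1], [1, 9]), ([9, 2], [2, 9]), ([9, 3], [3, 9]), ([9, 4], [4, 9]), ([9, 5], [5, 9]), ([9, 6], [6, 9]), ([9, 7], [7, 9]), ([9, 8], [8, 9])])]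
  delta := [[], [], [], [(10, 1), (20, 2), (21, 1), (31, 2)], [(0, 1), (10, 2), (11, 1), (21, 2), (30, 1), (31, 2)], [(0, 1), (10, 2), (11, 1), (21, 1), (30, 2), (31, 1)], [(0, 2), (11, 2), (21, 1), (30, 2), (31, 1)], [(0, 2), (21, 1), (30, 2), (31, 2)], [(0, 1), (10, 2), (21, 1), (30, 1)], [(11, 2)]]
  sels := [
    [[]],
    [[], []],
    [[], [], [(0, 2), (2, 2), (9, 1), (11, 1), (12, 1), (13, 2), (14, 2), (15, 1), (17, 1), (18, 2), (19, 2), (20, 1), (21, 2), (22, 2), (23, 1), (24, 2), (25, 2), (26, 1), (27, 2), (29, 2), (30, 2), (31, 2), (32, 2), (33, 1), (37, 2), (38, 1), (156, 2), (211, 2)]],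
    [[], [], [(0, 1), (1, 2), (2, 2), (4, 1), (5, 2), (6, 2), (9, 1), (10, 2), (11, 2), (12, 2), (13, 1), (14, 2), (17, 1), (18, 1), (19, 2), (22, 2), (24, 1), (25, 2), (26, 1), (30, 2), (31, 2), (32, 1), (34, 2), (35, 1), (36, 1), (40, 2), (154, 2), (158, 2), (161, 1), (162, 2)], [(0, 2), (2, 1), (3, 2), (4, 1), (6, 1), (8, 2), (11, 2), (12, 2), (13, 1), (14, 2), (16, 1), (18, 1), (20, 1), (21, 1), (23, 1), (25, 1), (27, 2), (28, 1), (29, 2), (31, 2), (32, 1), (34, 1), (35, 1), (36, 1), (37, 2), (40, 1), (154, 1), (155, 2), (158, 2), (161, 1), (164, 2), (208, 2), (209, 2), (210, 1), (213, 2), (214, 2), (215, 2)]],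
    [[(1, 2), (3, 2), (4, 1), (5, 1), (6, 1), (7, 2), (9, 1), (10, 1), (14, 2), (18, 1), (20, 1), (21, 1), (22, 2), (23, 1), (24, 1), (25, 2), (26, 2), (27, 2), (28, 2), (29, 2), (31, 1), (32, 2), (33, 1), (34, 1), (36, 2), (38, 1), (154, 1), (155, 2), (158, 2), (161, 1), (164, 2), (209, 1), (210, 2), (213, 2), (216, 1), (219, 2)], [(0, 1), (2, 1), (5, 2), (6, 1), (8, 2), (9, 2), (10, 2), (11, 2), (13, 2), (15, 1), (16, 1), (19, 2), (20, 2), (21, 1), (22, 2), (23, 1), (24, 1), (26, 2), (27, 1), (29, 1), (30, 1), (31, 1), (32, 2), (33, 1), (35, 1), (36, 1), (38, 1), (39, 2), (40, 2), (153, 1), (154, 2), (155, 1), (156, 1), (159, 1), (160, 1), (161, 1), (164, 2), (208, 1), (209, 2), (210, 1), (211, 1), (214, 1), (215, 1), (216, 1), (219, 2)], [(1, 1), (2, 2), (3, 1), (4, 1), (5, 1), (6, 2), (7,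 2), (8, 1), (9, 1), (10, 2), (11, 2), (12, 1), (13, 2), (14, 1), (15, 1), (18, 1), (19, 2), (20, 1), (22, 1), (24, 1), (25, 1), (27, 1), (29, 1), (30, 1), (31, 1), (32, 1), (34, 1), (35, 1), (36, 1), (38, 1), (39, 1), (40, 1), (153, 1), (154, 1), (155, 2), (158, 1), (159, 1), (160, 1), (208, 2), (211, 1), (213, 1), (214, 2), (215, 2), (216, 1), (219, 2)], [(1, 2), (2, 1), (3, 1), (5, 2), (6, 2), (7, 1), (10, 1), (11, 2), (12, 2), (14, 1), (15, 2), (16, 2), (17, 2), (18, 2), (19, 1), (22, 1), (23, 1), (25, 1), (28, 1), (29, 2), (30, 2), (31, 2), (33, 1), (35, 1), (38, 1), (39, 2), (153, 2), (158, 1), (159, 2), (160, 2), (161, 1), (164, 2), (209, 2), (210, 1), (211, 2), (213, 1), (216, 2), (219, 1)], [(2, 1), (5, 1), (6, 2), (7, 2), (8, 1), (9, 2), (10, 1), (14, 2), (15, 1), (16, 1), (19, 1), (20,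 1), (21, 1), (23, 2), (24, 1), (25, 1), (26, 2), (27, 2), (28, 2), (29, 2), (31, 2), (33, 2), (36, 2), (38, 2), (39, 1), (40, 2)]],
    [[(0, 2), (2, 1), (3, 2), (4, 2), (6, 1), (7, 1), (8, 2), (9, 1), (10, 1), (11, 2), (12, 2), (15, 2), (17, 2), (19, 1), (21, 2), (23, 1), (24, 2), (25, 1), (26, 2), (27, 2), (28, 1), (29, 2), (33, 2), (35, 1), (36, 2), (37, 1), (40, 2), (153, 2), (156, 1), (158, 1), (159, 2), (160, 2), (161, 1), (164, 2), (209, 2), (210, 1), (211, 2), (213, 1), (216, 2), (219, 1)], [(0, 1), (1, 2), (2, 1), (3, 2), (4, 2), (5, 1), (7, 1), (8, 2), (9, 1), (10, 1), (11, 1), (13, 1), (16, 2), (17, 1), (18, 1), (20, 2), (22, 1), (23, 1), (24, 1), (25, 2), (26, 2), (27, 2), (28, 1), (29, 2), (30, 1), (32, 2), (33, 1), (34, 2), (35, 1), (36, 2), (38, 2), (39, 2), (154, 2), (155, 1),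 (156, 2), (158, 1), (161, 2), (164, 1), (208, 2), (209, 1), (210, 2), (214, 2), (215, 2), (216, 2), (219, 1)], [(1, 1), (2, 1), (4, 1), (5, 2), (6, 2), (8, 1), (9, 2), (11, 2), (12, 2), (13, 2), (14, 2), (16, 1), (17, 2), (21, 1), (22, 1), (25, 2), (27, 1), (28, 2), (30, 2), (32, 2), (33, 2), (35, 2), (36, 1), (37, 1), (40, 1), (153, 2), (156, 2), (158, 1), (159, 2), (160, 2), (161, 1), (164, 2), (209, 2), (210, 1), (211, 2), (213, 1), (216, 2), (219, 1)], [(0, 1), (2, 1), (10, 2), (11, 2), (15, 2), (17, 2), (18, 2), (19, 2), (22, 2), (23, 1), (24, 2), (25, 1), (27, 1), (29, 1), (32, 2), (33, 2), (34, 1), (35, 2), (36, 2), (38, 2), (154, 2), (155, 1), (156, 2), (158, 1), (161, 2), (164, 1), (208, 1), (209, 2), (210, 1), (214, 1), (215, 1), (216, 1), (219, 2)], [(1, 1), (3, 1), (4, 2), (5, 1),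 (6, 1), (7, 1), (8, 2), (9, 2), (12, 2), (13, 1), (14, 1), (16, 2), (17, 1), (18, 1), (19, 2), (20, 2), (21, 2), (22, 2), (24, 1), (26, 2), (27, 2), (28, 1), (29, 1), (30, 2), (31, 2), (32, 2), (33, 2), (34, 2), (36, 2), (37, 1), (38, 1), (40, 2), (154, 2), (155, 1), (158, 1), (161, 2), (164, 1), (208, 2), (209, 2), (210, 1), (213, 2), (214, 2), (215, 2)], [(0, 2), (1, 2), (2, 2), (3, 2), (7, 2), (8, 2), (9, 2), (10, 1), (13, 1), (14, 1), (15, 1), (16, 1), (19, 2), (20, 2), (21, 2), (22, 1), (24, 2), (28, 2), (29, 1), (30, 1), (31, 2), (32, 1), (33, 2), (34, 2), (35, 1), (37, 1), (38, 2), (40, 1), (154, 1), (155, 2), (156, 1), (158, 2), (161, 1), (164, 2)]],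
    [[(1, 2), (2, 2), (4, 2), (5, 2), (6, 2), (8, 1), (10, 2), (11, 1), (12, 1), (16, 2), (17, 1), (18, 1), (19, 1), (21, 1), (26, 1), (28, 2), (29, 1), (31, 1), (32, 1), (33, 2), (34, 1), (35, 1), (37, 2), (38, 2), (40, 1), (153, 1), (154, 1), (155, 2), (156, 2), (158, 1), (159, 1), (160, 1), (209, 2), (210, 1), (211, 1), (213, 1), (216, 2), (219, 1)], [(1, 1), (3, 1), (6, 2), (8, 2), (9, 1), (10, 1), (11, 1), (12, 1), (13, 1), (14, 2), (15, 2), (16, 1), (19, 1), (20, 1), (21, 1), (22, 1), (23, 2), (24, 2), (26, 1), (27, 2), (28, 2), (31, 1), (32, 1), (33, 1), (34, 1), (36, 2), (37, 1), (38, 1), (39, 1), (40, 2), (154, 2), (155, 1), (156, 2), (158, 1), (161, 2), (164, 1)], [(0, 2), (1, 2), (3, 1), (4, 2), (5, 2), (6, 1), (7, 2), (8, 1), (9, 1), (11, 2), (12, 1), (13, 2), (14, 2), (16, 2), (17,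 2), (18, 2), (19, 1), (20, 1), (21, 2), (23, 1), (24, 1), (26, 2), (27, 1), (28, 2), (29, 2), (31, 1), (32, 2), (33, 2), (34, 1), (35, 2), (36, 1), (153, 2), (156, 1), (158, 1), (159, 2), (160, 2), (161, 1), (164, 2), (208, 2), (209, 1), (210, 2), (211, 2), (214, 2), (215, 2), (216, 2), (219, 1)], [(4, 2), (6, 2), (7, 1), (8, 2), (10, 1), (11, 2), (12, 1), (14, 1), (15, 2), (16, 2), (17, 1), (18, 1), (19, 1), (20, 2), (21, 2), (22, 2), (23, 1), (24, 1), (26, 1), (28, 2), (30, 1), (31, 1), (32, 2), (33, 2), (34, 2), (35, 2), (36, 1), (37, 2), (38, 1), (39, 1), (40, 2), (156, 1), (208, 2), (209, 2), (210, 1), (213, 2), (214, 2), (215, 2)], [(0, 2), (2, 2), (5, 2), (6, 1), (7, 1), (8, 2), (9, 1), (10, 1), (11, 1), (12, 1), (13, 2), (16, 2), (19, 1), (21, 1), (22, 1), (24, 1), (25, 2), (26, 2), (27,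 1), (28, 2), (29, 2), (30, 2), (31, 1), (32, 2), (35, 1), (36, 1), (39, 1), (40, 1)], [(0, 2), (1, 2), (2, 2), (3, 2), (5, 2), (6, 1), (8, 2), (9, 2), (13, 1), (14, 1), (15, 1), (16, 1), (19, 2), (20, 2), (22, 1), (24, 1), (25, 2), (28, 1), (30, 1), (31, 1), (32, 2), (33, 1), (34, 1), (36, 1), (37, 1), (39, 2), (154, 1), (155, 2), (156, 1), (158, 2), (161, 1), (164, 2)], [(5, 2), (6, 1), (7, 1), (14, 2), (15, 1), (16, 1), (20, 1), (21, 1), (22, 2), (24, 2), (25, 1), (26, 1), (27, 1), (28, 1), (30, 1), (31, 1), (32, 2), (33, 2), (35, 2), (37, 1), (40, 1)]],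
    [[(0, 2), (2, 2), (4, 2), (5, 1), (6, 1), (8, 1), (9, 1), (10, 1), (12, 2), (13, 2), (14, 1), (15, 2), (16, 1), (17, 1), (18, 1), (19, 1), (20, 2), (22, 2), (24, 1), (28, 1), (29, 2), (30, 2), (31, 1), (32, 2), (36, 2), (38, 2), (39, 1), (40, 1), (156, 1), (208, 2), (209, 2), (210, 1), (213, 2), (214, 2), (215, 2)], [(0, 2), (2, 2), (5, 1), (6, 2), (7, 1), (10, 2), (11, 1), (12, 1), (13, 2), (14, 2), (15, 1), (20, 1), (21, 2), (22, 2), (23, 1), (24, 1), (26, 2), (27, 1), (28, 2), (29, 1), (33, 1), (36, 2), (37, 2), (39, 1), (40, 2)], [(1, 1), (3, 1), (4, 2), (5, 1), (6, 1), (7, 1), (8, 2), (9, 2), (10, 2), (12, 2), (13, 1), (14, 2), (15, 2), (17, 2), (20, 1), (21, 1), (22, 1), (23, 1), (25, 1), (26, 1), (30, 1), (31, 2), (33, 1), (34, 2), (35, 1), (36, 2), (37, 2), (38, 1), (39, 1), (154,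 2), (155, 1), (158, 1), (161, 2), (164, 1), (208, 2), (209, 2), (210, 1), (213, 2), (214, 2), (215, 2)], [(0, 1), (1, 2), (2, 1), (3, 2), (5, 2), (6, 1), (8, 1), (10, 1), (11, 1), (12, 1), (15, 2), (16, 1), (19, 1), (21, 2), (22, 2), (23, 2), (24, 2), (27, 2), (29, 1), (32, 2), (37, 1), (38, 2), (40, 1), (154, 1), (155, 2), (156, 1), (158, 2), (161, 1), (164, 2)], [(31, 2), (32, 1), (33, 2), (34, 2)], [(5, 2), (6, 1), (7, 1), (14, 1), (15, 2), (16, 2), (19, 1), (20, 2), (21, 2), (23, 1), (24, 2), (25, 2), (27, 1), (28, 2), (30, 2), (31, 1), (32, 1), (33, 2), (34, 1), (35, 2), (37, 2), (38, 2), (39, 1), (40, 1)], [(5, 1), (6, 2), (7, 2), (19, 2), (22, 1), (23, 2), (24, 2), (26, 2), (27, 1), (28, 2), (29, 2), (32, 1), (33, 2), (34, 2), (35, 1), (36, 1), (37, 2), (39, 1)], [(5, 1), (6, 2), (7, 2),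 (10, 1), (27, 1), (28, 1), (29, 2), (31, 1), (32, 2), (33, 1), (34, 1), (35, 1), (38, 2), (39, 1), (40, 2)]],
    [[(1, 2), (3, 2), (5, 2), (6, 1), (9, 1), (10, 1), (11, 2), (12, 2), (13, 2), (14, 2), (16, 1), (19, 1), (20, 1), (21, 1), (23, 1), (24, 2), (25, 2), (27, 1), (28, 2), (29, 2), (30, 2), (31, 2), (32, 2), (33, 1), (36, 2), (37, 1), (38, 2), (154, 1), (155, 2), (156, 1), (158, 2), (161, 1), (164, 2)], [(5, 2), (6, 1), (7, 1), (8, 1), (9, 2), (19, 2), (22, 2), (23, 1), (24, 1), (26, 2), (27, 1), (28, 1), (29, 1), (31, 1), (35, 2), (36, 2), (37, 1), (38, 1), (39, 1)], [(0, 2), (2, 2), (5, 2), (6, 1), (7, 1), (8, 2), (9, 1), (10, 2), (11, 1), (12, 1), (13, 2), (14, 2), (15, 1), (17, 1), (18, 2), (19, 2), (20, 1), (21, 2), (24, 1), (25, 2), (26, 1), (29, 2), (30, 2), (31, 2), (32, 2), (33,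 1), (34, 2), (35, 2), (36, 1), (37, 1), (40, 1)], [(19, 2), (25, 1), (26, 1), (27, 1), (34, 2), (37, 2), (38, 1), (39, 1)], [(10, 1), (19, 2), (26, 2), (27, 1), (32, 1), (34, 2), (38, 2), (39, 1)], [(5, 2), (6, 1), (7, 1), (10, 1), (19, 2), (22, 2), (23, 1), (24, 1), (26, 2), (27, 2), (28, 1), (29, 1), (32, 2), (33, 2), (34, 1), (35, 2), (36, 2), (37, 1), (38, 2), (39, 2), (40, 1)], [(10, 2), (33, 2)], [(5, 2), (6, 1), (7, 1), (22, 2), (23, 1), (24, 1), (27, 1), (28, 1), (29, 1), (32, 2), (33, 1), (34, 2), (35, 2), (36, 2), (37, 1), (38, 2), (39, 2), (40, 1)], [(5, 2), (6, 1), (7, 1), (22, 1), (23, 2), (24, 2), (27, 2), (28, 2), (29, 1), (30, 1), (31, 2), (32, 1), (33, 2), (34, 2), (36, 1), (37, 2), (38, 2), (40, 1)]],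
    [[(5, 1), (6, 2), (7, 2), (10, 1), (14, 1), (15, 2), (16, 2), (20, 2), (21, 2), (22, 2), (23, 2), (25, 2), (26, 2), (27, 1), (29, 1), (30, 2), (31, 1), (33, 1), (34, 1), (35, 1), (36, 2), (37, 1), (38, 2), (39, 1)], [(9, 2), (10, 1), (19, 2), (26, 2), (27, 1), (32, 1), (33, 2), (34, 2), (38, 2), (39, 1)], [(5, 1), (6, 2), (7, 2), (10, 1), (18, 2), (22, 1), (23, 2), (24, 2), (25, 1), (26, 1), (27, 2), (28, 2), (29, 2), (32, 1), (35, 1), (36, 1), (37, 1), (38, 2), (40, 2)], [(19, 1), (34, 1)], [(5, 1), (6, 2), (7, 2), (22, 1), (23, 2), (24, 2), (27, 1), (28, 2), (29, 2), (32, 1), (33, 1), (34, 2), (35, 1), (36, 1), (37, 2), (38, 1), (39, 2), (40, 2)], [(27, 2), (40, 1)], [(5, 2), (6, 1), (7, 1), (10, 1), (22, 2), (23, 1), (24, 1), (27, 2), (28, 1), (29, 1), (32, 2), (33, 2), (34, 1), (35, 2),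 (36, 2), (37, 1), (38, 2), (39, 1), (40, 1)], [(5, 1), (6, 2), (7, 2), (10, 2), (22, 1), (23, 2), (24, 2), (27, 1), (28, 2), (29, 2), (32, 1), (33, 1), (35, 1), (36, 1), (37, 2), (38, 1), (39, 2)], [(5, 1), (6, 2), (7, 2), (10, 2), (22, 1), (23, 2), (24, 2), (27, 1), (28, 2), (29, 2), (32, 1), (33, 1), (34, 1), (35, 1), (36, 1), (37, 2), (38, 1), (39, 2), (40, 2)], [(5, 2), (6, 1), (7, 1), (14, 1), (15, 2), (16, 2), (20, 2), (21, 2), (23, 1), (24, 2), (25, 2), (26, 2), (29, 1), (30, 1), (33, 2), (34, 1), (35, 1), (36, 2), (38, 1), (40, 1)]]]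

end Cfsg.Lib.ThMult
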