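import Cfsg.Agent.ThMult.Checks
import Cfsg.Agent.ThMult.P3Data

/-!
Checks at the prime 3.
-/

set_option autoImplicit false
set_option maxRecDepth 100000
set_option maxHeartbeats 4000000
set_option exponentiation.threshold 3000
set_option Elab.async false

namespace Cfsg.Lib.ThMult

theorem th3_fus0_2 : conjRel th3Cert th3Mats th3Pc th3Fw th3Defs.length 0 2 = true := by decide +kernel

theorem th3_fus0_3 : conjRel th3Cert th3Mats th3Pc th3Fw th3Defs.length 0 3 = true := by decide +kernel

theorem th3_fus0_4 : conjRel th3Cert th3Mats th3Pc th3Fw th3Defs.length 0 4 = true := by decide +kernel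

theorem th3_fus0_5 : conjRel th3Cert th3Mats th3Pc th3Fw th3Defs.length 0 5 = true := by decide +kernel

theorem th3_fus0_6 : conjRel th3Cert th3Mats th3Pc th3Fw th3Defs.length 0 6 = true := by decide +kernel

theorem th3_fus0_7 : conjRel th3Cert th3Mats th3Pc th3Fw th3Defs.length 0 7 = true := by decide +kernel

theorem th3_fus0_8 : conjRel th3Cert th3Mats th3Pc th3Fw th3Defs.length 0 8 = true := by decide +kernel

theorem th3_fus0_9 : conjRel th3Cert th3Mats th3Pc th3Fw th3Defs.length 0 9 = true := by decide +kernel

theorem th3_fus1_0 : conjRel th3Cert th3Mats th3Pc th3Fw th3Defs.length 1 0 = true := by decide +kernel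

theorem th3_fus1_1 : conjRel th3Cert th3Mats th3Pc th3Fw th3Defs.length 1 1 = true := by decide +kernel

theorem th3_fus1_2 : conjRel th3Cert th3Mats th3Pc th3Fw th3Defs.length 1 2 = true := by decide +kernel

theorem th3_fus1_3 : conjRel th3Cert th3Mats th3Pc th3Fw th3Defs.length 1 3 = true := by decide +kernel

theorem th3_fus1_4 : conjRel th3Cert th3Mats th3Pc th3Fw th3Defs.length 1 4 = true := by decide +kernel

theorem th3_fus1_5 : conjRel th3Cert th3Mats th3Pc th3Fw th3Defs.length 1 5 = true := by decide +kernel

theorem th3_fus1_6 : conjRel th3Cert th3Mats th3Pc th3Fw th3Defs.length 1 6 = true := by decide +kernel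

theorem th3_fus1_7 : conjRel th3Cert th3Mats th3Pc th3Fw th3Defs.length 1 7 = true := by decide +kernel

theorem th3_fus1_8 : conjRel th3Cert th3Mats th3Pc th3Fw th3Defs.length 1 8 = true := by decide +kernel

theorem th3_fus1_9 : conjRel th3Cert th3Mats th3Pc th3Fw th3Defs.length 1 9 = true := by decide +kernel

end Cfsg.Lib.ThMult
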