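import Cfsg.Agent.ThMult.Checks
import Cfsg.Agent.ThMult.P3Data

/-!
Checks at the prime 3.
-/

set_option autoImplicit false
set_option maxRecDepth 100000
set_option maxHeartbeats 4000000
set_option exponentiation.threshold 3000
set_option Elab.async false

namespace Cfsg.Lib.ThMult

theorem th3_entry19 : entryOK th3Mats 19 (th3Defs.getD 19 (true, [])) = true := by decide +kernel

theorem th3_entry20 : entryOK th3Mats 20 (th3Defs.getD 20 (true, [])) = true := by decide +kernel

theorem th3_entry21 : entryOK th3Mats 21 (th3Defs.getD 21 (true, [])) = true := by decide +kernel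

theorem th3_entry22 : entryOK th3Mats 22 (th3Defs.getD 22 (true, [])) = true := by decide +kernel

theorem th3_entry23 : entryOK th3Mats 23 (th3Defs.getD 23 (true, [])) = true := by decide +kernel

end Cfsg.Lib.ThMult
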