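import Cfsg.Agent.ThMult.Checks
import Cfsg.Agent.ThMult.P3Data

/-!
Checks at the prime 3.
-/

set_option autoImplicit false
set_option maxRecDepth 100000
set_option maxHeartbeats 4000000
set_option exponentiation.threshold 3000
set_option Elab.async false

namespace Cfsg.Lib.ThMult

theorem th3_entry29 : entryOK th3Mats 29 (th3Defs.getD 29 (true, [])) = true := by decide +kernel

theorem th3_entry30 : entryOK th3Mats 30 (th3Defs.getD 30 (true, [])) = true := by decide +kernel

theorem th3_entry31 : entryOK th3Mats 31 (th3Defs.getD 31 (true, [])) = true := by decide +kernel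

theorem th3_entry32 : entryOK th3Mats 32 (th3Defs.getD 32 (true, [])) = true := by decide +kernel

theorem th3_entry33 : entryOK th3Mats 33 (th3Defs.getD 33 (true, [])) = true := by decide +kernel

end Cfsg.Lib.ThMult
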