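import Cfsg.Agent.ThMult.Checks
import Cfsg.Agent.ThMult.P3Data

/-!
Checks at the prime 3.
-/

set_option autoImplicit false
set_option maxRecDepth 100000
set_option maxHeartbeats 4000000
set_option exponentiation.threshold 3000
set_option Elab.async false

namespace Cfsg.Lib.ThMult

theorem th3_entry34 : entryOK th3Mats 34 (th3Defs.getD 34 (true, [])) = true := by decide +kernel

theorem th3_entry35 : entryOK th3Mats 35 (th3Defs.getD 35 (true, [])) = true := by decide +kernel

theorem th3_entry36 : entryOK th3Mats 36 (th3Defs.getD 36 (true, [])) = true := by decide +kernel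

theorem th3_entry37 : entryOK th3Mats 37 (th3Defs.getD 37 (true, [])) = true := by decide +kernel

theorem th3_entry38 : entryOK th3Mats 38 (th3Defs.getD 38 (true, [])) = true := by decide +kernel

end Cfsg.Lib.ThMult
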