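import Cfsg.Agent.ThMult.P3Chk0
import Cfsg.Agent.ThMult.P3Chk1
import Cfsg.Agent.ThMult.P3Chk2
import Cfsg.Agent.ThMult.P3Chk3
import Cfsg.Agent.ThMult.P3Chk4
import Cfsg.Agent.ThMult.P3Chk5
import Cfsg.Agent.ThMult.P3Chk6
import Cfsg.Agent.ThMult.P3Chk7
import Cfsg.Agent.ThMult.P3Chk8
import Cfsg.Agent.ThMult.P3Chk9
import Cfsg.Agent.ThMult.P3Chk10
import Cfsg.Agent.ThMult.P3Chk11

/-!
All checks at the prime 3.
-/

set_option autoImplicit false
set_option maxRecDepth 100000
set_option maxHeartbeats 4000000
set_option exponentiation.threshold 3000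
set_option Elab.async false

namespace Cfsg.Lib.ThMult

theorem th3_ok : th3Cert.ok = true := by decide +kernel

theorem th3_len : th3Defs.length = 43 ∧ th3Cert.n = 10 ∧ th3Cert.p = 3 ∧ th3Cert.fuse.map (fun t => t.1.length) = [10, 10] := by
  decide +kernel

theorem th3_entries : ∀ i < th3Defs.length, entryOK th3Mats i (th3Defs.getD i (true, [])) = true := by
  intro i hi
  rw [th3_len.1] at hi
  interval_cases i
  exacts [th3_entry0, th3_entry1, th3_entry2, th3_entry3, th3_entry4, th3_entry5, th3_entry6, th3_entry7, th3_entry8, th3_entry9, th3_entry10, th3_entry11, th3_entry12, th3_entry13, th3_entry14, th3_entry15, th3_entry16, th3_entry17, th3_entry18, th3_entry19, th3_entry20, th3_entry21, th3_entry22, th3_entry23, th3_entry24, th3_entry25, th3_entry26, th3_entry27, th3_entry28, th3_entry29, th3_entry30, th3_entry31, th3_entry32, th3_entry33, th3_entry34, th3_entry35, th3_entry36, th3_entry37, th3_entry38, th3_entry39, th3_entry40, th3_entry41, th3_entry42]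

theorem th3_rules : ∀ j < th3Cert.n, ∀ i ≤ j, ruleOK th3Cert th3Mats th3Pc j i = true := by
  intro j hj i hi
  rw [th3_len.2.1] at hj
  interval_cases j
  all_goals first
    | exact List.all_eq_true.1 th3_rule0 i (List.mem_range.2 (by omega))
    | exact List.all_eq_true.1 th3_rule1 i (List.mem_range.2 (by omega))
    | exact List.all_eq_true.1 th3_rule2 i (List.mem_range.2 (by omega))
    | exact List.all_eq_true.1 th3_rule3 i (List.mem_range.2 (by omega))
    | exact List.all_eq_true.1 th3_rule4 i (List.mem_range.2 (by omega))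
    | exact List.all_eq_true.1 th3_rule5 i (List.mem_range.2 (by omega))
    | exact List.all_eq_true.1 th3_rule6 i (List.mem_range.2 (by omega))
    | exact List.all_eq_true.1 th3_rule7 i (List.mem_range.2 (by omega))
    | exact List.all_eq_true.1 th3_rule8 i (List.mem_range.2 (by omega))
    | exact List.all_eq_true.1 th3_rule9 i (List.mem_range.2 (by omega))

theorem th3_fus : ∀ f < th3Cert.fuse.length, ∀ k < (th3Cert.fuse.getD f ([], [], [])).1.length,
    conjRel th3Cert th3Mats th3Pc th3Fw th3Defs.length f k = true := by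
  intro f hf k hk
  have e := th3_len.2.2.2
  have h1 : (th3Cert.fuse.map fun t => t.1.length).getD f 0 = (th3Cert.fuse.getD f ([], [], [])).1.length :=
    List.getD_map _ ([], [], []) fun t => t.1.length
  rw [e] at h1
  rw [← h1] at hk
  have hf' : f < 2 := by
    have := congrArg List.length e
    rw [List.length_map] at this
    rw [this] at hf
    simpa using hf
  interval_cases f
  · simp only [List.getD_cons_succ, List.getD_cons_zero] at hk
    interval_cases k
    exacts [th3_fus0_0, th3_fus0_1, th3_fus0_2, th3_fus0_3, th3_fus0_4, th3_fus0_5, th3_fus0_6, th3_fus0_7, th3_fus0_8, th3_fus0_9]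
  · simp only [List.getD_cons_succ, List.getD_cons_zero] at hk
    interval_cases k
    exacts [th3_fus1_0, th3_fus1_1, th3_fus1_2, th3_fus1_3, th3_fus1_4, th3_fus1_5, th3_fus1_6, th3_fus1_7, th3_fus1_8, th3_fus1_9]

theorem th3_pc : ∀ k < 10, th3Pc.getD k 0 = 10 - 1 - k := by
  decide +kernel

end Cfsg.Lib.ThMult
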