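import Cfsg.Agent.Schur.PrimeCert
import Cfsg.Agent.ThRep.Data.Syl5
import Cfsg.Agent.ThRep.Data.Syl5Mat
import Cfsg.Agent.ThMult.P5Mat0
import Cfsg.Agent.ThMult.P5Mat1

/-!
A certificate at the prime 5 for the presented Thompson group.
-/

set_option autoImplicit false
set_option maxRecDepth 100000
set_option maxHeartbeats 4000000
set_option exponentiation.threshold 3000


namespace Cfsg.Lib.ThMult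

/-- The matrices. -/
def th5Mats : List (List ℕ) :=
  Cfsg.Lib.ThRep.p5Mats ++ [th5M3 , th5M4 , th5M5 , th5M6 , th5M7 , th5M8 , th5M9 , th5M10 , th5M11 , th5M12 , th5M13 , th5M14 , th5M15 , th5M16 , th5M17 , th5M18 , th5M19 , th5M20 , th5M21 , th5M22]

/-- The definitions of the members. -/
def th5Defs : List (Bool × List ℕ) :=
  (Cfsg.Lib.ThRep.p5Words.map fun w => (true, w)) ++ [(true, [7, 3, 7, 12, 5, 7, 13, 12, 15, 5, 3, 10, 1, 15, 3, 5, 9, 5, 1, 10, 11, 5, 9, 14, 14, 14, 10, 7, 10, 9, 1, 1, 7, 9, 15, 9, 10, 9, 9, 1, 7, 5, 9, 11, 13, 3, 11, 5, 9, 7]),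
   (true, [3, 1, 10, 1, 7, 3, 5, 9, 12, 10, 3, 10, 5, 14, 3, 14, 7, 5, 13, 10, 9, 11, 5, 3, 1, 3, 5, 3, 11, 7, 5, 11, 1, 3, 9, 12, 11, 9, 12, 10, 7, 3, 5, 5, 7, 3, 5, 9, 3, 10]),
   (true, [3, 11, 1, 7, 11, 5, 5, 12, 7, 7, 15, 14, 3, 9, 5, 12, 7, 10, 11, 7, 14, 15, 15, 1, 3, 9, 11, 14, 1, 11, 1, 14, 7, 1, 15, 12, 11, 5, 10, 5, 5, 3, 3, 13, 3, 3, 3, 9, 3, 3]),
   (true, [3, 7, 9, 10, 14, 9, 3, 14, 3, 9, 10, 7, 13, 1, 5, 15, 9, 13, 7, 12, 12, 1, 15, 3, 7, 5, 5, 1, 12, 13, 9, 10, 3, 7, 9, 15, 9, 14, 3, 15, 7, 13, 1, 13, 9, 7, 9, 13, 11, 1]),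
   (true, [9, 10, 12, 7, 9, 7, 15, 10, 1, 12, 7, 9, 9, 9, 9, 11, 15, 12, 15, 1, 3, 5, 7, 9, 13, 1, 13, 13, 10, 7, 9, 11, 5, 15, 15, 1, 1, 1, 7, 14, 7, 9, 7, 10, 13, 14, 1, 14, 15, 15]),
   (true, [15, 9, 1, 12, 3, 13, 3, 7, 9, 3, 13, 7, 15, 3, 1, 3, 7, 5, 14, 13, 15, 9, 5, 3, 12, 7, 10, 5, 1, 5, 9, 9, 11, 5, 5, 14, 7, 14, 7, 3, 1, 7, 5, 3, 13, 5, 9, 7, 3, 11]),
   (true, [9, 5, 7, 5, 5, 1, 7, 3, 10, 14, 9, 11, 7, 1, 3, 14, 15, 14, 3, 11, 5, 13, 1, 9, 3, 3, 1, 9, 5, 3, 12, 9, 9, 14, 5, 10, 7, 3, 9, 15, 5, 13, 12, 14, 3, 14, 9, 13, 7, 11]),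
   (true, [3, 3, 9, 3, 3, 3, 12, 3, 3, 5, 5, 11, 5, 10, 13, 14, 1, 7, 15, 1, 10, 1, 15, 10, 9, 3, 1, 14, 14, 15, 7, 10, 11, 7, 13, 5, 9, 3, 15, 14, 7, 7, 13, 5, 5, 10, 7, 1, 10, 3]),
   (true, [5, 11, 9, 1, 1, 1, 10, 7, 11, 5, 10, 5, 9, 15, 5, 3, 7, 1, 3, 9, 3, 1, 7, 3, 5, 1, 5, 12, 11, 14, 5, 11, 7, 13, 13, 9, 3, 11, 3, 9, 1, 5, 13, 9, 9, 3, 1, 3, 3, 10]),
   (true, [0]),
   (true, [11, 2, 2, 0, 2, 8, 8, 12, 4, 0, 8, 2, 10, 2, 8, 12, 12, 6, 10, 4, 15, 10, 13, 4, 0, 4, 2, 6, 0, 2, 8, 2, 0, 6, 2, 4, 14, 8, 4, 11, 4, 10, 6, 11, 0, 0, 0, 8, 10, 4]),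
   (true, [2, 11, 0, 6, 11, 4, 4, 12, 6, 6, 15, 14, 2, 8, 4, 12, 6, 10, 11, 6, 14, 15, 15, 0, 2, 8, 11, 14, 0, 11, 0, 14, 6, 0, 15, 12, 11, 4, 10, 4, 4, 2, 2, 13, 2, 2, 2, 8, 2, 2]),
   (true, [10, 6, 12, 8, 15, 2, 15, 13, 12, 4, 14, 8, 2, 6, 11, 4, 15, 8, 8, 13, 2, 4, 8, 0, 2, 2, 8, 0, 12, 4, 10, 2, 15, 14, 15, 2, 0, 6, 10, 8, 15, 11, 2, 6, 0, 4, 4, 6, 4, 8]),
   (true, [10, 2, 6, 8, 4, 12, 2, 4, 6, 0, 2, 6, 15, 6, 15, 4, 4, 10, 8, 8, 4, 0, 4, 11, 6, 13, 2, 4, 8, 14, 12, 15, 4, 6, 2, 0, 2, 14, 6, 12, 2, 8, 6, 2, 12, 2, 13, 0, 8, 14]),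
   (true, [14, 14, 15, 0, 15, 12, 11, 6, 8, 6, 15, 6, 0, 0, 0, 14, 14, 4, 10, 8, 6, 11, 12, 12, 0, 12, 8, 6, 4, 2, 0, 14, 13, 14, 10, 8, 8, 8, 8, 6, 13, 0, 11, 14, 6, 8, 6, 13, 11, 8]),
   (true, [0, 10, 12, 8, 6, 8, 12, 0, 12, 6, 14, 2, 15, 8, 14, 8, 6, 2, 11, 8, 12, 13, 0, 4, 4, 6, 2, 14, 0, 13, 13, 6, 12, 8, 14, 4, 0, 12, 6, 11, 8, 2, 15, 2, 8, 15, 11, 8, 6, 2]),
   (true, [2, 2, 8, 2, 2, 2, 12, 2, 2, 4, 4, 11, 4, 10, 13, 14, 0, 6, 15, 0, 10, 0, 15, 10, 8, 2, 0, 14, 14, 15, 6, 10, 11, 6, 13, 4, 8, 2, 15, 14, 6, 6, 13, 4, 4, 10, 6, 0, 10, 2]),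
   (true, [11, 2, 8, 4, 2, 6, 4, 4, 2, 6, 11, 13, 8, 10, 13, 8, 2, 0, 10, 4, 6, 10, 2, 4, 2, 0, 2, 4, 10, 8, 11, 12, 4, 6, 15, 2, 15, 4, 11, 2, 11, 13, 8, 4, 2, 6, 0, 11, 0, 2]),
   (true, [6, 8, 4, 10, 2, 12, 10, 8, 4, 6, 0, 8, 8, 11, 8, 14, 8, 6, 0, 0, 8, 11, 6, 11, 15, 15, 15, 8, 4, 10, 11, 0, 4, 8, 4, 2, 14, 0, 11, 2, 4, 14, 13, 12, 6, 4, 13, 6, 2, 6]),
   (false, [3, 4, 5, 6, 7, 8, 9, 10, 11, 12, 13, 14, 15, 16, 17, 18, 19, 20, 21])]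

/-- The members of the generators. -/
def th5Pc : List ℕ := [2, 1, 0]

/-- The conjugating members. -/
def th5Fw : List ℕ := [22]

/-- The certificate. -/
def th5Cert : Cfsg.Lib.Schur.Prime.Cert where
  p := 5
  n := 3
  tails := [[[]], [[0, 1, 2, 2, 2, 2], []], [[0, 2], [1, 2], []]]
  overlaps := [([1, 0, 0, 0, 0, 0], 1), ([1, 1, 1, 1, 1, 0], 4)]
  fuse := [
    ([[0], [1], [2]],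
      [[0, 0, 0, 0, 2, 2], [1, 1, 1, 1, 2, 2, 2], [2]],
      [([0, 0, 0, 0, 0], []), ([1, 1, 1, 1, 1], []), ([1, 0], [0, 1, 2, 2, 2, 2]), ([2, 2, 2, 2, 2], []), ([2, 0], [0, 2]), ([2, 1], [1, 2])])]
  delta := [[], [], [(3, 4)]]
  sels := [
    [[(0, 4), (2, 3)]],
    [[], [(0, 1), (3, 3)]],
    [[(6, 3)], [(7, 3)], [(0, 4)]]]

end Cfsg.Lib.ThMult
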