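import Cfsg.Agent.ThMult.Checks
import Cfsg.Agent.ThMult.P5Data

/-!
Checks at the prime 5.
-/

set_option autoImplicit false
set_option maxRecDepth 100000
set_option maxHeartbeats 4000000
set_option exponentiation.threshold 3000
set_option Elab.async false

namespace Cfsg.Lib.ThMult

theorem th5_entry3 : entryOK th5Mats 3 (th5Defs.getD 3 (true, [])) = true := by decide +kernel

theorem th5_entry4 : entryOK th5Mats 4 (th5Defs.getD 4 (true, [])) = true := by decide +kernel

theorem th5_entry5 : entryOK th5Mats 5 (th5Defs.getD 5 (true, [])) = true := by decide +kernel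

theorem th5_entry6 : entryOK th5Mats 6 (th5Defs.getD 6 (true, [])) = true := by decide +kernel

theorem th5_entry7 : entryOK th5Mats 7 (th5Defs.getD 7 (true, [])) = true := by decide +kernel

end Cfsg.Lib.ThMult
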