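import Cfsg.Agent.ThMult.Checks
import Cfsg.Agent.ThMult.P5Data

/-!
Checks at the prime 5.
-/

set_option autoImplicit false
set_option maxRecDepth 100000
set_option maxHeartbeats 4000000
set_option exponentiation.threshold 3000
set_option Elab.async false

namespace Cfsg.Lib.ThMult

theorem th5_entry8 : entryOK th5Mats 8 (th5Defs.getD 8 (true, [])) = true := by decide +kernel

theorem th5_entry9 : entryOK th5Mats 9 (th5Defs.getD 9 (true, [])) = true := by decide +kernel

theorem th5_entry10 : entryOK th5Mats 10 (th5Defs.getD 10 (true, [])) = true := by decide +kernel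

theorem th5_entry11 : entryOK th5Mats 11 (th5Defs.getD 11 (true, [])) = true := by decide +kernel

theorem th5_entry12 : entryOK th5Mats 12 (th5Defs.getD 12 (true, [])) = true := by decide +kernel

theorem th5_entry13 : entryOK th5Mats 13 (th5Defs.getD 13 (true, [])) = true := by decide +kernel

end Cfsg.Lib.ThMult
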