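import Cfsg.Agent.ThMult.Checks
import Cfsg.Agent.ThMult.P5Data

/-!
Checks at the prime 5.
-/

set_option autoImplicit false
set_option maxRecDepth 100000
set_option maxHeartbeats 4000000
set_option exponentiation.threshold 3000
set_option Elab.async false

namespace Cfsg.Lib.ThMult

theorem th5_entry19 : entryOK th5Mats 19 (th5Defs.getD 19 (true, [])) = true := by decide +kernel

theorem th5_entry20 : entryOK th5Mats 20 (th5Defs.getD 20 (true, [])) = true := by decide +kernel

theorem th5_entry21 : entryOK th5Mats 21 (th5Defs.getD 21 (true, [])) = true := by decide +kernel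

theorem th5_entry22 : entryOK th5Mats 22 (th5Defs.getD 22 (true, [])) = true := by decide +kernel

theorem th5_rule0 : ((List.range 1).all fun i => ruleOK th5Cert th5Mats th5Pc 0 i) = true := by decide +kernel

theorem th5_rule1 : ((List.range 2).all fun i => ruleOK th5Cert th5Mats th5Pc 1 i) = true := by decide +kernel

theorem th5_rule2 : ((List.range 3).all fun i => ruleOK th5Cert th5Mats th5Pc 2 i) = true := by decide +kernel

theorem th5_fus0_0 : conjRel th5Cert th5Mats th5Pc th5Fw th5Defs.length 0 0 = true := by decide +kernel

theorem th5_fus0_1 : conjRel th5Cert th5Mats th5Pc th5Fw th5Defs.length 0 1 = true := by decide +kernel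

theorem th5_fus0_2 : conjRel th5Cert th5Mats th5Pc th5Fw th5Defs.length 0 2 = true := by decide +kernel

end Cfsg.Lib.ThMult
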