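import Cfsg.Agent.ThMult.P5Chk0
import Cfsg.Agent.ThMult.P5Chk1
import Cfsg.Agent.ThMult.P5Chk2
import Cfsg.Agent.ThMult.P5Chk3
import Cfsg.Agent.ThMult.P5Chk4

/-!
All checks at the prime 5.
-/

set_option autoImplicit false
set_option maxRecDepth 100000
set_option maxHeartbeats 4000000
set_option exponentiation.threshold 3000
set_option Elab.async false

namespace Cfsg.Lib.ThMult

theorem th5_ok : th5Cert.ok = true := by decide +kernel

theorem th5_len : th5Defs.length = 23 ∧ th5Cert.n = 3 ∧ th5Cert.p = 5 ∧ th5Cert.fuse.map (fun t => t.1.length) = [3] := by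
  decide +kernel

theorem th5_entries : ∀ i < th5Defs.length, entryOK th5Mats i (th5Defs.getD i (true, [])) = true := by
  intro i hi
  rw [th5_len.1] at hi
  interval_cases i
  exacts [th5_entry0, th5_entry1, th5_entry2, th5_entry3, th5_entry4, th5_entry5, th5_entry6, th5_entry7, th5_entry8, th5_entry9, th5_entry10, th5_entry11, th5_entry12, th5_entry13, th5_entry14, th5_entry15, th5_entry16, th5_entry17, th5_entry18, th5_entry19, th5_entry20, th5_entry21, th5_entry22]

theorem th5_rules : ∀ j < th5Cert.n, ∀ i ≤ j, ruleOK th5Cert th5Mats th5Pc j i = true := by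
  intro j hj i hi
  rw [th5_len.2.1] at hj
  interval_cases j
  all_goals first
    | exact List.all_eq_true.1 th5_rule0 i (List.mem_range.2 (by omega))
    | exact List.all_eq_true.1 th5_rule1 i (List.mem_range.2 (by omega))
    | exact List.all_eq_true.1 th5_rule2 i (List.mem_range.2 (by omega))

theorem th5_fus : ∀ f < th5Cert.fuse.length, ∀ k < (th5Cert.fuse.getD f ([], [], [])).1.length,
    conjRel th5Cert th5Mats th5Pc th5Fw th5Defs.length f k = true := by
  intro f hf k hk
  have e := th5_len.2.2.2
  have h1 : (th5Cert.fuse.map fun t => t.1.length).getD f 0 = (th5Cert.fuse.getD f ([], [], [])).1.length :=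
    List.getD_map _ ([], [], []) fun t => t.1.length
  rw [e] at h1
  rw [← h1] at hk
  have hf' : f < 1 := by
    have := congrArg List.length e
    rw [List.length_map] at this
    rw [this] at hf
    simpa using hf
  interval_cases f
  · simp only [List.getD_cons_succ, List.getD_cons_zero] at hk
    interval_cases k
    exacts [th5_fus0_0, th5_fus0_1, th5_fus0_2]

theorem th5_pc : ∀ k < 3, th5Pc.getD k 0 = 3 - 1 - k := by
  decide +kernel

end Cfsg.Lib.ThMult
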