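import Cfsg.Agent.ThMult.Checks
import Cfsg.Agent.ThRep.Order
import Cfsg.Agent.Schur.PrimeCert

/-!
Certificates for the multiplier of the presented Thompson group at one prime.
-/

set_option autoImplicit false
set_option maxRecDepth 100000
set_option exponentiation.threshold 3000

namespace Cfsg.Lib.ThMult

open Cfsg Cfsg.Lib.ThRep Cfsg.Lib.ThCert
open Cfsg.Lib.Schur.Prime (Cert val)

attribute [local irreducible] mm3 wmat prodG one248 gM redOK letGL packRows mulSeq toMN rowsM

theorem seq_eq {m : ℕ} {Ms : List (List ℕ)} {g : ℕ → GL (Fin 248) (ZMod 3)} (hg : Elems m Ms g) {u w : List ℕ}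
    (hu : ∀ k ∈ u, k < m) (hw : ∀ k ∈ w, k < m) (h : Nat.beq (mulSeq Ms one248 u) (mulSeq Ms one248 w) = true) :
    (u.map g).prod = (w.map g).prod := by
  have e1 := (prodSeq_spec hg u one248 hu one248_spec.1).2
  have e2 := (prodSeq_spec hg w one248 hw one248_spec.1).2
  rw [Nat.eq_of_beq_eq_true h, e2, one248_spec.2, Matrix.one_mul, Matrix.one_mul] at e1
  exact (Units.ext e1).symm

theorem th_not_dvd (c : Cert) (hp : c.p.Prime) (defs : List (Bool × List ℕ)) (Ms : List (List ℕ)) (pc fw : List ℕ)
    (hn : ∀ k < c.n, pc.getD k 0 < defs.length) (hdefs : ∀ i < defs.length, entryOK Ms i (defs.getD i (true, [])) = true)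
    (hc : c.ok = true) (hrules : ∀ j < c.n, ∀ i ≤ j, ruleOK c Ms pc j i = true)
    (hfus : ∀ f < c.fuse.length, ∀ k < (c.fuse.getD f ([], [], [])).1.length,
      conjRel c Ms pc fw defs.length f k = true)
    (hcard : Nat.card (Subgroup.closure ((fun k => (elList defs []).getD (pc.getD k 0) 1) '' {i | i < c.n})) = c.p ^ c.n)
    (hfact : (Nat.card Spor.Th).factorization c.p = c.n)
    {Γ : Type} [Group Γ] [Finite Γ] {σ : Γ →* Spor.Th} (hσ : Cfsg.IsStemExtension σ) :
    ¬ c.p ∣ Nat.card σ.ker := by
  haveI := th_facts.1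
  have hH : ∀ w : List ℕ, (∀ x ∈ w, x < 16) → (w.map letGL).prod ∈ rho.range := fun w hw =>
    ⟨thEl w, rho_thEl hw⟩
  obtain ⟨hg, hmem⟩ := elems_list Ms rho.range hH defs [] (fun i hi => absurd hi (Nat.not_lt_zero i))
    (fun a ha => absurd ha List.not_mem_nil) (fun i hi => by simpa using hdefs i hi)
  rw [List.length_nil, Nat.zero_add] at hg
  set g : ℕ → GL (Fin 248) (ZMod 3) := fun i => (elList defs []).getD i 1 with hgdef
  have hsur : ∀ i, ∃ a, rho a = g i := fun i => by
    rcases Nat.lt_or_ge i (elList defs []).length with h | h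
    · rw [hgdef]
      simp only [List.getD_eq_getElem _ _ h]
      exact hmem _ (List.getElem_mem h)
    · exact ⟨1, by rw [map_one, hgdef]; simp only [List.getD_eq_default _ _ h]⟩
  choose pre hpre using hsur
  set y : ℕ → Spor.Th := fun k => pre (pc.getD k 0) with hy
  have hval : ∀ l : List ℕ, rho (val y l) = ((pcWord pc l).map g).prod := by
    intro l
    induction l with
    | nil => simp [val, pcWord]
    | cons a l ih =>
      rw [Cfsg.Lib.Schur.Prime.val_cons, map_mul, ih, hy]
      simp [pcWord, hpre]
  have hlt : ∀ l : List ℕ, (∀ k ∈ l, k < c.n) → ∀ q ∈ pcWord pc l, q < defs.length := by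
    intro l hl q hq
    obtain ⟨k, hk, rfl⟩ := List.mem_map.1 hq
    exact hn k (hl k hk)
  have hr : ∀ j < c.n, ∀ i ≤ j, val y (c.lhs j i) = val y (c.tail j i) := by
    intro j hj i hi
    have h := hrules j hj i hi
    simp only [ruleOK, Bool.and_eq_true, List.all_eq_true, Nat.blt_eq, List.mem_append] at h
    refine th_facts.2.2.2 ?_
    rw [hval, hval]
    exact seq_eq hg (hlt _ fun k hk => h.1 k (Or.inl hk)) (hlt _ fun k hk => h.1 k (Or.inr hk)) h.2
  have hf : ∀ f ∈ c.fuse, ∃ a, ∀ k < f.1.length,
      a * val y (f.1.getD k []) * a⁻¹ = val y (f.2.1.getD k []) := by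
    intro f hf
    obtain ⟨i, hi, rfl⟩ := List.mem_iff_getElem.mp hf
    refine ⟨pre (fw.getD i 0), fun k hk => ?_⟩
    have h := hfus i hi k (by rwa [List.getD_eq_getElem _ _ hi])
    simp only [conjRel, Bool.and_eq_true, List.all_eq_true, Nat.blt_eq, List.getD_eq_getElem _ _ hi,
      List.mem_append] at h
    obtain ⟨⟨hall, hfw⟩, he⟩ := h
    have e := seq_eq hg (u := fw.getD i 0 :: pcWord pc (c.fuse[i].1.getD k []))
      (w := pcWord pc (c.fuse[i].2.1.getD k []) ++ [fw.getD i 0])
      (fun q hq => by
        rcases List.mem_cons.1 hq with rfl | hq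
        · exact hfw
        · exact hlt _ (fun q' h' => hall q' (Or.inl h')) q hq)
      (fun q hq => by
        rcases List.mem_append.1 hq with hq | hq
        · exact hlt _ (fun q' h' => hall q' (Or.inr h')) q hq
        · rw [List.mem_singleton] at hq; exact hq ▸ hfw) he
    rw [List.map_cons, List.prod_cons, List.map_append, List.prod_append, List.map_singleton, List.prod_singleton,
      ← hval, ← hval, ← hpre, ← map_mul, ← map_mul] at e
    rw [mul_inv_eq_iff_eq_mul]
    exact th_facts.2.2.2 e
  have himg : Subgroup.map rho (Subgroup.closure (y '' {i | i < c.n})) =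
      Subgroup.closure ((fun k => g (pc.getD k 0)) '' {i | i < c.n}) := by
    rw [MonoidHom.map_closure, Set.image_image]
    simp only [hy, hpre]
  have hcardP : Nat.card (Subgroup.closure (y '' {i | i < c.n})) = c.p ^ c.n := by
    rw [← Subgroup.card_map_of_injective th_facts.2.2.2, himg, hcard]
  exact Cfsg.Lib.Schur.Prime.Cert.not_dvd c hp hc hσ y hr hf (by rw [hcardP, hfact]) hcardP.symm

theorem headSub_congr {G : Type*} [Group G] {g h : ℕ → G} {n : ℕ} (e : ∀ i < n, g i = h i) :
    headSub g n = headSub h n := by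
  rw [headSub, headSub]
  exact congrArg Subgroup.closure (Set.image_congr fun i hi => e i hi)

theorem card_series (defs : List (Bool × List ℕ)) (ws : List (List ℕ)) (n : ℕ) (hlen : n ≤ ws.length)
    (h : defs.take n = (ws.take n).map fun w => (true, w)) :
    headSub (fun i => (elList defs []).getD i 1) n = headSub (gEl ws) n := by
  have key : ∀ (l : List (List ℕ)) (v : List (GL (Fin 248) (ZMod 3))) (i : ℕ), i < l.length →
      (elList (l.map fun w => (true, w)) v).getD (v.length + i) 1 = ((l.getD i []).map letGL).prod := by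
    intro l
    induction l with
    | nil => intro v i hi; exact absurd hi (Nat.not_lt_zero i)
    | cons w l ih =>
      intro v i hi
      rw [List.map_cons, elList]
      rcases i with _ | i
      · rw [elList_prefix _ _ _ (by simp), Nat.add_zero, List.getD_append_right _ _ _ _ le_rfl, Nat.sub_self,
          List.getD_cons_zero, List.getD_cons_zero]
      · rw [List.getD_cons_succ, ← ih (v ++ [_]) i (by simpa using hi)]
        congr 1
        simp
        omega
  have happ : ∀ (l r : List (Bool × List ℕ)) v, elList (l ++ r) v = elList r (elList l v) := by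
    intro l
    induction l with
    | nil => intro r v; rfl
    | cons d l ih => rintro r v; obtain ⟨b, w⟩ := d; cases b <;> simp [elList, ih]
  have hll : ∀ (l : List (Bool × List ℕ)) v, (elList l v).length = v.length + l.length := by
    intro l
    induction l with
    | nil => intro v; simp [elList]
    | cons d l ih => intro v; obtain ⟨b, w⟩ := d; cases b <;> simp [elList, ih] <;> omega
  refine headSub_congr fun i hi => ?_
  show (elList defs []).getD i 1 = gEl ws i
  rw [← List.take_append_drop n defs, happ, elList_prefix _ _ _ (by rw [hll, h]; simp; omega), h]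
  have := key (ws.take n) [] i (by simp; omega)
  rw [List.length_nil, Nat.zero_add] at this
  rw [this, gEl, List.getD_eq_getElem _ _ (by simp; omega), List.getD_eq_getElem _ _ (by omega),
    List.getElem_take]

/-- A series lists the generators backwards. -/
theorem closure_rev {G : Type*} [Group G] (g : ℕ → G) (pc : List ℕ) (n : ℕ)
    (h : ∀ k < n, pc.getD k 0 = n - 1 - k) :
    Subgroup.closure ((fun k => g (pc.getD k 0)) '' {i | i < n}) = headSub g n := by
  rw [headSub]
  congr 1
  ext a
  simp only [Set.mem_image, Set.mem_setOf_eq, Set.mem_Iio]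
  constructor
  · rintro ⟨k, hk, rfl⟩; exact ⟨n - 1 - k, by omega, by rw [h k hk]⟩
  · rintro ⟨i, hi, rfl⟩; exact ⟨n - 1 - i, by omega, by rw [h _ (by omega)]; congr 1; omega⟩

theorem seq_ne {m : ℕ} {Ms : List (List ℕ)} {g : ℕ → GL (Fin 248) (ZMod 3)} (hg : Elems m Ms g) {u w : List ℕ}
    (hu : ∀ k ∈ u, k < m) (hw : ∀ k ∈ w, k < m) (h : Nat.beq (mulSeq Ms one248 u) (mulSeq Ms one248 w) = false) :
    (u.map g).prod ≠ (w.map g).prod := fun e => by
  obtain ⟨r1, e1⟩ := prodSeq_spec hg u one248 hu one248_spec.1
  obtain ⟨r2, e2⟩ := prodSeq_spec hg w one248 hw one248_spec.1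
  exact Nat.ne_of_beq_eq_false h (toMN_inj r1 r2 (by rw [e1, e2, e]))

/-- Two commuting elements of the same prime order, the second outside the powers of the first. -/
theorem card_two {G : Type*} [Group G] [Finite G] {p : ℕ} (hp : p.Prime) (a b : G) (ha : a ^ p = 1) (hb : b ^ p = 1)
    (hc : a * b = b * a) (ha1 : a ≠ 1) (hsep : ∀ k < p, b ≠ a ^ k) :
    Nat.card (Subgroup.closure ({a, b} : Set G)) = p ^ 2 := by
  let f : ℕ → G := fun i => if i = 0 then a else b
  have e : ({a, b} : Set G) = f '' Set.Iio 2 := by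
    ext x
    constructor
    · rintro (rfl | rfl)
      exacts [⟨0, by norm_num, rfl⟩, ⟨1, by norm_num, rfl⟩]
    · rintro ⟨i, hi, rfl⟩
      rw [Set.mem_Iio] at hi
      interval_cases i
      exacts [Or.inl rfl, Or.inr rfl]
  rw [e]
  refine series_card hp f 2 fun i hi => ?_
  interval_cases i
  · refine ⟨by simp [f, ha], fun j hj => absurd hj (Nat.not_lt_zero j), fun h => ha1 ?_⟩
    simpa [f, headSub] using h
  · have h1 : headSub f 1 = Subgroup.zpowers a := by
      rw [headSub, Subgroup.zpowers_eq_closure]
      congr 1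
      ext x
      constructor
      · rintro ⟨j, hj, rfl⟩
        rw [Set.mem_Iio] at hj
        interval_cases j
        rfl
      · rintro rfl
        exact ⟨0, by norm_num, rfl⟩
    refine ⟨by simp [f, hb], fun j hj => ?_, fun h => ?_⟩
    · interval_cases j
      rw [h1]
      simp [f, mul_assoc, hc]
    · rw [h1, ← mem_powers_iff_mem_zpowers] at h
      obtain ⟨k, hk⟩ := h
      refine hsep (k % p) (Nat.mod_lt _ hp.pos) ?_
      have : a ^ (k % p) = a ^ k := by
        conv_rhs => rw [← Nat.mod_add_div k p, pow_add, pow_mul, ha, one_pow, mul_one]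
      rw [this]
      simpa [f] using hk.symm

end Cfsg.Lib.ThMult
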