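import Cfsg.Agent.ThMult.P7Check
import Cfsg.Agent.ThMult.Cert

/-!
The subgroup of order 49.
-/

set_option autoImplicit false
set_option maxRecDepth 100000
set_option exponentiation.threshold 3000
set_option Elab.async false

namespace Cfsg.Lib.ThMult

open Cfsg.Lib.ThRep

theorem th7_ne : Nat.beq (mulSeq th7Mats one248 [61]) (mulSeq th7Mats one248 []) = false ∧
    ((List.range 7).all fun k =>
      !Nat.beq (mulSeq th7Mats one248 [0]) (mulSeq th7Mats one248 (List.replicate k 61))) = true := by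
  decide +kernel

attribute [local irreducible] mulSeq one248 entryOK

theorem th7_card : Nat.card (Subgroup.closure
    ((fun k => (elList th7Defs []).getD (th7Pc.getD k 0) 1) '' {i | i < th7Cert.n})) = 7 ^ 2 := by
  have hH : ∀ w : List ℕ, (∀ x ∈ w, x < 16) → (w.map letGL).prod ∈ (⊤ : Subgroup _) := fun _ _ => Subgroup.mem_top _
  obtain ⟨hg, -⟩ := elems_list th7Mats ⊤ hH th7Defs [] (fun i hi => absurd hi (Nat.not_lt_zero i))
    (fun a ha => absurd ha List.not_mem_nil) (fun i hi => by simpa using th7_entries i hi)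
  rw [List.length_nil, Nat.zero_add, th7_len.1] at hg
  generalize hgd : (fun i => (elList th7Defs []).getD i 1) = g at hg
  have hg' : ∀ i, (elList th7Defs []).getD i 1 = g i := fun i => congrFun hgd i
  simp only [hg']
  rw [th7_len.2.1]
  have e : (fun k => g (th7Pc.getD k 0)) '' {i : ℕ | i < 2} = {g 61, g 0} := by
    have h0 : th7Pc.getD 0 0 = 0 := rfl
    have h1 : th7Pc.getD 1 0 = 61 := rfl
    ext x
    constructor
    · rintro ⟨i, hi, rfl⟩
      change i < 2 at hi
      interval_cases i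
      · right; show g (th7Pc.getD 0 0) = g 0; rw [h0]
      · left; show g (th7Pc.getD 1 0) = g 61; rw [h1]
    · rintro (rfl | rfl)
      · exact ⟨1, show 1 < 2 by norm_num, by show g (th7Pc.getD 1 0) = g 61; rw [h1]⟩
      · exact ⟨0, show 0 < 2 by norm_num, by show g (th7Pc.getD 0 0) = g 0; rw [h0]⟩
  have hr : ∀ j < 2, ∀ i ≤ j, ((pcWord th7Pc (th7Cert.lhs j i)).map g).prod =
      ((pcWord th7Pc (th7Cert.tail j i)).map g).prod := fun j hj i hi => by
    have h := th7_rules j (th7_len.2.1.symm ▸ hj) i hi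
    simp only [ruleOK, Bool.and_eq_true, List.all_eq_true, Nat.blt_eq, List.mem_append] at h
    have hpc : ∀ l : List ℕ, (∀ k ∈ l, k < th7Cert.n) → ∀ q ∈ pcWord th7Pc l, q < 89 := fun l hl q hq => by
      obtain ⟨k, hk, rfl⟩ := List.mem_map.1 hq
      exact th7_pc k (th7_len.2.1 ▸ hl k hk)
    exact seq_eq hg (hpc _ fun k hk => h.1 k (Or.inl hk)) (hpc _ fun k hk => h.1 k (Or.inr hk)) h.2
  have l00 : pcWord th7Pc (th7Cert.lhs 0 0) = List.replicate 7 0 ∧ pcWord th7Pc (th7Cert.tail 0 0) = [] ∧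
      pcWord th7Pc (th7Cert.lhs 1 1) = List.replicate 7 61 ∧ pcWord th7Pc (th7Cert.tail 1 1) = [] ∧
      pcWord th7Pc (th7Cert.lhs 1 0) = [61, 0] ∧ pcWord th7Pc (th7Cert.tail 1 0) = [0, 61] := by decide +kernel
  obtain ⟨a1, a2, b1, b2, c1, c2⟩ := l00
  have hb := hr 0 (by norm_num) 0 le_rfl
  have ha := hr 1 (by norm_num) 1 le_rfl
  have hc := hr 1 (by norm_num) 0 (by norm_num)
  rw [a1, a2] at hb
  rw [b1, b2] at ha
  rw [c1, c2] at hc
  rw [List.map_replicate, List.prod_replicate, List.map_nil, List.prod_nil] at ha hb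
  simp only [List.map_cons, List.map_nil, List.prod_cons, List.prod_nil, mul_one] at hc
  rw [e]
  obtain ⟨n1, n2⟩ := th7_ne
  refine card_two (by norm_num) (g 61) (g 0) ha hb hc ?_ fun k hk => ?_
  · have := seq_ne hg (u := [61]) (w := []) (by simp) (by simp) n1
    simpa using this
  · have h := List.all_eq_true.1 n2 k (List.mem_range.2 hk)
    rw [Bool.not_eq_true'] at h
    have := seq_ne hg (u := [0]) (w := List.replicate k 61) (by simp)
      (fun q hq => by rw [List.eq_of_mem_replicate hq]; norm_num) h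
    simpa using this

end Cfsg.Lib.ThMult
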