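import Cfsg.Agent.ThMult.Cert
import Cfsg.Agent.ThMult.P2Check
import Cfsg.Agent.ThMult.P3Check
import Cfsg.Agent.ThMult.P5Check
import Cfsg.Agent.ThMult.P7Card
import Cfsg.Agent.Schur.Criteria
import Cfsg.Prelude.Def_KGroupFacts

/-!
The multiplier of the presented Thompson group is trivial.
-/

set_option autoImplicit false
set_option maxRecDepth 100000
set_option exponentiation.threshold 3000
set_option Elab.async false

namespace Cfsg.Lib.ThMult

open Cfsg Cfsg.Lib.ThRep Cfsg.Lib.ThCert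

attribute [local irreducible] mulSeq one248 entryOK ruleOK conjRel

theorem fact_Th {p k : ℕ} (hp : p.Prime) (h1 : p ^ k ∣ 90745943887872000)
    (h2 : ¬ p ^ (k + 1) ∣ 90745943887872000) : (Nat.card Spor.Th).factorization p = k := by
  rw [th_facts.2.1]
  refine le_antisymm ?_ ((hp.pow_dvd_iff_le_factorization (by norm_num)).mp h1)
  by_contra h
  exact h2 ((hp.pow_dvd_iff_le_factorization (by norm_num)).mpr (by omega))

theorem th2_take : th2Defs.take 15 = (p2Words.take 15).map (fun w => (true, w)) ∧ 15 ≤ p2Words.length := by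
  decide +kernel

theorem th3_take : th3Defs.take 10 = (p3Words.take 10).map (fun w => (true, w)) ∧ 10 ≤ p3Words.length := by
  decide +kernel

theorem th5_take : th5Defs.take 3 = (p5Words.take 3).map (fun w => (true, w)) ∧ 3 ≤ p5Words.length := by
  decide +kernel

variable {Γ : Type} [Group Γ] [Finite Γ] {σ : Γ →* Spor.Th}

theorem not_two_dvd (hσ : Cfsg.IsStemExtension σ) : ¬ 2 ∣ Nat.card σ.ker := by
  obtain ⟨hlen, hn, hp, -⟩ := th2_len
  rw [← hp]
  refine th_not_dvd th2Cert (hp.symm ▸ Nat.prime_two) th2Defs th2Mats th2Pc th2Fw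
    (fun k hk => ?_) th2_entries th2_ok th2_rules th2_fus ?_ ?_ hσ
  · rw [hn] at hk
    rw [th2_pc k hk, hlen]
    omega
  · rw [hn, hp, closure_rev (fun i => (elList th2Defs []).getD i 1) th2Pc 15 th2_pc,
      card_series th2Defs p2Words 15 th2_take.2 th2_take.1, p2_card]
  · rw [hp, hn]
    exact fact_Th Nat.prime_two (by norm_num) (by norm_num)

theorem not_three_dvd (hσ : Cfsg.IsStemExtension σ) : ¬ 3 ∣ Nat.card σ.ker := by
  obtain ⟨hlen, hn, hp, -⟩ := th3_len
  rw [← hp]
  refine th_not_dvd th3Cert (hp.symm ▸ Nat.prime_three) th3Defs th3Mats th3Pc th3Fw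
    (fun k hk => ?_) th3_entries th3_ok th3_rules th3_fus ?_ ?_ hσ
  · rw [hn] at hk
    rw [th3_pc k hk, hlen]
    omega
  · rw [hn, hp, closure_rev (fun i => (elList th3Defs []).getD i 1) th3Pc 10 th3_pc,
      card_series th3Defs p3Words 10 th3_take.2 th3_take.1, p3_card]
  · rw [hp, hn]
    exact fact_Th Nat.prime_three (by norm_num) (by norm_num)

theorem not_five_dvd (hσ : Cfsg.IsStemExtension σ) : ¬ 5 ∣ Nat.card σ.ker := by
  obtain ⟨hlen, hn, hp, -⟩ := th5_len
  rw [← hp]
  refine th_not_dvd th5Cert (hp.symm ▸ (by norm_num : Nat.Prime 5)) th5Defs th5Mats th5Pc th5Fw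
    (fun k hk => ?_) th5_entries th5_ok th5_rules th5_fus ?_ ?_ hσ
  · rw [hn] at hk
    rw [th5_pc k hk, hlen]
    omega
  · rw [hn, hp, closure_rev (fun i => (elList th5Defs []).getD i 1) th5Pc 3 th5_pc,
      card_series th5Defs p5Words 3 th5_take.2 th5_take.1, p5_card]
  · rw [hp, hn]
    exact fact_Th (by norm_num) (by norm_num) (by norm_num)

theorem not_seven_dvd (hσ : Cfsg.IsStemExtension σ) : ¬ 7 ∣ Nat.card σ.ker := by
  obtain ⟨hlen, hn, hp, -⟩ := th7_len
  rw [← hp]
  refine th_not_dvd th7Cert (hp.symm ▸ (by norm_num : Nat.Prime 7)) th7Defs th7Mats th7Pc th7Fw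
    (fun k hk => ?_) th7_entries th7_ok th7_rules th7_fus ?_ ?_ hσ
  · rw [hn] at hk
    rw [hlen]
    exact th7_pc k hk
  · rw [th7_card, hp, hn]
  · rw [hp, hn]
    exact fact_Th (by norm_num) (by norm_num) (by norm_num)

theorem multiplier_Th : Cfsg.HasCyclicSchurMultiplier Spor.Th 1 := by
  haveI := th_facts.1
  refine Cfsg.Lib.Schur.hasCyclicSchurMultiplier_one_of fun Γ _ _ σ hσ => ?_
  refine Cfsg.Lib.Schur.ker_eq_bot_of_sylow hσ fun p hp => ?_
  haveI := hp
  by_cases h : p ^ 2 ∣ Nat.card Spor.Th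
  · rw [th_facts.2.1] at h
    have h1 : p ∣ 2 ^ 15 * (3 ^ 10 * (5 ^ 3 * (7 ^ 2 * (13 * (19 * 31))))) :=
      ((dvd_pow_self p two_ne_zero).trans h).trans (by norm_num)
    have hpp := hp.out
    have hq : ∀ {q k : ℕ}, q.Prime → p ∣ q ^ k → p = q := fun hq hd =>
      (Nat.prime_dvd_prime_iff_eq hpp hq).1 (hpp.dvd_of_dvd_pow hd)
    simp only [hpp.dvd_mul] at h1
    rcases h1 with h1 | h1 | h1 | h1 | h1 | h1 | h1
    · obtain rfl := hq Nat.prime_two h1; exact th2Cert.exists_sylow (not_two_dvd hσ)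
    · obtain rfl := hq Nat.prime_three h1; exact th3Cert.exists_sylow (not_three_dvd hσ)
    · obtain rfl := hq (by norm_num) h1; exact th5Cert.exists_sylow (not_five_dvd hσ)
    · obtain rfl := hq (by norm_num) h1; exact th7Cert.exists_sylow (not_seven_dvd hσ)
    all_goals
      obtain rfl := (Nat.prime_dvd_prime_iff_eq hpp (by norm_num)).1 h1
      norm_num at h
  · exact Cfsg.Lib.Schur.exists_sylow_cyclic hσ h

end Cfsg.Lib.ThMult
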