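import Cfsg.Agent.ThMult.Elems
import Cfsg.Agent.Schur.PrimeCert

/-!
The checks of a certificate on given matrices.
-/

set_option autoImplicit false
set_option maxRecDepth 100000
set_option exponentiation.threshold 3000

namespace Cfsg.Lib.ThMult

open Cfsg.Lib.ThRep
open Cfsg.Lib.Schur.Prime (Cert)

/-- The members of a word in the generators. -/
def pcWord (pc : List ℕ) (w : List ℕ) : List ℕ := w.map fun k => pc.getD k 0

/-- A rule holds. -/
noncomputable def ruleOK (c : Cert) (Ms : List (List ℕ)) (pc : List ℕ) (j i : ℕ) : Bool :=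
  ((c.lhs j i ++ c.tail j i).all fun k => Nat.blt k c.n) &&
    Nat.beq (mulSeq Ms one248 (pcWord pc (c.lhs j i))) (mulSeq Ms one248 (pcWord pc (c.tail j i)))

/-- One conjugation holds. -/
noncomputable def conjRel (c : Cert) (Ms : List (List ℕ)) (pc : List ℕ) (fw : List ℕ) (m f k : ℕ) : Bool :=
  let t := c.fuse.getD f ([], [], [])
  ((t.1.getD k [] ++ t.2.1.getD k []).all fun q => Nat.blt q c.n) && Nat.blt (fw.getD f 0) m &&
    Nat.beq (mulSeq Ms one248 (fw.getD f 0 :: pcWord pc (t.1.getD k [])))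
      (mulSeq Ms one248 (pcWord pc (t.2.1.getD k []) ++ [fw.getD f 0]))

end Cfsg.Lib.ThMult
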