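import Cfsg.Agent.ThRep.Series

/-!
Elements of the image of the presented group given by matrices and products.
-/

set_option autoImplicit false
set_option maxRecDepth 100000
set_option exponentiation.threshold 3000

namespace Cfsg.Lib.ThMult

open Cfsg.Lib.ThRep

attribute [local irreducible] mm3 wmat prodG one248 gM gEl redOK letGL packRows

/-- The matrices stand for the elements. -/
def Elems (m : ℕ) (Ms : List (List ℕ)) (g : ℕ → GL (Fin 248) (ZMod 3)) : Prop :=
  ∀ i < m, (Ms.getD i []).length = 248 ∧ (∀ b ∈ Ms.getD i [], RedN 248 b) ∧ RedN (248 * 248) (gM Ms i) ∧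
    rowsM (Ms.getD i []) = (g i).val ∧ toMN 248 (gM Ms i) = (g i).val

theorem prodSeq_spec {m : ℕ} {Ms : List (List ℕ)} {g : ℕ → GL (Fin 248) (ZMod 3)} (hg : Elems m Ms g) :
    ∀ (e : List ℕ) (A : ℕ), (∀ k ∈ e, k < m) → RedN (248 * 248) A → RedN (248 * 248) (mulSeq Ms A e) ∧
      toMN 248 (mulSeq Ms A e) = toMN 248 A * ((e.map g).prod).val
  | [], A, _, hA => ⟨hA, by simp [mulSeq]⟩
  | i :: e, A, hk, hA => by
    obtain ⟨h1, h2, -, h2', -⟩ := hg i (hk i List.mem_cons_self)
    obtain ⟨h3, h4⟩ := toMN_prod (n := 248) h1 hA h2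
    obtain ⟨h5, h6⟩ := prodSeq_spec hg e _ (fun k h => hk k (List.mem_cons_of_mem i h)) h3
    refine ⟨h5, h6.trans ?_⟩
    rw [h4, h2', Matrix.mul_assoc, List.map_cons, List.prod_cons, Units.val_mul]

attribute [local irreducible] mulSeq toMN rowsM

/-- A member is the product of some earlier members. -/
noncomputable def memberOK (Ms : List (List ℕ)) (i : ℕ) (e : List ℕ) : Bool :=
  (e.all fun k => Nat.blt k i) && Nat.beq (Ms.getD i []).length 248 && (Ms.getD i []).all (redOK 1) &&
    Nat.beq (mulSeq Ms one248 e) (gM Ms i)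

/-- A member is the matrix of a word of signed letters. -/
noncomputable def wordOK (Ms : List (List ℕ)) (i : ℕ) (w : List ℕ) : Bool :=
  (w.all fun x => Nat.blt x 16) && Nat.beq (Ms.getD i []).length 248 && (Ms.getD i []).all (redOK 1) &&
    Nat.beq (wmat w) (gM Ms i)

/-- A member is given by a word or by earlier members. -/
noncomputable def entryOK (Ms : List (List ℕ)) (i : ℕ) (d : Bool × List ℕ) : Bool :=
  bif d.1 then wordOK Ms i d.2 else memberOK Ms i d.2

/-- The elements of a list of definitions. -/
def elList : List (Bool × List ℕ) → List (GL (Fin 248) (ZMod 3)) → List (GL (Fin 248) (ZMod 3))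
  | [], v => v
  | (true, w) :: l, v => elList l (v ++ [(w.map letGL).prod])
  | (false, e) :: l, v => elList l (v ++ [(e.map fun k => v.getD k 1).prod])

theorem elList_prefix : ∀ (l : List (Bool × List ℕ)) (v : List (GL (Fin 248) (ZMod 3))) (i : ℕ), i < v.length →
    (elList l v).getD i 1 = v.getD i 1
  | [], _, _, _ => rfl
  | (true, _) :: l, v, i, h => by
    rw [elList, elList_prefix l _ i (by rw [List.length_append]; omega), List.getD_append _ _ _ _ h]
  | (false, _) :: l, v, i, h => by
    rw [elList, elList_prefix l _ i (by rw [List.length_append]; omega), List.getD_append _ _ _ _ h]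

theorem elems_snoc {Ms : List (List ℕ)} {v : List (GL (Fin 248) (ZMod 3))} {a : GL (Fin 248) (ZMod 3)}
    (hv : Elems v.length Ms fun i => v.getD i 1)
    (ha : (Ms.getD v.length []).length = 248 ∧ (Ms.getD v.length []).all (redOK 1) = true ∧
      toMN 248 (gM Ms v.length) = a.val) :
    Elems (v ++ [a]).length Ms fun i => (v ++ [a]).getD i 1 := by
  intro i hi
  rw [List.length_append, List.length_cons, List.length_nil] at hi
  rcases Nat.lt_or_ge i v.length with h | h
  · simp only [List.getD_append _ _ _ _ h]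
    exact hv i h
  · obtain rfl : i = v.length := by omega
    simp only [List.getD_append_right _ _ _ _ le_rfl, Nat.sub_self, List.getD_cons_zero]
    obtain ⟨hlen, hr, he⟩ := ha
    have hr' : ∀ b ∈ Ms.getD v.length [], RedN 248 b := fun b hb =>
      redOK_sound (n := 1) (List.all_eq_true.1 hr b hb)
    obtain ⟨h1, h2⟩ := packRows_mat hlen hr'
    have e : gM Ms v.length = packRows (Ms.getD v.length []) := by unfold gM; rfl
    exact ⟨hlen, hr', e ▸ h1, by rw [← h2, ← e, he], he⟩

theorem mem_snoc_prod {G : Type*} [Group G] (H : Subgroup G) (v : List G) (w : List ℕ)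
    (hm : ∀ a ∈ v, a ∈ H) (hlt : ∀ k ∈ w, k < v.length) :
    ∀ a ∈ v ++ [(w.map fun k => v.getD k 1).prod], a ∈ H := by
  intro a ha
  rcases List.mem_append.1 ha with ha | ha
  · exact hm a ha
  · rw [List.mem_singleton] at ha
    subst ha
    refine list_prod_mem fun c hc => ?_
    obtain ⟨k, hk, rfl⟩ := List.mem_map.1 hc
    rw [List.getD_eq_getElem _ _ (hlt k hk)]
    exact hm _ (List.getElem_mem _)

theorem mem_snoc {G : Type*} [Group G] (H : Subgroup G) (v : List G) (b : G)
    (hm : ∀ a ∈ v, a ∈ H) (hb : b ∈ H) : ∀ a ∈ v ++ [b], a ∈ H := by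
  intro a ha
  rcases List.mem_append.1 ha with ha | ha
  · exact hm a ha
  · rw [List.mem_singleton] at ha
    exact ha.symm ▸ hb

theorem elems_list (Ms : List (List ℕ)) (H : Subgroup (GL (Fin 248) (ZMod 3)))
    (hH : ∀ w : List ℕ, (∀ x ∈ w, x < 16) → (w.map letGL).prod ∈ H) :
    ∀ (l : List (Bool × List ℕ)) (v : List (GL (Fin 248) (ZMod 3))),
      Elems v.length Ms (fun i => v.getD i 1) → (∀ a ∈ v, a ∈ H) →
      (∀ i < l.length, entryOK Ms (v.length + i) (l.getD i (true, [])) = true) →
      Elems (v.length + l.length) Ms (fun i => (elList l v).getD i 1) ∧ ∀ a ∈ elList l v, a ∈ H := by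
  intro l
  induction l with
  | nil => intro v hv hm _; exact ⟨hv, hm⟩
  | cons d l ih =>
    intro v hv hm h
    have h0 := h 0 (Nat.succ_pos _)
    rw [Nat.add_zero, List.getD_cons_zero] at h0
    obtain ⟨b, w⟩ := d
    have hnext : ∀ a : GL (Fin 248) (ZMod 3), ∀ i < l.length,
        entryOK Ms ((v ++ [a]).length + i) (l.getD i (true, [])) = true := fun a i hi => by
      have := h (i + 1) (by rw [List.length_cons]; omega)
      rw [List.getD_cons_succ] at this
      rw [List.length_append, List.length_cons, List.length_nil, show v.length + (0 + 1) + i = v.length + (i + 1) by omega]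
      exact this
    have hlen : ∀ a : GL (Fin 248) (ZMod 3), (v ++ [a]).length + l.length = v.length + ((b, w) :: l).length := fun a => by
      simp only [List.length_append, List.length_cons, List.length_nil]; omega
    cases b
    · simp only [entryOK, cond_false, memberOK, Bool.and_eq_true, List.all_eq_true, Nat.blt_eq] at h0
      obtain ⟨⟨⟨hlt, hl⟩, hr⟩, he⟩ := h0
      obtain ⟨-, h2⟩ := prodSeq_spec hv w one248 hlt one248_spec.1
      rw [Nat.eq_of_beq_eq_true he, one248_spec.2, Matrix.one_mul] at h2
      have hs := elems_snoc (a := (w.map fun k => v.getD k 1).prod) hv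
        ⟨Nat.eq_of_beq_eq_true hl, List.all_eq_true.2 hr, h2⟩
      have hmem := mem_snoc_prod H v w hm hlt
      have := ih (v ++ [(w.map fun k => v.getD k 1).prod]) hs hmem (hnext _)
      rw [hlen] at this
      rw [elList]
      exact this
    · simp only [entryOK, cond_true, wordOK, Bool.and_eq_true, List.all_eq_true, Nat.blt_eq] at h0
      obtain ⟨⟨⟨hlt, hl⟩, hr⟩, he⟩ := h0
      obtain ⟨-, h2⟩ := wmat_spec hlt
      rw [Nat.eq_of_beq_eq_true he] at h2
      have hs := elems_snoc (a := (w.map letGL).prod) hv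
        ⟨Nat.eq_of_beq_eq_true hl, List.all_eq_true.2 hr, h2⟩
      have hmem := mem_snoc H v (w.map letGL).prod hm (hH w hlt)
      have := ih (v ++ [(w.map letGL).prod]) hs hmem (hnext _)
      rw [hlen] at this
      rw [elList]
      exact this

end Cfsg.Lib.ThMult
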