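import Cfsg.Agent.Schur.PrimeCert

/-!
A certificate check in parts.
-/

set_option autoImplicit false
set_option maxRecDepth 100000
set_option maxHeartbeats 4000000
set_option Elab.async false

namespace Cfsg.Lib.ThMult

open Cfsg.Lib.Schur.Prime (Cert Form comb add smul)

/-- The check of a certificate for given equations. -/
def okWith (c : Cert) (E : List (Bool × Form)) : Bool :=
  Nat.blt 1 c.p && E.all (·.1) && c.shapesOK &&
    (List.range c.n).all fun j => (List.range c.n).all fun i => Nat.blt j i ||
      ((((c.sels.getD j []).getD i []).all fun e => Nat.blt e.1 E.length) &&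
        (comb c.p E ((c.sels.getD j []).getD i []) ==
          add c.p (add c.p (c.bit j i) (c.shift (c.lhs j i))) (smul c.p (c.p - 1) (c.shift (c.tail j i)))))

theorem ok_of_eqs {c : Cert} {E : List (Bool × Form)} (h : c.eqs = E) (h2 : okWith c E = true) : c.ok = true := by
  subst h
  exact h2

/-- Some entries of a mapped list. -/
def mapChk {α : Type} (f : α → Bool × Form) (l : List α) (d : α) (E : List (Bool × Form)) (a b : ℕ) : Bool :=
  (List.range b).all fun i => Nat.ble l.length (a + i) || f (l.getD (a + i) d) == E.getD (a + i) (false, [])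

theorem map_eq_of_chk {α : Type} (f : α → Bool × Form) (l : List α) (d : α) (E : List (Bool × Form)) (w n : ℕ)
    (hlen : l.length = E.length) (hn : l.length ≤ w * n) (h : ∀ q < n, mapChk f l d E (w * q) w = true) :
    l.map f = E := by
  refine List.ext_getElem (by rw [List.length_map, hlen]) fun i hi hi' => ?_
  rw [List.length_map] at hi
  have hw : 0 < w := Nat.pos_of_ne_zero fun e => by rw [e, Nat.zero_mul] at hn; omega
  have hq : i / w < n := Nat.div_lt_of_lt_mul (lt_of_lt_of_le hi hn)
  have hc := List.all_eq_true.1 (h (i / w) hq) (i % w) (List.mem_range.2 (Nat.mod_lt _ hw))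
  rw [Nat.div_add_mod, Bool.or_eq_true, Nat.ble_eq, or_iff_right (by omega), beq_iff_eq, List.getD_eq_getElem _ _ hi, List.getD_eq_getElem _ _ hi'] at hc
  rw [List.getElem_map]
  exact hc

end Cfsg.Lib.ThMult
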