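import Cfsg.Agent.Schur.PrimeCert
import Cfsg.Agent.ThMult.P7Mat0
import Cfsg.Agent.ThMult.P7Mat1
import Cfsg.Agent.ThMult.P7Mat2
import Cfsg.Agent.ThMult.P7Mat3
import Cfsg.Agent.ThMult.P7Mat4
import Cfsg.Agent.ThMult.P7Mat5
import Cfsg.Agent.ThMult.P7Mat6
import Cfsg.Agent.ThMult.P7Mat7

/-!
A certificate at the prime 7 for the presented Thompson group.
-/

set_option autoImplicit false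
set_option maxRecDepth 100000
set_option maxHeartbeats 4000000
set_option exponentiation.threshold 3000


namespace Cfsg.Lib.ThMult

/-- The matrices. -/
def th7Mats : List (List ℕ) :=
  [th7M0 , th7M1 , th7M2 , th7M3 , th7M4 , th7M5 , th7M6 , th7M7 , th7M8 , th7M9 , th7M10 , th7M11 , th7M12 , th7M13 , th7M14 , th7M15 , th7M16 , th7M17 , th7M18 , th7M19 , th7M20 , th7M21 , th7M22 , th7M23 , th7M24 , th7M25 , th7M26 , th7M27 , th7M28 , th7M29 , th7M30 , th7M31 , th7M32 , th7M33 , th7M34 , th7M35 , th7M36 , th7M37 , th7M38 , th7M39 , th7M40 , th7M41 , th7M42 , th7M43 , th7M44 , th7M45 , th7M46 , th7M47 , th7M48 , th7M49 , th7M50 , th7M51 , th7M52 , th7M53 , th7M54 , th7M55 , th7M56 , th7M57 , th7M58 , th7M59 , th7M60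 , th7M61 , th7M62 , th7M63 , th7M64 , th7M65 , th7M66 , th7M67 , th7M68 , th7M69 , th7M70 , th7M71 , th7M72 , th7M73 , th7M74 , th7M75 , th7M76 , th7M77 , th7M78 , th7M79 , th7M80 , th7M81 , th7M82 , th7M83 , th7M84 , th7M85 , th7M86 , th7M87 , th7M88]

/-- The definitions of the members. -/
def th7Defs : List (Bool × List ℕ) :=
  [(true, [9, 10, 13, 1, 4, 9, 3, 7, 4, 2, 4, 6, 9, 2, 5, 9, 0, 5, 0, 7, 2, 5, 12, 12, 5, 4, 9, 1, 7, 3, 9, 10, 13, 1, 4, 9, 3, 7, 4, 2, 4, 6, 9, 2, 5, 9, 0, 5, 0, 7, 2, 5, 12, 12, 5, 4, 9, 1, 7, 3, 9, 10, 13, 1, 4, 9, 3, 7, 4, 2, 4, 6, 9, 2, 5, 9, 0, 5, 0, 7, 2, 5, 12, 12, 5, 4, 9, 1, 7, 3]),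
   (true, [9, 3, 14, 7, 12, 1, 13, 7, 9, 15, 12, 5, 1, 5, 9, 7, 13, 3, 11, 14, 7, 5, 15, 13, 9, 11, 7, 14, 13, 1, 1, 9, 5, 15, 13, 5, 5, 3, 13, 11, 7, 5, 5, 9, 15, 3, 3, 9, 7, 1]),
   (true, [15, 7, 12, 9, 12, 7, 15, 10, 14, 14, 3, 3, 13, 10, 10, 10, 13, 10, 7, 5, 3, 5, 1, 5, 1, 11, 14, 12, 14, 3, 3, 5, 9, 14, 5, 7, 1, 15, 11, 7, 13, 9, 7, 5, 1, 15, 3, 1, 11, 12]),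
   (true, [1, 15, 11, 14, 12, 1, 15, 5, 7, 5, 9, 1, 5, 7, 11, 14, 3, 1, 5, 7, 9, 9, 7, 7, 1, 10, 12, 3, 13, 3, 11, 5, 7, 15, 12, 3, 5, 12, 9, 3, 1, 1, 11, 9, 14, 7, 1, 11, 5, 15]),
   (true, [12, 9, 5, 7, 1, 14, 1, 7, 3, 1, 9, 9, 7, 5, 9, 15, 1, 1, 13, 7, 7, 1, 14, 11, 13, 7, 9, 14, 3, 9, 15, 3, 5, 1, 3, 13, 12, 9, 9, 1, 3, 1, 5, 3, 9, 5, 12, 3, 5, 5]),
   (true, [13, 10, 1, 3, 14, 1, 5, 7, 9, 12, 7, 10, 14, 1, 7, 5, 15, 9, 5, 3, 3, 15, 13, 15, 10, 1, 5, 1, 5, 3, 5, 7, 11, 12, 11, 11, 11, 12, 3, 3, 15, 15, 11, 14, 7, 13, 9, 13, 7, 14]),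
   (true, [1, 13, 3, 3, 13, 9, 15, 15, 13, 1, 5, 9, 9, 1, 10, 1, 12, 11, 7, 13, 13, 3, 5, 5, 13, 7, 1, 14, 15, 7, 14, 5, 11, 14, 9, 5, 3, 3, 3, 1, 12, 5, 3, 3, 5, 12, 3, 3, 7, 13]),
   (true, [1, 1, 9, 1, 11, 3, 3, 1, 9, 9, 15, 11, 9, 1, 14, 7, 1, 7, 1, 7, 7, 13, 1, 7, 5, 9, 11, 5, 9, 9, 5, 9, 5, 1, 1, 9, 10, 3, 12, 5, 10, 7, 5, 5, 9, 10, 1, 13, 5, 1]),
   (true, [7, 7, 1, 11, 1, 5, 1, 5, 3, 3, 10, 10, 12, 14, 13, 9, 7, 7, 3, 10, 3, 9, 3, 7, 5, 9, 15, 3, 3, 5, 15, 5, 9, 10, 5, 3, 9, 15, 3, 9, 1, 14, 15, 15, 7, 9, 14, 9, 9, 9]),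
   (true, [14, 5, 10, 1, 7, 15, 9, 10, 1, 1, 3, 9, 13, 5, 3, 13, 14, 7, 5, 10, 3, 12, 3, 13, 11, 1, 7, 7, 9, 9, 7, 5, 1, 3, 15, 10, 7, 5, 1, 9, 5, 7, 5, 14, 1, 13, 15, 10, 14, 1]),
   (true, [9, 3, 10, 11, 5, 9, 5, 5, 9, 12, 7, 5, 12, 9, 3, 3, 9, 9, 9, 11, 11, 9, 13, 11, 3, 9, 3, 1, 7, 1, 10, 12, 7, 11, 9, 1, 9, 7, 7, 9, 7, 13, 13, 15, 9, 9, 1, 1, 1, 1]),
   (true, [5, 1, 5, 7, 7, 3, 9, 12, 7, 7, 7, 15, 1, 3, 1, 3, 12, 13, 5, 5, 3, 10, 15, 1, 1, 12, 3, 15, 11, 15, 3, 14, 3, 5, 3, 14, 13, 10, 10, 1, 13, 7, 7, 7, 1, 15, 7, 1, 3, 9]),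
   (true, [0]),
   (true, [8, 2, 0, 6, 14, 0, 6, 6, 6, 12, 0, 11, 11, 12, 15, 2, 4, 2, 15, 2, 14, 10, 14, 2, 13, 0, 0, 14, 11, 2, 4, 4, 12, 13, 2, 0, 2, 0, 14, 6, 6, 6, 13, 8, 2, 6, 6, 4, 0, 4]),
   (true, [0, 0, 0, 0, 8, 8, 14, 12, 12, 6, 8, 6, 6, 8, 0, 8, 10, 6, 13, 11, 0, 6, 0, 2, 8, 2, 10, 12, 8, 10, 10, 8, 8, 8, 2, 2, 8, 13, 4, 6, 13, 8, 4, 4, 8, 4, 10, 11, 2, 8]),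
   (true, [0, 15, 11, 14, 12, 0, 15, 4, 6, 4, 8, 0, 4, 6, 11, 14, 2, 0, 4, 6, 8, 8, 6, 6, 0, 10, 12, 2, 13, 2, 11, 4, 6, 15, 12, 2, 4, 12, 8, 2, 0, 0, 11, 8, 14, 6, 0, 11, 4, 15]),
   (true, [8, 8, 8, 15, 8, 6, 14, 14, 15, 0, 8, 2, 14, 8, 2, 4, 11, 8, 4, 14, 4, 2, 2, 14, 8, 4, 6, 2, 8, 2, 11, 2, 6, 6, 8, 12, 15, 13, 11, 11, 2, 2, 4, 0, 4, 0, 10, 0, 6, 6]),
   (true, [13, 10, 0, 2, 14, 0, 4, 6, 8, 12, 6, 10, 14, 0, 6, 4, 15, 8, 4, 2, 2, 15, 13, 15, 10, 0, 4, 0, 4, 2, 4, 6, 11, 12, 11, 11, 11, 12, 2, 2, 15, 15, 11, 14, 6, 13, 8, 13, 6, 14]),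
   (true, [0, 4, 12, 0, 11, 8, 4, 4, 6, 11, 4, 13, 2, 11, 8, 0, 0, 4, 8, 4, 8, 8, 4, 10, 8, 4, 6, 0, 12, 6, 6, 0, 6, 0, 6, 15, 0, 8, 10, 14, 8, 8, 0, 2, 2, 10, 0, 8, 0, 0]),
   (true, [12, 6, 2, 2, 13, 4, 2, 2, 4, 13, 0, 2, 2, 2, 4, 8, 15, 10, 4, 15, 6, 14, 15, 0, 6, 12, 4, 4, 2, 12, 12, 6, 10, 13, 0, 11, 0, 8, 8, 4, 0, 12, 14, 14, 8, 12, 2, 2, 12, 0]),
   (true, [15, 6, 12, 8, 12, 6, 15, 10, 14, 14, 2, 2, 13, 10, 10, 10, 13, 10, 6, 4, 2, 4, 0, 4, 0, 11, 14, 12, 14, 2, 2, 4, 8, 14, 4, 6, 0, 15, 11, 6, 13, 8, 6, 4, 0, 15, 2, 0, 11, 12]),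
   (true, [4, 4, 2, 13, 4, 8, 2, 4, 0, 2, 0, 8, 8, 13, 12, 2, 0, 4, 2, 14, 8, 2, 15, 8, 6, 12, 10, 15, 0, 6, 6, 12, 0, 0, 14, 8, 4, 6, 8, 8, 0, 2, 6, 0, 15, 0, 6, 4, 8, 13]),
   (true, [14, 4, 10, 0, 6, 15, 8, 10, 0, 0, 2, 8, 13, 4, 2, 13, 14, 6, 4, 10, 2, 12, 2, 13, 11, 0, 6, 6, 8, 8, 6, 4, 0, 2, 15, 10, 6, 4, 0, 8, 4, 6, 4, 14, 0, 13, 15, 10, 14, 0]),
   (true, [0, 6, 8, 2, 2, 14, 8, 4, 4, 6, 10, 12, 2, 4, 4, 12, 14, 4, 8, 0, 0, 12, 15, 6, 10, 8, 12, 14, 4, 6, 15, 10, 2, 12, 6, 8, 4, 0, 4, 13, 14, 8, 6, 12, 0, 13, 6, 15, 2, 8]),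
   (false, [1, 2, 3, 4, 5, 6, 7, 2, 8, 9, 10, 11, 12, 13, 14, 15, 16, 17, 18, 19, 20, 21, 22, 17, 23]),
   (true, [5, 11, 14, 5, 7, 7, 3, 11, 7, 10, 15, 11, 10, 1, 14, 12, 9, 3, 9, 11, 5, 7, 15, 9, 5, 14, 3, 14, 1, 7, 14, 14, 7, 15, 1, 9, 7, 10, 7, 5, 7, 1, 1, 7, 7, 9, 3, 14, 11, 3]),
   (true, [1, 5, 14, 1, 9, 9, 9, 9, 5, 9, 5, 14, 12, 11, 1, 9, 10, 14, 13, 1, 13, 5, 7, 5, 15, 7, 7, 9, 1, 11, 5, 9, 7, 15, 1, 13, 13, 7, 15, 5, 15, 9, 5, 5, 9, 5, 9, 12, 7, 3]),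
   (true, [5, 5, 3, 13, 5, 9, 3, 5, 1, 3, 1, 9, 9, 13, 12, 3, 1, 5, 3, 14, 9, 3, 15, 9, 7, 12, 10, 15, 1, 7, 7, 12, 1, 1, 14, 9, 5, 7, 9, 9, 1, 3, 7, 1, 15, 1, 7, 5, 9, 13]),
   (true, [1, 5, 12, 1, 11, 9, 5, 5, 7, 11, 5, 13, 3, 11, 9, 1, 1, 5, 9, 5, 9, 9, 5, 10, 9, 5, 7, 1, 12, 7, 7, 1, 7, 1, 7, 15, 1, 9, 10, 14, 9, 9, 1, 3, 3, 10, 1, 9, 1, 1]),
   (true, [3, 7, 13, 9, 7, 14, 7, 7, 5, 12, 7, 5, 11, 14, 15, 10, 15, 7, 3, 10, 3, 13, 5, 3, 10, 15, 7, 14, 15, 5, 12, 7, 7, 13, 5, 15, 10, 3, 10, 13, 3, 10, 5, 1, 15, 3, 11, 1, 11, 3]),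
   (true, [12, 7, 3, 3, 13, 5, 3, 3, 5, 13, 1, 3, 3, 3, 5, 9, 15, 10, 5, 15, 7, 14, 15, 1, 7, 12, 5, 5, 3, 12, 12, 7, 10, 13, 1, 11, 1, 9, 9, 5, 1, 12, 14, 14, 9, 12, 3, 3, 12, 1]),
   (true, [0, 13, 2, 2, 13, 8, 15, 15, 13, 0, 4, 8, 8, 0, 10, 0, 12, 11, 6, 13, 13, 2, 4, 4, 13, 6, 0, 14, 15, 6, 14, 4, 11, 14, 8, 4, 2, 2, 2, 0, 12, 4, 2, 2, 4, 12, 2, 2, 6, 13]),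
   (true, [2, 10, 0, 10, 2, 14, 0, 4, 11, 2, 12, 11, 2, 11, 14, 4, 12, 6, 6, 13, 4, 14, 15, 6, 14, 11, 2, 4, 12, 2, 11, 2, 6, 14, 11, 14, 15, 10, 4, 6, 13, 4, 6, 6, 15, 6, 8, 12, 6, 2]),
   (true, [12, 8, 4, 6, 0, 14, 0, 6, 2, 0, 8, 8, 6, 4, 8, 15, 0, 0, 13, 6, 6, 0, 14, 11, 13, 6, 8, 14, 2, 8, 15, 2, 4, 0, 2, 13, 12, 8, 8, 0, 2, 0, 4, 2, 8, 4, 12, 2, 4, 4]),
   (true, [0, 0, 8, 0, 11, 2, 2, 0, 8, 8, 15, 11, 8, 0, 14, 6, 0, 6, 0, 6, 6, 13, 0, 6, 4, 8, 11, 4, 8, 8, 4, 8, 4, 0, 0, 8, 10, 2, 12, 4, 10, 6, 4, 4, 8, 10, 0, 13, 4, 0]),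
   (true, [2, 6, 13, 8, 4, 8, 4, 4, 8, 14, 4, 14, 6, 12, 12, 0, 14, 6, 8, 4, 10, 0, 8, 6, 6, 14, 4, 6, 4, 12, 0, 12, 15, 11, 8, 0, 10, 13, 15, 4, 8, 4, 8, 8, 8, 8, 0, 15, 4, 0]),
   (true, [2, 10, 15, 2, 8, 6, 6, 0, 0, 6, 4, 6, 11, 6, 8, 0, 14, 6, 15, 15, 6, 0, 15, 2, 15, 4, 8, 14, 6, 4, 10, 8, 2, 8, 13, 15, 0, 11, 10, 14, 11, 6, 10, 2, 6, 6, 4, 15, 10, 4]),
   (false, [25, 8, 5, 26, 9, 27, 28, 27, 29, 11, 4, 30, 11, 12, 13, 31, 21, 13, 32, 33, 34, 33, 15, 35, 20, 16, 36]),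
   (true, [14, 1, 15, 11, 5, 12, 5, 5, 3, 12, 5, 5, 5, 5, 1, 12, 9, 9, 11, 7, 7, 7, 13, 12, 1, 7, 11, 3, 5, 7, 15, 7, 7, 12, 9, 1, 13, 7, 12, 1, 3, 11, 1, 5, 3, 9, 13, 15, 1, 10]),
   (true, [9, 9, 9, 7, 7, 11, 5, 7, 14, 5, 10, 3, 3, 11, 9, 14, 10, 7, 13, 3, 1, 1, 1, 9, 7, 15, 15, 15, 1, 9, 15, 13, 12, 3, 3, 3, 15, 10, 14, 12, 7, 5, 1, 12, 7, 7, 13, 11, 12, 9]),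
   (true, [5, 13, 9, 7, 3, 1, 7, 9, 7, 1, 5, 7, 10, 1, 7, 7, 1, 1, 13, 3, 1, 9, 9, 1, 7, 3, 9, 7, 5, 12, 7, 13, 1, 3, 11, 11, 1, 13, 3, 5, 12, 13, 14, 9, 9, 5, 5, 3, 12, 1]),
   (true, [7, 5, 10, 1, 12, 5, 10, 3, 7, 10, 7, 15, 1, 10, 9, 3, 1, 13, 7, 1, 1, 14, 12, 1, 7, 9, 5, 3, 14, 5, 9, 13, 7, 1, 12, 14, 5, 7, 11, 12, 13, 12, 7, 1, 5, 5, 11, 9, 3, 5]),
   (true, [9, 7, 7, 1, 7, 1, 14, 9, 15, 9, 12, 14, 11, 14, 7, 1, 14, 14, 5, 13, 14, 3, 1, 11, 3, 7, 3, 9, 5, 12, 10, 7, 12, 5, 9, 5, 12, 13, 5, 3, 5, 14, 10, 3, 1, 5, 3, 11, 1, 7]),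
   (true, [10, 5, 13, 7, 15, 3, 1, 10, 5, 5, 7, 1, 3, 11, 9, 11, 11, 7, 3, 13, 1, 9, 1, 1, 9, 9, 15, 15, 10, 14, 7, 9, 1, 3, 3, 7, 5, 1, 14, 14, 9, 7, 10, 3, 1, 5, 5, 3, 1, 9]),
   (true, [11, 14, 10, 7, 15, 1, 13, 15, 5, 13, 1, 5, 1, 15, 11, 3, 1, 1, 3, 7, 7, 3, 15, 14, 1, 11, 7, 5, 3, 7, 5, 7, 13, 12, 10, 14, 5, 11, 1, 1, 9, 13, 14, 7, 5, 14, 15, 9, 11, 10]),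
   (true, [7, 13, 15, 12, 7, 9, 5, 9, 5, 13, 1, 10, 7, 5, 3, 7, 14, 1, 5, 13, 9, 7, 3, 15, 1, 7, 9, 7, 9, 5, 15, 3, 10, 1, 9, 9, 9, 3, 1, 12, 7, 1, 12, 15, 15, 13, 15, 14, 11, 1]),
   (true, [15, 5, 15, 7, 15, 14, 11, 3, 9, 3, 3, 13, 3, 3, 3, 11, 1, 5, 9, 3, 11, 9, 1, 11, 13, 15, 9, 13, 3, 3, 9, 9, 15, 14, 7, 5, 9, 14, 5, 11, 3, 3, 11, 7, 5, 13, 10, 13, 10, 14]),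
   (true, [10, 5, 13, 3, 9, 5, 1, 12, 10, 11, 15, 1, 5, 10, 10, 1, 11, 7, 9, 9, 15, 1, 14, 5, 3, 7, 10, 7, 3, 7, 7, 10, 15, 5, 14, 1, 7, 10, 11, 13, 14, 1, 1, 3, 9, 5, 5, 5, 10, 1]),
   (true, [14, 10, 5, 13, 12, 7, 7, 5, 14, 12, 15, 15, 7, 14, 1, 12, 3, 9, 3, 3, 1, 13, 7, 3, 5, 1, 5, 7, 15, 9, 14, 12, 13, 9, 11, 9, 10, 7, 1, 14, 11, 14, 7, 7, 5, 7, 1, 13, 5, 14]),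
   (true, [15, 4, 12, 0, 6, 4, 6, 6, 15, 10, 15, 0, 6, 11, 8, 10, 8, 12, 13, 15, 8, 14, 6, 4, 0, 4, 2, 6, 12, 0, 2, 2, 8, 2, 13, 0, 15, 6, 14, 14, 13, 15, 4, 6, 6, 13, 12, 4, 11, 15]),
   (true, [11, 0, 14, 12, 8, 2, 4, 0, 10, 2, 0, 13, 6, 12, 0, 8, 13, 6, 6, 14, 6, 4, 2, 10, 6, 0, 13, 12, 6, 6, 6, 10, 8, 8, 13, 0, 4, 4, 4, 4, 13, 2, 4, 4, 13, 4, 10, 14, 0, 15]),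
   (true, [0, 11, 4, 4, 4, 8, 2, 0, 0, 15, 12, 10, 11, 6, 0, 15, 4, 14, 11, 6, 6, 2, 6, 11, 6, 2, 4, 15, 0, 14, 8, 8, 6, 10, 0, 11, 11, 4, 0, 14, 10, 11, 13, 0, 4, 8, 2, 12, 4, 11]),
   (true, [15, 11, 12, 11, 12, 4, 6, 10, 2, 2, 10, 4, 15, 8, 4, 6, 15, 14, 8, 8, 2, 2, 12, 8, 14, 12, 10, 0, 8, 10, 2, 8, 4, 0, 10, 2, 2, 2, 12, 2, 2, 8, 2, 10, 15, 14, 6, 14, 4, 14]),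
   (true, [6, 0, 10, 2, 4, 0, 2, 11, 15, 4, 2, 4, 12, 13, 4, 8, 4, 13, 6, 11, 13, 4, 8, 2, 6, 2, 10, 0, 2, 15, 12, 4, 15, 15, 0, 6, 15, 10, 15, 13, 8, 14, 8, 15, 0, 6, 0, 6, 6, 8]),
   (true, [0, 10, 15, 14, 12, 14, 14, 13, 0, 6, 13, 0, 2, 8, 8, 8, 0, 11, 2, 14, 4, 8, 6, 8, 6, 0, 14, 2, 6, 8, 12, 4, 0, 15, 6, 2, 4, 6, 11, 0, 12, 4, 8, 4, 8, 6, 13, 14, 12, 6]),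
   (true, [11, 10, 8, 14, 15, 4, 6, 15, 12, 8, 0, 0, 10, 4, 15, 11, 13, 12, 6, 4, 6, 2, 4, 6, 10, 0, 15, 14, 2, 6, 6, 2, 0, 0, 2, 10, 14, 0, 4, 0, 12, 4, 14, 12, 0, 14, 6, 11, 15, 10]),
   (true, [4, 2, 8, 10, 4, 4, 0, 6, 13, 12, 13, 10, 6, 4, 15, 13, 0, 6, 12, 8, 4, 15, 2, 4, 8, 6, 0, 13, 15, 0, 0, 6, 12, 0, 2, 8, 11, 0, 14, 6, 11, 6, 2, 11, 4, 13, 0, 11, 4, 6]),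
   (true, [8, 0, 2, 4, 4, 0, 2, 11, 6, 8, 15, 15, 0, 4, 6, 2, 2, 0, 8, 6, 15, 11, 14, 14, 8, 8, 0, 0, 8, 0, 12, 2, 6, 10, 10, 8, 10, 2, 0, 6, 4, 4, 11, 0, 2, 14, 6, 12, 4, 11]),
   (true, [0, 13, 2, 4, 4, 8, 8, 15, 12, 13, 4, 2, 12, 0, 10, 10, 2, 0, 12, 6, 13, 4, 6, 8, 2, 6, 0, 8, 8, 0, 2, 12, 0, 0, 6, 6, 0, 11, 6, 4, 0, 6, 8, 6, 0, 2, 6, 8, 12, 4]),
   (true, [8, 13, 10, 12, 6, 6, 13, 0, 4, 6, 13, 15, 11, 14, 2, 2, 2, 13, 12, 14, 8, 0, 14, 14, 14, 6, 8, 0, 0, 0, 2, 12, 6, 11, 15, 8, 10, 2, 2, 11, 4, 15, 6, 4, 10, 6, 6, 8, 8, 8]),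
   (false, [38, 39, 40, 41, 42, 43, 42, 38, 41, 44, 45, 42, 46, 47, 38, 48, 12, 49, 50, 51, 52, 53, 54, 55, 56, 50, 53, 57, 53, 56, 58, 59, 50]),
   (false, [24, 37, 60]),
   (true, [11, 1, 14, 12, 9, 3, 5, 1, 10, 3, 1, 13, 7, 12, 1, 9, 13, 7, 7, 14, 7, 5, 3, 10, 7, 1, 13, 12, 7, 7, 7, 10, 9, 9, 13, 1, 5, 5, 5, 5, 13, 3, 5, 5, 13, 5, 10, 14, 1, 15]),
   (true, [15, 5, 12, 1, 7, 5, 7, 7, 15, 10, 15, 1, 7, 11, 9, 10, 9, 12, 13, 15, 9, 14, 7, 5, 1, 5, 3, 7, 12, 1, 3, 3, 9, 3, 13, 1, 15, 7, 14, 14, 13, 15, 5, 7, 7, 13, 12, 5, 11, 15]),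
   (true, [7, 3, 14, 12, 10, 14, 7, 9, 3, 10, 12, 12, 15, 15, 12, 14, 10, 5, 15, 5, 1, 14, 3, 3, 3, 3, 11, 5, 5, 14, 1, 5, 1, 14, 7, 14, 5, 7, 12, 3, 12, 9, 3, 9, 11, 14, 13, 13, 13, 3]),
   (true, [15, 11, 12, 11, 12, 5, 7, 10, 3, 3, 10, 5, 15, 9, 5, 7, 15, 14, 9, 9, 3, 3, 12, 9, 14, 12, 10, 1, 9, 10, 3, 9, 5, 1, 10, 3, 3, 3, 12, 3, 3, 9, 3, 10, 15, 14, 7, 14, 5, 14]),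
   (true, [3, 5, 5, 1, 10, 7, 14, 1, 15, 11, 10, 13, 10, 1, 7, 12, 9, 13, 12, 9, 1, 3, 9, 3, 3, 14, 9, 14, 15, 3, 10, 1, 10, 5, 10, 1, 12, 3, 9, 15, 3, 3, 3, 13, 7, 1, 12, 5, 7, 11]),
   (true, [7, 11, 13, 9, 10, 10, 5, 11, 10, 9, 5, 9, 11, 7, 3, 1, 14, 7, 5, 14, 1, 15, 13, 3, 9, 11, 1, 14, 12, 1, 14, 1, 15, 7, 9, 13, 1, 7, 14, 5, 3, 11, 7, 10, 7, 5, 10, 9, 7, 11]),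
   (true, [10, 6, 8, 11, 4, 6, 11, 6, 10, 2, 4, 15, 6, 0, 12, 8, 6, 14, 0, 15, 0, 13, 15, 0, 10, 8, 2, 12, 14, 0, 15, 4, 6, 15, 0, 2, 6, 10, 8, 4, 8, 11, 10, 4, 11, 11, 8, 12, 10, 6]),
   (true, [10, 6, 4, 13, 0, 6, 12, 2, 2, 2, 14, 8, 2, 13, 0, 11, 4, 11, 0, 11, 2, 14, 15, 8, 15, 2, 2, 8, 2, 0, 8, 13, 12, 8, 13, 6, 0, 11, 12, 11, 10, 14, 0, 15, 6, 11, 0, 4, 4, 2]),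
   (true, [15, 4, 15, 6, 15, 14, 11, 2, 8, 2, 2, 13, 2, 2, 2, 11, 0, 4, 8, 2, 11, 8, 0, 11, 13, 15, 8, 13, 2, 2, 8, 8, 15, 14, 6, 4, 8, 14, 4, 11, 2, 2, 11, 6, 4, 13, 10, 13, 10, 14]),
   (true, [2, 12, 12, 12, 15, 10, 8, 2, 8, 13, 2, 13, 6, 4, 15, 6, 15, 0, 4, 0, 15, 4, 4, 10, 2, 2, 2, 2, 15, 0, 4, 14, 4, 11, 15, 13, 14, 14, 13, 13, 11, 2, 8, 6, 15, 11, 13, 15, 2, 6]),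
   (true, [14, 10, 4, 13, 12, 6, 6, 4, 14, 12, 15, 15, 6, 14, 0, 12, 2, 8, 2, 2, 0, 13, 6, 2, 4, 0, 4, 6, 15, 8, 14, 12, 13, 8, 11, 8, 10, 6, 0, 14, 11, 14, 6, 6, 4, 6, 0, 13, 4, 14]),
   (true, [14, 0, 15, 11, 4, 12, 4, 4, 2, 12, 4, 4, 4, 4, 0, 12, 8, 8, 11, 6, 6, 6, 13, 12, 0, 6, 11, 2, 4, 6, 15, 6, 6, 12, 8, 0, 13, 6, 12, 0, 2, 11, 0, 4, 2, 8, 13, 15, 0, 10]),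
   (false, [40, 62, 63, 64, 65, 66, 67, 46, 38, 48, 12, 49, 50, 52, 68, 69, 70, 71, 72, 73, 58]),
   (false, [24, 74]),
   (true, [9, 3, 1, 13, 9, 15, 7, 14, 5, 9, 5, 3, 15, 15, 5, 3, 5, 7, 5, 1, 3, 12, 7, 5, 7, 15, 7, 7, 13, 5, 9, 13, 9, 10, 14, 5, 10, 7, 15, 5, 1, 9, 13, 14, 14, 5, 11, 5, 13, 3]),
   (true, [7, 7, 3, 5, 9, 12, 15, 3, 9, 1, 10, 7, 3, 10, 5, 14, 5, 15, 7, 15, 11, 9, 9, 10, 3, 5, 1, 11, 1, 7, 14, 5, 1, 13, 12, 14, 7, 7, 5, 3, 12, 14, 13, 15, 1, 14, 5, 11, 3, 5]),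
   (true, [9, 5, 7, 1, 3, 14, 10, 12, 1, 13, 7, 5, 1, 9, 13, 3, 1, 3, 14, 1, 1, 11, 13, 1, 13, 3, 5, 1, 3, 10, 3, 5, 7, 7, 13, 13, 15, 11, 7, 14, 5, 1, 12, 1, 7, 15, 12, 15, 3, 7]),
   (true, [13, 7, 1, 3, 3, 5, 3, 7, 15, 11, 5, 15, 1, 14, 1, 11, 5, 7, 5, 11, 13, 1, 9, 12, 13, 5, 5, 7, 5, 14, 7, 7, 3, 7, 7, 9, 12, 10, 3, 3, 5, 1, 3, 9, 3, 10, 13, 9, 14, 1]),
   (true, [3, 11, 7, 7, 7, 3, 9, 9, 7, 3, 12, 11, 5, 14, 3, 9, 10, 13, 15, 5, 12, 1, 10, 3, 7, 9, 15, 1, 11, 5, 9, 9, 10, 7, 13, 3, 1, 10, 7, 9, 13, 5, 7, 10, 9, 14, 9, 13, 15, 12]),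
   (true, [13, 14, 12, 9, 15, 9, 11, 7, 5, 12, 9, 7, 11, 1, 3, 12, 7, 11, 9, 9, 5, 10, 1, 14, 9, 7, 3, 11, 1, 13, 5, 14, 12, 11, 9, 3, 15, 5, 10, 13, 3, 7, 9, 9, 3, 7, 7, 7, 10, 3]),
   (true, [0, 15, 8, 12, 11, 2, 8, 2, 0, 4, 2, 2, 11, 13, 8, 6, 6, 2, 6, 6, 15, 4, 6, 4, 4, 12, 13, 8, 0, 12, 10, 4, 6, 4, 10, 0, 15, 0, 14, 4, 10, 14, 6, 2, 4, 2, 2, 0, 6, 12]),
   (true, [2, 11, 6, 6, 6, 2, 8, 8, 6, 2, 12, 11, 4, 14, 2, 8, 10, 13, 15, 4, 12, 0, 10, 2, 6, 8, 15, 0, 11, 4, 8, 8, 10, 6, 13, 2, 0, 10, 6, 8, 13, 4, 6, 10, 8, 14, 8, 13, 15, 12]),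
   (true, [4, 2, 10, 4, 15, 0, 14, 12, 15, 13, 2, 4, 6, 6, 15, 13, 12, 0, 4, 15, 6, 0, 10, 0, 4, 2, 11, 8, 8, 10, 14, 6, 14, 4, 15, 4, 11, 2, 6, 11, 0, 8, 2, 14, 13, 8, 4, 2, 6, 6]),
   (true, [6, 2, 14, 13, 14, 6, 0, 13, 0, 4, 15, 6, 10, 14, 12, 12, 6, 6, 4, 2, 11, 2, 0, 4, 2, 12, 0, 12, 10, 0, 0, 15, 2, 0, 2, 12, 8, 0, 4, 6, 12, 0, 13, 11, 15, 2, 0, 6, 4, 8]),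
   (true, [13, 14, 12, 8, 15, 8, 11, 6, 4, 12, 8, 6, 11, 0, 2, 12, 6, 11, 8, 8, 4, 10, 0, 14, 8, 6, 2, 11, 0, 13, 4, 14, 12, 11, 8, 2, 15, 4, 10, 13, 2, 6, 8, 8, 2, 6, 6, 6, 10, 2]),
   (true, [2, 12, 4, 10, 4, 15, 15, 12, 8, 0, 4, 14, 6, 11, 4, 15, 11, 8, 12, 8, 4, 12, 6, 6, 14, 6, 4, 6, 13, 2, 0, 4, 6, 4, 2, 4, 14, 14, 2, 4, 8, 4, 15, 6, 14, 8, 12, 0, 2, 8]),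
   (false, [76, 77, 78, 78, 79, 78, 80, 78, 77, 81, 79, 79, 12, 82, 82, 83, 84, 85, 86, 85, 82, 85, 85, 84, 87])]

/-- The members of the generators. -/
def th7Pc : List ℕ := [0, 61]

/-- The conjugating members. -/
def th7Fw : List ℕ := [75, 88]

/-- The certificate. -/
def th7Cert : Cfsg.Lib.Schur.Prime.Cert where
  p := 7
  n := 2
  tails := [[[]], [[0, 1], []]]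
  overlaps := []
  fuse := [
    ([[0], [1]],
      [[0], [1, 1]],
      [([0, 0, 0, 0, 0, 0, 0], []), ([1, 1, 1, 1, 1, 1, 1], []), ([1, 0], [0, 1])]),
    ([[0]],
      [[0, 0, 0, 0, 0, 0]],
      [([0, 0, 0, 0, 0, 0, 0], [])])]
  delta := [[], []]
  sels := [
    [[(3, 4)]],
    [[(2, 6)], [(1, 6)]]]

end Cfsg.Lib.ThMult
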