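import Cfsg.Agent.ThMult.Checks
import Cfsg.Agent.ThMult.P7Data

/-!
Checks at the prime 7.
-/

set_option autoImplicit false
set_option maxRecDepth 100000
set_option maxHeartbeats 4000000
set_option exponentiation.threshold 3000
set_option Elab.async false

namespace Cfsg.Lib.ThMult

theorem th7_entry55 : entryOK th7Mats 55 (th7Defs.getD 55 (true, [])) = true := by decide +kernel

theorem th7_entry56 : entryOK th7Mats 56 (th7Defs.getD 56 (true, [])) = true := by decide +kernel

theorem th7_entry57 : entryOK th7Mats 57 (th7Defs.getD 57 (true, [])) = true := by decide +kernel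

theorem th7_entry58 : entryOK th7Mats 58 (th7Defs.getD 58 (true, [])) = true := by decide +kernel

theorem th7_entry59 : entryOK th7Mats 59 (th7Defs.getD 59 (true, [])) = true := by decide +kernel

end Cfsg.Lib.ThMult
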