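import Cfsg.Agent.ThMult.Checks
import Cfsg.Agent.ThMult.P7Data

/-!
Checks at the prime 7.
-/

set_option autoImplicit false
set_option maxRecDepth 100000
set_option maxHeartbeats 4000000
set_option exponentiation.threshold 3000
set_option Elab.async false

namespace Cfsg.Lib.ThMult

theorem th7_entry60 : entryOK th7Mats 60 (th7Defs.getD 60 (true, [])) = true := by decide +kernel

theorem th7_entry61 : entryOK th7Mats 61 (th7Defs.getD 61 (true, [])) = true := by decide +kernel

theorem th7_entry62 : entryOK th7Mats 62 (th7Defs.getD 62 (true, [])) = true := by decide +kernel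

theorem th7_entry63 : entryOK th7Mats 63 (th7Defs.getD 63 (true, [])) = true := by decide +kernel

theorem th7_entry64 : entryOK th7Mats 64 (th7Defs.getD 64 (true, [])) = true := by decide +kernel

theorem th7_entry65 : entryOK th7Mats 65 (th7Defs.getD 65 (true, [])) = true := by decide +kernel

end Cfsg.Lib.ThMult
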