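import Cfsg.Agent.ThMult.Checks
import Cfsg.Agent.ThMult.P7Data

/-!
Checks at the prime 7.
-/

set_option autoImplicit false
set_option maxRecDepth 100000
set_option maxHeartbeats 4000000
set_option exponentiation.threshold 3000
set_option Elab.async false

namespace Cfsg.Lib.ThMult

theorem th7_entry66 : entryOK th7Mats 66 (th7Defs.getD 66 (true, [])) = true := by decide +kernel

theorem th7_entry67 : entryOK th7Mats 67 (th7Defs.getD 67 (true, [])) = true := by decide +kernel

theorem th7_entry68 : entryOK th7Mats 68 (th7Defs.getD 68 (true, [])) = true := by decide +kernel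

theorem th7_entry69 : entryOK th7Mats 69 (th7Defs.getD 69 (true, [])) = true := by decide +kernel

theorem th7_entry70 : entryOK th7Mats 70 (th7Defs.getD 70 (true, [])) = true := by decide +kernel

end Cfsg.Lib.ThMult
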