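import Cfsg.Agent.ThMult.Checks
import Cfsg.Agent.ThMult.P7Data

/-!
Checks at the prime 7.
-/

set_option autoImplicit false
set_option maxRecDepth 100000
set_option maxHeartbeats 4000000
set_option exponentiation.threshold 3000
set_option Elab.async false

namespace Cfsg.Lib.ThMult

theorem th7_entry71 : entryOK th7Mats 71 (th7Defs.getD 71 (true, [])) = true := by decide +kernel

theorem th7_entry72 : entryOK th7Mats 72 (th7Defs.getD 72 (true, [])) = true := by decide +kernel

theorem th7_entry73 : entryOK th7Mats 73 (th7Defs.getD 73 (true, [])) = true := by decide +kernel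

theorem th7_entry74 : entryOK th7Mats 74 (th7Defs.getD 74 (true, [])) = true := by decide +kernel

theorem th7_entry75 : entryOK th7Mats 75 (th7Defs.getD 75 (true, [])) = true := by decide +kernel

theorem th7_entry76 : entryOK th7Mats 76 (th7Defs.getD 76 (true, [])) = true := by decide +kernel

end Cfsg.Lib.ThMult
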