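import Cfsg.Agent.ThMult.Checks
import Cfsg.Agent.ThMult.P7Data

/-!
Checks at the prime 7.
-/

set_option autoImplicit false
set_option maxRecDepth 100000
set_option maxHeartbeats 4000000
set_option exponentiation.threshold 3000
set_option Elab.async false

namespace Cfsg.Lib.ThMult

theorem th7_entry77 : entryOK th7Mats 77 (th7Defs.getD 77 (true, [])) = true := by decide +kernel

theorem th7_entry78 : entryOK th7Mats 78 (th7Defs.getD 78 (true, [])) = true := by decide +kernel

theorem th7_entry79 : entryOK th7Mats 79 (th7Defs.getD 79 (true, [])) = true := by decide +kernel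

theorem th7_entry80 : entryOK th7Mats 80 (th7Defs.getD 80 (true, [])) = true := by decide +kernel

theorem th7_entry81 : entryOK th7Mats 81 (th7Defs.getD 81 (true, [])) = true := by decide +kernel

end Cfsg.Lib.ThMult
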