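import Cfsg.Agent.ThMult.Checks
import Cfsg.Agent.ThMult.P7Data

/-!
Checks at the prime 7.
-/

set_option autoImplicit false
set_option maxRecDepth 100000
set_option maxHeartbeats 4000000
set_option exponentiation.threshold 3000
set_option Elab.async false

namespace Cfsg.Lib.ThMult

theorem th7_entry87 : entryOK th7Mats 87 (th7Defs.getD 87 (true, [])) = true := by decide +kernel

theorem th7_entry88 : entryOK th7Mats 88 (th7Defs.getD 88 (true, [])) = true := by decide +kernel

theorem th7_rule0 : ((List.range 1).all fun i => ruleOK th7Cert th7Mats th7Pc 0 i) = true := by decide +kernel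

theorem th7_rule1 : ((List.range 2).all fun i => ruleOK th7Cert th7Mats th7Pc 1 i) = true := by decide +kernel

theorem th7_fus0_0 : conjRel th7Cert th7Mats th7Pc th7Fw th7Defs.length 0 0 = true := by decide +kernel

theorem th7_fus0_1 : conjRel th7Cert th7Mats th7Pc th7Fw th7Defs.length 0 1 = true := by decide +kernel

theorem th7_fus1_0 : conjRel th7Cert th7Mats th7Pc th7Fw th7Defs.length 1 0 = true := by decide +kernel

end Cfsg.Lib.ThMult
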