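import Cfsg.Agent.ThMult.Checks
import Cfsg.Agent.ThMult.P7Data

/-!
Checks at the prime 7.
-/

set_option autoImplicit false
set_option maxRecDepth 100000
set_option maxHeartbeats 4000000
set_option exponentiation.threshold 3000
set_option Elab.async false

namespace Cfsg.Lib.ThMult

theorem th7_entry15 : entryOK th7Mats 15 (th7Defs.getD 15 (true, [])) = true := by decide +kernel

theorem th7_entry16 : entryOK th7Mats 16 (th7Defs.getD 16 (true, [])) = true := by decide +kernel

theorem th7_entry17 : entryOK th7Mats 17 (th7Defs.getD 17 (true, [])) = true := by decide +kernel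

theorem th7_entry18 : entryOK th7Mats 18 (th7Defs.getD 18 (true, [])) = true := by decide +kernel

theorem th7_entry19 : entryOK th7Mats 19 (th7Defs.getD 19 (true, [])) = true := by decide +kernel

end Cfsg.Lib.ThMult
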