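import Cfsg.Agent.ThMult.Checks
import Cfsg.Agent.ThMult.P7Data

/-!
Checks at the prime 7.
-/

set_option autoImplicit false
set_option maxRecDepth 100000
set_option maxHeartbeats 4000000
set_option exponentiation.threshold 3000
set_option Elab.async false

namespace Cfsg.Lib.ThMult

theorem th7_entry25 : entryOK th7Mats 25 (th7Defs.getD 25 (true, [])) = true := by decide +kernel

theorem th7_entry26 : entryOK th7Mats 26 (th7Defs.getD 26 (true, [])) = true := by decide +kernel

theorem th7_entry27 : entryOK th7Mats 27 (th7Defs.getD 27 (true, [])) = true := by decide +kernel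

theorem th7_entry28 : entryOK th7Mats 28 (th7Defs.getD 28 (true, [])) = true := by decide +kernel

theorem th7_entry29 : entryOK th7Mats 29 (th7Defs.getD 29 (true, [])) = true := by decide +kernel

end Cfsg.Lib.ThMult
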