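import Cfsg.Agent.ThMult.P7Chk0
import Cfsg.Agent.ThMult.P7Chk1
import Cfsg.Agent.ThMult.P7Chk2
import Cfsg.Agent.ThMult.P7Chk3
import Cfsg.Agent.ThMult.P7Chk4
import Cfsg.Agent.ThMult.P7Chk5
import Cfsg.Agent.ThMult.P7Chk6
import Cfsg.Agent.ThMult.P7Chk7
import Cfsg.Agent.ThMult.P7Chk8
import Cfsg.Agent.ThMult.P7Chk9
import Cfsg.Agent.ThMult.P7Chk10
import Cfsg.Agent.ThMult.P7Chk11
import Cfsg.Agent.ThMult.P7Chk12
import Cfsg.Agent.ThMult.P7Chk13
import Cfsg.Agent.ThMult.P7Chk14
import Cfsg.Agent.ThMult.P7Chk15
import Cfsg.Agent.ThMult.P7Chk16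
import Cfsg.Agent.ThMult.P7Chk17

/-!
All checks at the prime 7.
-/

set_option autoImplicit false
set_option maxRecDepth 100000
set_option maxHeartbeats 4000000
set_option exponentiation.threshold 3000
set_option Elab.async false

namespace Cfsg.Lib.ThMult

theorem th7_ok : th7Cert.ok = true := by decide +kernel

theorem th7_len : th7Defs.length = 89 ∧ th7Cert.n = 2 ∧ th7Cert.p = 7 ∧ th7Cert.fuse.map (fun t => t.1.length) = [2, 1] := by
  decide +kernel

theorem th7_entries : ∀ i < th7Defs.length, entryOK th7Mats i (th7Defs.getD i (true, [])) = true := by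
  intro i hi
  rw [th7_len.1] at hi
  interval_cases i
  exacts [th7_entry0, th7_entry1, th7_entry2, th7_entry3, th7_entry4, th7_entry5, th7_entry6, th7_entry7, th7_entry8, th7_entry9, th7_entry10, th7_entry11, th7_entry12, th7_entry13, th7_entry14, th7_entry15, th7_entry16, th7_entry17, th7_entry18, th7_entry19, th7_entry20, th7_entry21, th7_entry22, th7_entry23, th7_entry24, th7_entry25, th7_entry26, th7_entry27, th7_entry28, th7_entry29, th7_entry30, th7_entry31, th7_entry32, th7_entry33, th7_entry34, th7_entry35, th7_entry36, th7_entry37, th7_entry38, th7_entry39, th7_entry40, th7_entry41, th7_entry42, th7_entry43, th7_entry44, th7_entry45, th7_entry46, th7_entry47, th7_entry48, th7_entry49, th7_entry50, th7_entry51, th7_entry52, th7_entry53, th7_entry54, th7_entry55, th7_entry56, th7_entry57, th7_entry58, th7_entry59, th7_entry60, th7_entry61, th7_entry62, th7_entry63, th7_entry64, th7_entry65, th7_entry66, th7_entry67, th7_entry68, th7_entry69, th7_entry70, th7_entry71, th7_entry72, th7_entry73, th7_entry74, th7_entry75, th7_entry76,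 th7_entry77, th7_entry78, th7_entry79, th7_entry80, th7_entry81, th7_entry82, th7_entry83, th7_entry84, th7_entry85, th7_entry86, th7_entry87, th7_entry88]

theorem th7_rules : ∀ j < th7Cert.n, ∀ i ≤ j, ruleOK th7Cert th7Mats th7Pc j i = true := by
  intro j hj i hi
  rw [th7_len.2.1] at hj
  interval_cases j
  all_goals first
    | exact List.all_eq_true.1 th7_rule0 i (List.mem_range.2 (by omega))
    | exact List.all_eq_true.1 th7_rule1 i (List.mem_range.2 (by omega))

theorem th7_fus : ∀ f < th7Cert.fuse.length, ∀ k < (th7Cert.fuse.getD f ([], [], [])).1.length,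
    conjRel th7Cert th7Mats th7Pc th7Fw th7Defs.length f k = true := by
  intro f hf k hk
  have e := th7_len.2.2.2
  have h1 : (th7Cert.fuse.map fun t => t.1.length).getD f 0 = (th7Cert.fuse.getD f ([], [], [])).1.length :=
    List.getD_map _ ([], [], []) fun t => t.1.length
  rw [e] at h1
  rw [← h1] at hk
  have hf' : f < 2 := by
    have := congrArg List.length e
    rw [List.length_map] at this
    rw [this] at hf
    simpa using hf
  interval_cases f
  · simp only [List.getD_cons_succ, List.getD_cons_zero] at hk
    interval_cases k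
    exacts [th7_fus0_0, th7_fus0_1]
  · simp only [List.getD_cons_succ, List.getD_cons_zero] at hk
    interval_cases k
    exacts [th7_fus1_0]

theorem th7_pc : ∀ k < 2, th7Pc.getD k 0 < 89 := by
  decide +kernel

end Cfsg.Lib.ThMult
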