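import Cfsg.Agent.ThMult.Checks
import Cfsg.Agent.ThMult.P7Data

/-!
Checks at the prime 7.
-/

set_option autoImplicit false
set_option maxRecDepth 100000
set_option maxHeartbeats 4000000
set_option exponentiation.threshold 3000
set_option Elab.async false

namespace Cfsg.Lib.ThMult

theorem th7_entry82 : entryOK th7Mats 82 (th7Defs.getD 82 (true, [])) = true := by decide +kernel

theorem th7_entry83 : entryOK th7Mats 83 (th7Defs.getD 83 (true, [])) = true := by decide +kernel

theorem th7_entry84 : entryOK th7Mats 84 (th7Defs.getD 84 (true, [])) = true := by decide +kernel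

theorem th7_entry85 : entryOK th7Mats 85 (th7Defs.getD 85 (true, [])) = true := by decide +kernel

theorem th7_entry86 : entryOK th7Mats 86 (th7Defs.getD 86 (true, [])) = true := by decide +kernel

end Cfsg.Lib.ThMult
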